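import Cfsg.Agent.TensorInv.Sym

/-!
Orthogonal families and eigenbases of orthogonal involutions (helper19).
-/

set_option autoImplicit false
set_option linter.unusedSectionVars false
set_option linter.unusedSimpArgs false

namespace Cfsg.Agent.TensorInv

open Matrix Cfsg.Agent.MaxSub Cfsg.Agent.TensorMax Module

variable {F : Type*} [Field F] {m k : ℕ}

/-- Pairwise orthogonal anisotropic vectors. -/
structure Fam (f : (Fin m → F) →ₗ[F] (Fin m → F) →ₗ[F] F) (w : Fin k → (Fin m → F)) : Prop where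
  aniso : ∀ i, f (w i) (w i) ≠ 0
  orth : ∀ i j, i ≠ j → f (w i) (w j) = 0

/-- The projection to the orthogonal space of a family. -/
def famProj (f : (Fin m → F) →ₗ[F] (Fin m → F) →ₗ[F] F) (w : Fin k → (Fin m → F)) : (Fin m → F) →ₗ[F] (Fin m → F) :=
  LinearMap.id - ∑ i, ((f (w i) (w i))⁻¹ • f (w i)).smulRight (w i)

namespace Sym

variable {f : (Fin m → F) →ₗ[F] (Fin m → F) →ₗ[F] F} (hf : Sym f)
include hf

theorem famProj_apply (w : Fin k → (Fin m → F)) (x : Fin m → F) :
    famProj f w x = x - ∑ i, ((f (w i) (w i))⁻¹ * f (w i) x) • w i := by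
  simp [famProj, LinearMap.sum_apply]

variable {w : Fin k → (Fin m → F)} (hw : Fam f w)
include hw

theorem famProj_perp (x : Fin m → F) (i : Fin k) : f (w i) (famProj f w x) = 0 := by
  rw [hf.famProj_apply, map_sub, map_sum, Finset.sum_eq_single i]
  · rw [map_smul, smul_eq_mul, mul_comm _ (f (w i) x), mul_assoc, inv_mul_cancel₀ (hw.aniso i),
      mul_one, sub_self]
  · intro j _ hj
    rw [map_smul, hw.orth i j (Ne.symm hj), smul_zero]
  · simp

theorem famProj_eq {x : Fin m → F} (hx : ∀ i, f (w i) x = 0) : famProj f w x = x := by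
  rw [hf.famProj_apply, Finset.sum_eq_zero (fun i _ => by rw [hx, mul_zero, zero_smul]), sub_zero]

theorem famProj_adj (x y : Fin m → F) :
    f (famProj f w x) y = f (famProj f w x) (famProj f w y) := by
  conv_rhs => arg 2; rw [hf.famProj_apply]
  rw [map_sub, map_sum, Finset.sum_eq_zero (fun i _ => by
    rw [map_smul, hf.symm (w i) (famProj f w x), hf.famProj_perp hw, smul_zero]), sub_zero]

theorem exists_aniso_fam (hk : k < m) : ∃ u, f u u ≠ 0 ∧ ∀ i, f (w i) u = 0 := by
  obtain ⟨x₀, hx₀, hx⟩ := exists_perp f w hk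
  obtain ⟨x, hx'⟩ := hf.exists_aniso_image (famProj f w) (hf.famProj_adj hw)
    (x₀ := x₀) (by rwa [hf.famProj_eq hw hx])
  exact ⟨_, hx', hf.famProj_perp hw x⟩

omit hf hw in
theorem _root_.Cfsg.Agent.TensorInv.Fam.cons {w : Fin k → (Fin m → F)} (hw : Fam f w)
    {u : Fin m → F} (hu : f u u ≠ 0) (h : ∀ i, f (w i) u = 0) (h' : ∀ i, f u (w i) = 0) :
    Fam f (Fin.cons u w : Fin (k + 1) → (Fin m → F)) := by
  refine ⟨fun i => ?_, fun i j => ?_⟩
  · refine Fin.cases ?_ (fun i => ?_) i
    · simpa using hu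
    · simpa using hw.aniso i
  · refine Fin.cases ?_ (fun i => ?_) i <;> refine Fin.cases ?_ (fun j => ?_) j
    · simp
    · intro _; simpa using h' j
    · intro _; simpa using h i
    · simpa using fun hij => hw.orth i j hij

/-- Three orthogonal vectors orthogonal to a family. -/
theorem exists_three_fam (hk : k + 3 ≤ m) : ∃ t : Fin 3 → (Fin m → F), Fam f t ∧
    ∀ i j, f (w i) (t j) = 0 := by
  obtain ⟨t1, h1, e1⟩ := hf.exists_aniso_fam hw (by omega)
  have hw1 := hw.cons h1 e1 (fun i => by rw [hf.symm, e1])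
  obtain ⟨t2, h2, e2⟩ := hf.exists_aniso_fam hw1 (by omega)
  have hw2 := hw1.cons h2 e2 (fun i => by rw [hf.symm, e2])
  obtain ⟨t3, h3, e3⟩ := hf.exists_aniso_fam hw2 (by omega)
  have e12 : f t1 t2 = 0 := by simpa using e2 0
  have e13 : f t1 t3 = 0 := by simpa using e3 1
  have e23 : f t2 t3 = 0 := by simpa using e3 0
  refine ⟨![t1, t2, t3], ⟨fun i => ?_, fun i j => ?_⟩, fun i j => ?_⟩
  · fin_cases i <;> simp [h1, h2, h3]
  · fin_cases i <;> fin_cases j <;>
      simp [e12, e13, e23, hf.symm t1 t2, hf.symm t1 t3, hf.symm t2 t3]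
  · fin_cases j
    · simpa using e1 i
    · simpa using e2 i.succ
    · simpa using e3 i.succ.succ

omit hw in
/-- In three orthogonal vectors: an anisotropic and a singular vector, orthogonal to each other. -/
theorem exists_good_three [Finite F] {t : Fin 3 → (Fin m → F)} (ht : Fam f t) :
    ∃ u n, f u u ≠ 0 ∧ n ≠ 0 ∧ f n n = 0 ∧ f u n = 0 ∧
      ∀ v, (∀ j, f v (t j) = 0) → f v u = 0 ∧ f v n = 0 := by
  obtain ⟨p, q, hpq⟩ := hf.exists_singular_three (ht.aniso 0) (ht.aniso 1)
    (ht.orth 0 1 (by decide)) (ht.orth 0 2 (by decide)) (ht.orth 1 2 (by decide))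
  have h01 := ht.orth 0 1 (by decide)
  have h02 := ht.orth 0 2 (by decide)
  have h12 := ht.orth 1 2 (by decide)
  set q0 := f (t 0) (t 0)
  set q1 := f (t 1) (t 1)
  have hq : q0 * p ^ 2 + q1 * q ^ 2 + f (t 2) (t 2) = 0 := by
    simp only [map_add, map_smul, LinearMap.add_apply, LinearMap.smul_apply, smul_eq_mul, h01,
      h02, h12, hf.symm (t 0) (t 1), hf.symm (t 0) (t 2), hf.symm (t 1) (t 2)] at hpq
    linear_combination hpq
  refine ⟨(q * q1) • t 0 - (p * q0) • t 1, p • t 0 + q • t 1 + t 2, ?_, fun h0 => ht.aniso 2 ?_,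
    hpq, ?_, fun v hv => ⟨?_, ?_⟩⟩
  · intro h
    refine mul_ne_zero (mul_ne_zero (ht.aniso 0) (ht.aniso 1)) (ht.aniso 2) ?_
    simp only [map_sub, map_smul, LinearMap.sub_apply, LinearMap.smul_apply, smul_eq_mul, h01,
      hf.symm (t 0) (t 1)] at h
    linear_combination (q0 * q1) * hq - h
  · have := congrArg (f (t 2)) h0
    simpa [hf.symm (t 0) (t 2), hf.symm (t 1) (t 2), h02, h12] using this
  · simp only [map_add, map_sub, map_smul, LinearMap.sub_apply, LinearMap.smul_apply, smul_eq_mul,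
      h01, h02, h12, hf.symm (t 0) (t 1)]
    ring
  · simp [hv]
  · simp [hv]

/-- An orthogonal involution has an eigenvector orthogonal to a family of eigenvectors. -/
theorem exists_eigen_fam (hk : k < m) (K : (Fin m → F) →ₗ[F] (Fin m → F))
    (hK : ∀ x y, f (K x) (K y) = f x y) (hKK : ∀ x, K (K x) = x) (σ : Fin k → F)
    (hσ : ∀ i, K (w i) = σ i • w i) (hσ' : ∀ i, σ i * σ i = 1) :
    ∃ (u : Fin m → F) (s : F), f u u ≠ 0 ∧ (∀ i, f (w i) u = 0) ∧ K u = s • u ∧ s * s = 1 := by
  obtain ⟨x₀, hx₀, hx⟩ := exists_perp f w hk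
  set P := famProj f w
  have hKw : ∀ i x, f (w i) (K x) = σ i * f (w i) x := fun i x => by
    calc f (w i) (K x) = σ i * σ i * f (w i) (K x) := by rw [hσ', one_mul]
      _ = σ i * f (K (w i)) (K x) := by
        rw [hσ, map_smul, LinearMap.smul_apply, smul_eq_mul]; ring
      _ = σ i * f (w i) x := by rw [hK]
  have hKP : ∀ x, K (P x) = P (K x) := fun x => by
    simp only [P, hf.famProj_apply, map_sub, map_sum, map_smul, hσ, hKw, smul_smul]
    congr 1
    refine Finset.sum_congr rfl fun i _ => ?_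
    congr 1
    ring
  have hadj : ∀ x y, f (K x) y = f x (K y) := fun x y => by
    conv_lhs => rw [← hKK y, hK]
  have key : ∀ (c : F) (z : Fin m → F), c * c = 1 → P z + c • K (P z) ≠ 0 →
      ∃ (u : Fin m → F) (s : F), f u u ≠ 0 ∧ (∀ i, f (w i) u = 0) ∧ K u = s • u ∧ s * s = 1 := by
    intro c z hc hz
    let Q : (Fin m → F) →ₗ[F] (Fin m → F) := (2 : F)⁻¹ • (P + c • (K ∘ₗ P))
    have hKQ : ∀ x, K (Q x) = c • Q x := fun x => by
      simp only [Q, LinearMap.smul_apply, LinearMap.add_apply, LinearMap.comp_apply, map_smul,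
        map_add, hKK]
      match_scalars <;> first
        | ring1
        | linear_combination (2 : F)⁻¹ * hc
        | linear_combination -(2 : F)⁻¹ * hc
    have hQw : ∀ x i, f (w i) (Q x) = 0 := fun x i => by
      simp [Q, P, hKw, hf.famProj_perp hw]
    obtain ⟨x, hx⟩ := hf.exists_aniso_image Q (fun x y => by
      have e1 : f (Q x) (K (P y)) = c * f (Q x) (P y) := by
        rw [← hadj, hKQ, map_smul, LinearMap.smul_apply, smul_eq_mul]
      have e2 : f (Q x) y = f (Q x) (P y) := by
        conv_rhs => rw [show P y = _ from hf.famProj_apply w y]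
        rw [map_sub, map_sum, Finset.sum_eq_zero (fun i _ => by
          rw [map_smul, hf.symm (w i) (Q x), hQw, smul_zero]), sub_zero]
      conv_rhs => arg 2; simp only [Q, LinearMap.smul_apply, LinearMap.add_apply, LinearMap.comp_apply]
      rw [map_smul, map_add, map_smul, e1, e2, smul_eq_mul, smul_eq_mul, ← mul_assoc c, hc, one_mul,
        ← two_mul, ← mul_assoc, inv_mul_cancel₀ hf.two, one_mul])
      (x₀ := z) (by
        simp only [Q, LinearMap.smul_apply, LinearMap.add_apply, LinearMap.comp_apply]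
        exact smul_ne_zero (inv_ne_zero hf.two) hz)
    exact ⟨Q x, c, hx, hQw x, hKQ x, hc⟩
  by_cases h1 : x₀ + K x₀ = 0
  · refine key (-1) x₀ (by ring) ?_
    rw [show P x₀ = x₀ from hf.famProj_eq hw hx]
    intro h2
    refine hx₀ ((smul_eq_zero.1 (show (2 : F) • x₀ = 0 from ?_)).resolve_left hf.two)
    linear_combination (norm := module) h1 + h2
  · refine key 1 x₀ (one_mul 1) ?_
    rwa [show P x₀ = x₀ from hf.famProj_eq hw hx, one_smul]

omit hw in
/-- An orthogonal involution has an orthogonal eigenbasis extending a family of eigenvectors. -/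
theorem exists_eigen_basis {k : ℕ} {w : Fin k → (Fin m → F)} (hw : Fam f w) (hk : k ≤ m)
    (K : (Fin m → F) →ₗ[F] (Fin m → F)) (hK : ∀ x y, f (K x) (K y) = f x y)
    (hKK : ∀ x, K (K x) = x) (σ : Fin k → F) (hσ : ∀ i, K (w i) = σ i • w i)
    (hσ' : ∀ i, σ i * σ i = 1) :
    ∃ (e : Fin m → (Fin m → F)) (s : Fin m → F) (ι : Fin k → Fin m),
      Fam f e ∧ (∀ i, K (e i) = s i • e i) ∧ (∀ i, s i * s i = 1) ∧ (∀ i, e (ι i) = w i) ∧
        (∀ i, s (ι i) = σ i) ∧ Function.Injective ι := by
  induction hn : m - k generalizing k with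
  | zero =>
    obtain rfl : k = m := by omega
    exact ⟨w, σ, id, hw, hσ, hσ', fun _ => rfl, fun _ => rfl, Function.injective_id⟩
  | succ j ih =>
    obtain ⟨u, c, hu, huw, hKu, hc⟩ := hf.exists_eigen_fam hw (by omega) K hK hKK σ hσ hσ'
    obtain ⟨e, s, ι, he, hs, hs', hι, hι', hinj⟩ :=
      ih (hw.cons hu huw (fun i => by rw [hf.symm, huw])) (by omega) (Fin.cons c σ)
        (fun i => Fin.cases (by simpa using hKu) (fun i => by simpa using hσ i) i)
        (fun i => Fin.cases (by simpa using hc) (fun i => by simpa using hσ' i) i) (by omega)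
    exact ⟨e, s, fun i => ι i.succ, he, hs, hs', fun i => by simpa using hι i.succ,
      fun i => by simpa using hι' i.succ, fun i j h => Fin.succ_injective _ (hinj h)⟩

omit hw in
/-- An orthogonal basis. -/
theorem eq_zero_of_basis {e : Fin m → (Fin m → F)} (he : Fam f e) {x : Fin m → F}
    (hx : ∀ i, f (e i) x = 0) : x = 0 := by
  by_contra h0
  have hli : LinearIndependent F (Fin.cons x e : Fin (m + 1) → (Fin m → F)) := by
    rw [Fintype.linearIndependent_iff]
    intro g hg
    rw [Fin.sum_univ_succ] at hg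
    simp only [Fin.cons_zero, Fin.cons_succ] at hg
    have hi : ∀ i : Fin m, g i.succ = 0 := fun i => by
      have := congrArg (f (e i)) hg
      rw [map_add, map_sum, map_smul, hx, smul_zero, zero_add, map_zero,
        Finset.sum_eq_single i (fun j _ hj => by rw [map_smul, he.orth i j (Ne.symm hj), smul_zero])
          (by simp), map_smul, smul_eq_mul] at this
      exact (mul_eq_zero.1 this).resolve_right (he.aniso i)
    refine Fin.cases ?_ hi
    simp only [hi, zero_smul, Finset.sum_const_zero, add_zero, smul_eq_zero] at hg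
    exact hg.resolve_right h0
  have := hli.fintype_card_le_finrank
  rw [finrank_fin_fun, Fintype.card_fin] at this
  omega

end Sym

end Cfsg.Agent.TensorInv
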