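import Cfsg.Agent.TensorInv.Setup

/-!
Exchanging the two factors, and root elements of a group of isometries (helper19).
-/

set_option autoImplicit false
set_option linter.unusedSectionVars false
set_option linter.unusedSimpArgs false

namespace Cfsg.Agent.TensorInv

open Matrix Cfsg.Agent.MaxSub Cfsg.Agent.TensorMax Module

variable {F : Type*} [Field F] {a b : ℕ}

/-- Exchange the coordinates of a vector. -/
def flipV (F : Type*) [Field F] (a b : ℕ) : V F a b ≃ₗ[F] V F b a where
  toFun z p := z (p.2, p.1)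
  invFun z p := z (p.2, p.1)
  map_add' _ _ := rfl
  map_smul' _ _ := rfl

theorem flipV_emb (v : Fin b → F) (x : Fin a → F) : flipV F a b (emb v x) = emb x v :=
  funext fun _ => mul_comm _ _

theorem flipV_flipV (z : V F a b) : flipV F b a (flipV F a b z) = z := rfl

/-- Exchange the two factors of the matrices. -/
def flipGL (F : Type*) [Field F] (a b : ℕ) : GL (Fin a × Fin b) F ≃* GL (Fin b × Fin a) F :=
  Cfsg.Geo.glReindex (Equiv.prodComm (Fin a) (Fin b))

theorem flipGL_act (g : GL (Fin a × Fin b) F) (z : V F a b) :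
    act (flipGL F a b g) (flipV F a b z) = flipV F a b (act g z) := by
  show (Matrix.reindex (Equiv.prodComm _ _) (Equiv.prodComm _ _)
    (g : Matrix (Fin a × Fin b) (Fin a × Fin b) F)) *ᵥ _ = _
  rw [Matrix.reindex_apply, Matrix.submatrix_mulVec_equiv]
  rfl

theorem flipGL_kr (g : GL (Fin a) F) (k : GL (Fin b) F) : flipGL F a b (kr g k) = kr k g :=
  gl_ext_emb fun v x => by
    rw [act_kr, ← flipV_emb, flipGL_act, act_kr, flipV_emb]

theorem flipGL_flipGL (g : GL (Fin a × Fin b) F) : flipGL F b a (flipGL F a b g) = g :=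
  Units.ext (Matrix.ext fun _ _ => rfl)

theorem flipGL_mem_kronecker {g : GL (Fin a × Fin b) F} :
    flipGL F a b g ∈ Cfsg.Geo.kroneckerSubgroup b a F ↔ g ∈ Cfsg.Geo.kroneckerSubgroup a b F := by
  constructor
  · rintro ⟨k, g', h⟩
    refine ⟨g', k, ?_⟩
    have h2 : flipGL F a b g = kr k g' := Units.ext h
    rw [← flipGL_flipGL g, h2, flipGL_kr]
    rfl
  · rintro ⟨g', k, h⟩
    refine ⟨k, g', ?_⟩
    rw [show g = kr g' k from Units.ext h, flipGL_kr]
    rfl

namespace TForm

variable (S : TForm F a b)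

/-- The form with the factors exchanged. -/
def swap : TForm F b a where
  f₁ := S.f₂
  f₂ := S.f₁
  ε := -S.ε
  hε := by rw [neg_mul_neg, S.hε]
  flip₁ x y := by rw [S.flip₂, neg_mul]
  flip₂ v w := by rw [S.flip₁, neg_mul, neg_neg]
  nd₁ := S.nd₂
  nd₂ := S.nd₁
  two := S.two

theorem swap_swap : S.swap.swap = S := by
  cases S
  simp [swap]

theorem swap_om (z z' : V F a b) : S.swap.om (flipV F a b z) (flipV F a b z') = S.om z z' := by
  have h : ∀ v x w y, S.swap.om (flipV F a b (emb v x)) (flipV F a b (emb w y)) =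
      S.om (emb v x) (emb w y) := fun v x w y => by
    rw [flipV_emb, flipV_emb, om_emb_emb, om_emb_emb]
    exact mul_comm _ _
  have hl : ∀ v x z', S.swap.om (flipV F a b (emb v x)) (flipV F a b z') = S.om (emb v x) z' :=
    fun v x z' => by
    conv_lhs => rw [eq_sum_emb z']
    conv_rhs => rw [eq_sum_emb z']
    rw [map_sum, ← rmap_apply S.swap.om_bilinear, ← rmap_apply S.om_bilinear, map_sum, map_sum]
    exact Finset.sum_congr rfl fun j _ => h _ _ _ _
  conv_lhs => rw [eq_sum_emb z]
  conv_rhs => rw [eq_sum_emb z]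
  rw [map_sum, om_sum_left, om_sum_left]
  exact Finset.sum_congr rfl fun j _ => hl _ _ _

theorem swap_isom {g : GL (Fin a × Fin b) F} :
    flipGL F a b g ∈ isom S.swap.om ↔ g ∈ isom S.om := by
  simp only [mem_isom]
  constructor
  · intro h u v
    have := h (flipV F a b u) (flipV F a b v)
    rw [← act_apply, ← act_apply, flipGL_act, flipGL_act, swap_om, swap_om] at this
    exact this
  · intro h u v
    obtain ⟨u, rfl⟩ := (flipV F a b).surjective u
    obtain ⟨v, rfl⟩ := (flipV F a b).surjective v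
    rw [← act_apply, ← act_apply, flipGL_act, flipGL_act, swap_om, swap_om]
    exact h u v

theorem swap_isom' {g : GL (Fin b × Fin a) F} :
    flipGL F b a g ∈ isom S.om ↔ g ∈ isom S.swap.om := by
  conv_lhs => rw [← S.swap_isom, flipGL_flipGL]

theorem flipGL_st (p : V F a b) (c : F) :
    flipGL F a b (st S.om p c) = st S.swap.om (flipV F a b p) c := by
  refine gl_ext fun z => ?_
  obtain ⟨z, rfl⟩ := (flipV F a b).surjective z
  rw [← act_apply, flipGL_act, act_apply, st_mulVec S.om_symplectic,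
    st_mulVec S.swap.om_symplectic, swap_om, map_add, map_smul]

end TForm

/-- The group with the factors exchanged. -/
abbrev flipH (H : Subgroup (GL (Fin a × Fin b) F)) : Subgroup (GL (Fin b × Fin a) F) :=
  H.comap (flipGL F b a).toMonoidHom

theorem mem_flipH {H : Subgroup (GL (Fin a × Fin b) F)} {g : GL (Fin b × Fin a) F} :
    g ∈ flipH H ↔ flipGL F b a g ∈ H := Iff.rfl

theorem Over.swap {S : TForm F a b} {H : Subgroup (GL (Fin a × Fin b) F)} (O : Over S H) :
    Over S.swap (flipH H) where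
  isom g hg := by
    rw [← flipGL_flipGL g]
    exact S.swap_isom.2 (O.isom hg)
  kr_mem g k h := by
    rw [mem_flipH, flipGL_kr]
    refine O.kr_mem k g ?_
    rw [← flipGL_kr g k]
    exact S.swap_isom'.2 h

/-- A root element centred at a doubly isotropic pure tensor. -/
def Root (S : TForm F a b) (H : Subgroup (GL (Fin a × Fin b) F)) : Prop :=
  ∃ (x : Fin a → F) (n : Fin b → F) (c : F), x ≠ 0 ∧ n ≠ 0 ∧ S.f₁ x x = 0 ∧ S.f₂ n n = 0 ∧
    c ≠ 0 ∧ st S.om (emb n x) c ∈ H

theorem Root.swap {S : TForm F a b} {H : Subgroup (GL (Fin a × Fin b) F)}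
    (h : Root S.swap (flipH H)) : Root S H := by
  obtain ⟨x, n, c, hx, hn, hxx, hnn, hc, hm⟩ := h
  refine ⟨n, x, c, hn, hx, hnn, hxx, hc, ?_⟩
  rw [mem_flipH] at hm
  rwa [← flipV_emb x n, ← TForm.flipGL_st, flipGL_flipGL] at hm

end Cfsg.Agent.TensorInv
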