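import Cfsg.Agent.TensorInv.Sym
import Cfsg.Agent.TensorInv.Swap

/-!
A non-scalar central element of a line gives a root element (helper19).
-/

set_option autoImplicit false
set_option linter.unusedSectionVars false
set_option linter.unusedSimpArgs false

namespace Cfsg.Agent.TensorInv

open Matrix Cfsg.Agent.MaxSub Cfsg.Agent.TensorMax Module

variable {F : Type*} [Field F] {a b : ℕ}

namespace Sym

variable {m : ℕ} {f : (Fin m → F) →ₗ[F] (Fin m → F) →ₗ[F] F} (hf : Sym f)
include hf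

/-- An anisotropic vector orthogonal to a singular pair. -/
theorem exists_aniso_pair (hm : 3 ≤ m) {e e' : Fin m → F} (he : f e e = 0) (he' : f e' e' = 0)
    (hee' : f e e' = 1) : ∃ s, f e s = 0 ∧ f e' s = 0 ∧ f s s ≠ 0 := by
  have he'e : f e' e = 1 := by rw [hf.symm, hee']
  let P : (Fin m → F) →ₗ[F] (Fin m → F) :=
    LinearMap.id - (f e').smulRight e - (f e).smulRight e'
  have hP1 : ∀ x, f e (P x) = 0 := fun x => by simp [P, he, hee']
  have hP2 : ∀ x, f e' (P x) = 0 := fun x => by simp [P, he', he'e]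
  obtain ⟨x₀, hx₀, hx⟩ := exists_perp f ![e, e'] (by omega)
  have hfix : P x₀ = x₀ := by
    have h0 := hx 0
    have h1 := hx 1
    simp at h0 h1
    simp [P, h0, h1]
  obtain ⟨x, hx'⟩ := hf.exists_aniso_image P (fun x y => by
    conv_rhs => arg 2; rw [show P y = y - f e' y • e - f e y • e' from rfl]
    rw [map_sub, map_sub, map_smul, map_smul, hf.symm e (P x), hf.symm e' (P x), hP1, hP2,
      smul_zero, smul_zero, sub_zero, sub_zero]) (x₀ := x₀) (by rwa [hfix])
  exact ⟨P x, hP1 x, hP2 x, hx'⟩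

/-- A further anisotropic vector orthogonal to a singular pair and an anisotropic vector. -/
theorem exists_aniso_pair₂ (hm : 4 ≤ m) {e e' t : Fin m → F} (he : f e e = 0) (he' : f e' e' = 0)
    (hee' : f e e' = 1) (het : f e t = 0) (he't : f e' t = 0) (ht : f t t ≠ 0) :
    ∃ s, f e s = 0 ∧ f e' s = 0 ∧ f t s = 0 ∧ f s s ≠ 0 := by
  have he'e : f e' e = 1 := by rw [hf.symm, hee']
  have hte : f t e = 0 := by rw [hf.symm, het]
  have hte' : f t e' = 0 := by rw [hf.symm, he't]
  let P : (Fin m → F) →ₗ[F] (Fin m → F) :=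
    LinearMap.id - (f e').smulRight e - (f e).smulRight e' - ((f t t)⁻¹ • f t).smulRight t
  have hP1 : ∀ x, f e (P x) = 0 := fun x => by simp [P, he, hee', het]
  have hP2 : ∀ x, f e' (P x) = 0 := fun x => by simp [P, he', he'e, he't]
  have hP3 : ∀ x, f t (P x) = 0 := fun x => by simp [P, hte, hte']; field_simp; ring
  obtain ⟨x₀, hx₀, hx⟩ := exists_perp f ![e, e', t] (by omega)
  have hfix : P x₀ = x₀ := by
    have h0 := hx 0
    have h1 := hx 1
    have h2 := hx 2
    simp at h0 h1 h2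
    simp [P, h0, h1, h2]
  obtain ⟨x, hx'⟩ := hf.exists_aniso_image P (fun x y => by
    conv_rhs =>
      arg 2
      rw [show P y = y - f e' y • e - f e y • e' - ((f t t)⁻¹ * f t y) • t from rfl]
    rw [map_sub, map_sub, map_sub, map_smul, map_smul, map_smul, hf.symm e (P x),
      hf.symm e' (P x), hf.symm t (P x), hP1, hP2, hP3,
      smul_zero, smul_zero, smul_zero, sub_zero, sub_zero, sub_zero]) (x₀ := x₀) (by rwa [hfix])
  exact ⟨P x, hP1 x, hP2 x, hP3 x, hx'⟩

end Sym

variable (S : TForm F a b) (H : Subgroup (GL (Fin a × Fin b) F))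

/-- The coefficients of the central elements of a line. -/
def IsCoef (n : Fin b → F) (ψ : (Fin a → F) →ₗ[F] (Fin a → F)) : Prop :=
  ∃ u ∈ H, ∀ z, act u z = z + emb n (ψ (S.pi n z))

variable {S H} {n n' : Fin b → F}

theorem IsCoef.add (hnn : S.f₂ n n = 0) {ψ ψ' : (Fin a → F) →ₗ[F] (Fin a → F)}
    (h : IsCoef S H n ψ) (h' : IsCoef S H n ψ') : IsCoef S H n (ψ + ψ') := by
  obtain ⟨u, hu, hux⟩ := h
  obtain ⟨u', hu', hux'⟩ := h'
  refine ⟨u * u', mul_mem hu hu', fun z => ?_⟩
  rw [act_mul, hux', hux, map_add (S.pi n), S.pi_emb, hnn, zero_smul, add_zero, LinearMap.add_apply,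
    map_add]
  abel

theorem IsCoef.neg (hnn : S.f₂ n n = 0) {ψ : (Fin a → F) →ₗ[F] (Fin a → F)}
    (h : IsCoef S H n ψ) : IsCoef S H n (-ψ) := by
  obtain ⟨u, hu, hux⟩ := h
  refine ⟨u⁻¹, inv_mem hu, fun z => act_injective u ?_⟩
  rw [act_act_inv, hux, map_add (S.pi n), S.pi_emb, hnn, zero_smul, add_zero, LinearMap.neg_apply,
    map_neg]
  abel

theorem IsCoef.sub (hnn : S.f₂ n n = 0) {ψ ψ' : (Fin a → F) →ₗ[F] (Fin a → F)}
    (h : IsCoef S H n ψ) (h' : IsCoef S H n ψ') : IsCoef S H n (ψ - ψ') :=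
  sub_eq_add_neg ψ ψ' ▸ h.add hnn (h'.neg hnn)

theorem IsCoef.conj (O : Over S H) {ψ : (Fin a → F) →ₗ[F] (Fin a → F)} (h : IsCoef S H n ψ)
    {g : GL (Fin a) F} (hg : ∀ x y, S.f₁ (act g x) (act g y) = S.f₁ x y) :
    IsCoef S H n (act g ∘ₗ ψ ∘ₗ act g⁻¹) := by
  obtain ⟨u, hu, hux⟩ := h
  refine ⟨kr g 1 * u * (kr g 1)⁻¹, mul_mem (mul_mem (O.left hg) hu) (inv_mem (O.left hg)),
    fun z => ?_⟩
  have e : S.pi n (act (kr g 1)⁻¹ z) = act g⁻¹ (S.pi n z) := by
    rw [kr_inv, inv_one, S.pi_kr g⁻¹ (k := 1) (fun v w => by rw [act_one, act_one]), inv_one,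
      act_one]
  rw [act_mul, act_mul, hux, e, map_add, act_act_inv, act_kr, act_one]
  rfl

/-- The associated form is symmetric. -/
theorem IsCoef.symm (O : Over S H) (P : Pair S n n') {ψ : (Fin a → F) →ₗ[F] (Fin a → F)}
    (h : IsCoef S H n ψ) (x y : Fin a → F) : S.f₁ y (ψ x) = S.f₁ x (ψ y) := by
  obtain ⟨u, hu, hux⟩ := h
  have := S.om_act (O.isom hu) (emb n' x) (emb n' y)
  simp only [hux, P.pi_n', TForm.om_add_left, TForm.om_add_right, TForm.om_emb_emb, P.nn, P.n'n',
    P.nn', P.n'n, mul_zero, add_zero, zero_add, mul_one] at this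
  rw [S.flip₁ (ψ x) y]
  linear_combination S.ε * this + S.f₁ x (ψ y) * S.hε

theorem root_of_coef (hnn : S.f₂ n n = 0) (hn : n ≠ 0) {ψ : (Fin a → F) →ₗ[F] (Fin a → F)}
    (h : IsCoef S H n ψ) {e : Fin a → F} (he : e ≠ 0) (hee : S.f₁ e e = 0) {K : F} (hK : K ≠ 0)
    (hψ : ∀ x, ψ x = (K * S.f₁ e x) • e) : Root S H := by
  obtain ⟨u, hu, hux⟩ := h
  refine ⟨e, n, -K, he, hn, hee, hnn, neg_ne_zero.2 hK, ?_⟩
  convert hu using 1
  refine gl_ext fun z => ?_
  rw [st_mulVec S.om_symplectic, ← act_apply u, hux, hψ, S.om_emb_right, map_smul]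
  congr 2
  ring

/-- The torus of a singular pair. -/
noncomputable def dil (S : TForm F a b) (n n' : Fin b → F) (c d : F) :
    (Fin b → F) →ₗ[F] (Fin b → F) :=
  LinearMap.id + (((c - 1) * -S.ε) • S.f₂ n').smulRight n + ((d - 1) • S.f₂ n).smulRight n'

theorem dil_dil (P : Pair S n n') {c d c' d' : F} (hc : c * c' = 1) (hd : d * d' = 1)
    (w : Fin b → F) : dil S n n' c d (dil S n n' c' d' w) = w := by
  simp only [dil, LinearMap.add_apply, LinearMap.id_apply, LinearMap.smulRight_apply,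
    LinearMap.smul_apply, smul_eq_mul, map_add, map_smul, P.nn, P.nn', P.n'n, P.n'n', mul_zero,
    add_zero, zero_add]
  match_scalars
  · ring
  · linear_combination (-S.ε) * S.f₂ n' w * hc +
      (c - 1) * (c' - 1) * (-S.ε) * S.f₂ n' w * S.hε
  · linear_combination S.f₂ n w * hd

theorem IsCoef.scale (O : Over S H) (P : Pair S n n') {ψ : (Fin a → F) →ₗ[F] (Fin a → F)}
    (h : IsCoef S H n ψ) {t : F} (ht : t ≠ 0) : IsCoef S H n (t ^ 2 • ψ) := by
  obtain ⟨u, hu, hux⟩ := h
  let k : GL (Fin b) F := mkGL (dil S n n' t t⁻¹) (dil S n n' t⁻¹ t)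
    (dil_dil P (mul_inv_cancel₀ ht) (inv_mul_cancel₀ ht))
    (dil_dil P (inv_mul_cancel₀ ht) (mul_inv_cancel₀ ht))
  have hk : ∀ v w, S.f₂ (act k v) (act k w) = S.f₂ v w := fun v w => by
    simp only [act_apply, k, mkGL_mulVec, dil, LinearMap.add_apply, LinearMap.id_apply,
      LinearMap.smulRight_apply, LinearMap.smul_apply, smul_eq_mul, map_add, map_smul,
      LinearMap.add_apply, LinearMap.smul_apply, smul_eq_mul, P.nn, P.nn', P.n'n, P.n'n', mul_zero,
      add_zero, zero_add, mul_one, S.flip₂ n v, S.flip₂ n' v]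
    field_simp
    linear_combination ((t - 1) * S.f₂ n v * S.f₂ n' w) * S.hε
  have hkn : act k n = t • n := by
    simp only [act_apply, k, mkGL_mulVec, dil, LinearMap.add_apply, LinearMap.id_apply,
      LinearMap.smulRight_apply, LinearMap.smul_apply, smul_eq_mul, P.nn, P.n'n, mul_zero, zero_smul,
      add_zero]
    rw [mul_assoc, neg_mul_neg, S.hε]
    module
  refine ⟨kr 1 k * u * (kr 1 k)⁻¹, mul_mem (mul_mem (O.right hk) hu) (inv_mem (O.right hk)),
    fun z => ?_⟩
  have e : S.pi n (act (kr (1 : GL (Fin a) F) k)⁻¹ z) = t • S.pi n z := by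
    rw [kr_inv, inv_one]
    rw [S.pi_kr (1 : GL (Fin a) F) (k := k⁻¹)
      (fun v w => by rw [← hk, act_act_inv, act_act_inv]), act_one, inv_inv, hkn, S.pi_smul]
  rw [act_mul, act_mul, hux, e, map_add, act_act_inv, act_kr, act_one, hkn, emb_smul_left,
    map_smul, map_smul, smul_smul, LinearMap.smul_apply, map_smul, sq]

/-- Central elements are scalar when the first factor is symplectic. -/
theorem cent_alt (O : Over S H) (hε : S.ε = -1) (P : Pair S n n') (hR : ¬ Root S H) :
    Cent S H n := by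
  intro u hu ψ hψ
  have hcf : IsCoef S H n ψ := ⟨u, hu, hψ⟩
  have halt := S.alt₁ hε
  obtain ⟨e, he⟩ | h0 : (∃ e, S.f₁ e (ψ e) ≠ 0) ∨ ∀ e, S.f₁ e (ψ e) = 0 := by
    by_cases h : ∃ e, S.f₁ e (ψ e) ≠ 0
    · exact Or.inl h
    · exact Or.inr fun e => by_contra fun h' => h ⟨e, h'⟩
  · exfalso
    refine hR ?_
    have hg : ∀ c, IsCoef S H n (act (trans S.f₁ halt e c) ∘ₗ ψ ∘ₗ act (trans S.f₁ halt e (-c))) :=
      fun c => by
        have := hcf.conj O (trans_form halt (S.skew₁ hε) e c)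
        rwa [trans_inv] at this
    refine root_of_coef P.nn P.ne (((hg 1).add P.nn (hg (-1))).sub P.nn (hcf.add P.nn hcf))
      (e := e) (fun h => he (by rw [h, map_zero, LinearMap.zero_apply])) (halt e)
      (K := -2 * S.f₁ e (ψ e)) (mul_ne_zero (neg_ne_zero.2 S.two) he) fun x => ?_
    simp only [LinearMap.sub_apply, LinearMap.add_apply, LinearMap.comp_apply, trans_apply halt,
      map_add, map_smul, smul_eq_mul, neg_neg]
    module
  · refine ⟨0, fun x => ?_⟩
    rw [zero_smul]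
    refine S.nd₁' fun y => ?_
    have h := h0 (x + y)
    simp only [map_add, LinearMap.add_apply, h0, hcf.symm O P y x] at h
    exact (mul_eq_zero.1 (show (2 : F) * S.f₁ y (ψ x) = 0 by linear_combination h)).resolve_left S.two

/-- Central elements are scalar when the first factor is orthogonal. -/
theorem cent_symm [Finite F] (O : Over S H) (hε : S.ε = 1) (ha : 3 ≤ a)
    (hbig : 4 ≤ a ∨ ∃ t : F, t ≠ 0 ∧ t ^ 2 ≠ 1) (P : Pair S n n') (hR : ¬ Root S H) :
    Cent S H n := by
  intro u hu ψ hψ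
  have hcf : IsCoef S H n ψ := ⟨u, hu, hψ⟩
  have hsy := hcf.symm O P
  have hf := S.sym₁ hε
  by_cases hiso : ∃ e, e ≠ 0 ∧ S.f₁ e e = 0 ∧ S.f₁ e (ψ e) ≠ 0
  · exfalso
    obtain ⟨e, he, hee, hΦ⟩ := hiso
    refine hR ?_
    obtain ⟨e', he'e', hee'⟩ := exists_partner S.two hf.symm hf.nd he hee
    obtain ⟨s, hes, -, hss⟩ := hf.exists_aniso_pair ha hee he'e' hee'
    have hE : ∀ r, S.f₁ e r = 0 → ∃ ψ', IsCoef S H n ψ' ∧ ∀ x y, S.f₁ x (ψ' y) =
        2 * (S.f₁ r r / 2) ^ 2 * S.f₁ e (ψ e) * S.f₁ e x * S.f₁ e y +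
        2 * (S.f₁ e x * S.f₁ e y * S.f₁ r (ψ r) -
          (S.f₁ e x * S.f₁ r y + S.f₁ r x * S.f₁ e y) * S.f₁ r (ψ e) +
          S.f₁ r x * S.f₁ r y * S.f₁ e (ψ e) -
          S.f₁ r r / 2 * (S.f₁ e y * S.f₁ x (ψ e) + S.f₁ e x * S.f₁ e (ψ y))) := by
      intro r hr
      have hg : ∀ r, S.f₁ e r = 0 → ∀ v, act (eich S.swap e r) v =
          v + S.f₁ e v • r + (-1 * S.f₁ r v) • e - (S.f₁ r r / 2 * S.f₁ e v) • e := by
        intro r hr v
        rw [eich_apply S.swap hee hr]
        simp only [TForm.swap, hε]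
      have hgf : ∀ r, S.f₁ e r = 0 → ∀ v w, S.f₁ (act (eich S.swap e r) v)
          (act (eich S.swap e r) w) = S.f₁ v w := fun r hr => eich_form S.swap hee hr
      have hr' : S.f₁ e (-r) = 0 := by rw [map_neg, hr, neg_zero]
      have hinv : ∀ r, S.f₁ e r = 0 → ∀ v,
          act (eich S.swap e r)⁻¹ v = act (eich S.swap e (-r)) v := by
        intro r hr v
        refine act_injective (eich S.swap e r) ?_
        rw [act_act_inv, eich, dif_pos ⟨hee, hr⟩, eich, dif_pos ⟨hee, by
          show S.f₁ e (-r) = 0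
          rw [map_neg, hr, neg_zero]⟩]
        simp only [act_apply, mkGL_mulVec]
        have := S.swap.emap_neg (n := e) (t := -r) hee (by
          show S.f₁ e (-r) = 0
          rw [map_neg, hr, neg_zero]) v
        rw [neg_neg] at this
        exact this.symm
      refine ⟨_, ((hcf.conj O (hgf r hr)).add P.nn (hcf.conj O (hgf (-r) hr'))).sub P.nn
        (hcf.add P.nn hcf), fun x y => ?_⟩
      have e1 : ∀ r, S.f₁ e r = 0 → ∀ z, S.f₁ x (act (eich S.swap e r) z) =
          S.f₁ (act (eich S.swap e r)⁻¹ x) z := fun r hr z => by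
        conv_rhs => rw [← hgf r hr, act_act_inv]
      simp only [LinearMap.sub_apply, LinearMap.add_apply, LinearMap.comp_apply, map_sub, map_add,
        e1 r hr, e1 (-r) hr', hinv r hr, hinv (-r) hr', neg_neg, hg r hr, hg (-r) hr', map_neg,
        map_smul, LinearMap.neg_apply, LinearMap.smul_apply, smul_eq_mul, neg_smul, smul_neg]
      simp only [hsy r e, hsy e y, hf.symm r x, hf.symm e x]
      ring
    suffices h : ∃ ψ' K, K ≠ 0 ∧ IsCoef S H n ψ' ∧
        ∀ x y, S.f₁ x (ψ' y) = K * S.f₁ e x * S.f₁ e y by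
      obtain ⟨ψ', K, hK, hψ', hval⟩ := h
      refine root_of_coef P.nn P.ne hψ' he hee hK fun y => S.eq₁ fun x => ?_
      rw [hval, map_smul, smul_eq_mul, hf.symm e x]
      ring
    rcases hbig with h4 | ⟨t, ht, ht1⟩
    · obtain ⟨e'', he'', hee''⟩ := exists_partner S.two hf.symm hf.nd he hee
      obtain ⟨s, hes, he's, hss⟩ := hf.exists_aniso_pair ha hee he'' hee''
      obtain ⟨r, her, -, hsr, hrr⟩ := hf.exists_aniso_pair₂ h4 hee he'' hee'' hes he's hss
      obtain ⟨ψ₁, h₁, v₁⟩ := hE (s + r) (by simp [hes, her])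
      obtain ⟨ψ₂, h₂, v₂⟩ := hE (s - r) (by simp [hes, her])
      obtain ⟨ψ₃, h₃, v₃⟩ := hE s hes
      obtain ⟨ψ₄, h₄, v₄⟩ := hE r her
      refine ⟨_, 2 * S.f₁ s s * S.f₁ r r * S.f₁ e (ψ e),
        mul_ne_zero (mul_ne_zero (mul_ne_zero S.two hss) hrr) hΦ,
        ((h₁.add P.nn h₂).sub P.nn (h₃.add P.nn h₃)).sub P.nn (h₄.add P.nn h₄), fun x y => ?_⟩
      simp only [LinearMap.sub_apply, LinearMap.add_apply, map_sub, map_add, v₁, v₂, v₃, v₄,
        hf.symm s r, hsr]
      have h2 := S.two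
      field_simp
      ring
    · obtain ⟨ψ₁, h₁, v₁⟩ := hE s hes
      obtain ⟨ψ₂, h₂, v₂⟩ := hE (t • s) (by simp [hes])
      refine ⟨_, (t ^ 2 - t ^ 4) * (2 * (S.f₁ s s / 2) ^ 2 * S.f₁ e (ψ e)), ?_,
        (h₁.scale O P ht).sub P.nn h₂, fun x y => ?_⟩
      · refine mul_ne_zero (fun h => ht1 ?_) (mul_ne_zero (mul_ne_zero S.two (pow_ne_zero 2
          (div_ne_zero hss S.two))) hΦ)
        exact (mul_left_cancel₀ (pow_ne_zero 2 ht) (show t ^ 2 * t ^ 2 = t ^ 2 * 1 by
          linear_combination -h))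
      · simp only [LinearMap.sub_apply, LinearMap.smul_apply, map_sub, map_smul, smul_eq_mul, v₁,
          v₂]
        have h2 := S.two
        field_simp
        ring
  · push Not at hiso
    obtain ⟨e, he, hee⟩ := hf.exists_singular ha
    obtain ⟨e', he'e', hee'⟩ := exists_partner S.two hf.symm hf.nd he hee
    have he'e : S.f₁ e' e = 1 := by rw [hf.symm, hee']
    have hiso' : ∀ v, S.f₁ v v = 0 → S.f₁ v (ψ v) = 0 := fun v hv => by
      rcases eq_or_ne v 0 with rfl | hv0
      · simp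
      · exact hiso v hv0 hv
    set lam := S.f₁ e (ψ e') with hlam
    refine ⟨lam, ?_⟩
    have hA : ∀ t, S.f₁ e t = 0 → S.f₁ e' t = 0 →
        S.f₁ t (ψ t) = S.f₁ t t * lam ∧ S.f₁ e' (ψ t) = S.f₁ t t / 2 * S.f₁ e (ψ t) := by
      intro t het he't
      have hte : S.f₁ t e = 0 := by rw [hf.symm, het]
      have hte' : S.f₁ t e' = 0 := by rw [hf.symm, he't]
      have h1 := hiso' (e' + t - (S.f₁ t t / 2) • e) (by
        simp [hee, he'e', hee', he'e, het, he't, hte, hte']
        have h2 := S.two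
        field_simp
        ring)
      have h3 := hiso' (e' - t - (S.f₁ t t / 2) • e) (by
        simp [hee, he'e', hee', he'e, het, he't, hte, hte']
        have h2 := S.two
        field_simp
        ring)
      simp only [map_add, map_sub, map_smul, LinearMap.add_apply, LinearMap.sub_apply,
        LinearMap.smul_apply, smul_eq_mul, hiso' e hee, hiso' e' he'e', hsy t e, hsy t e',
        hsy e e'] at h1 h3
      have h2 := S.two
      constructor
      · field_simp at h1 h3
        refine mul_left_cancel₀ (mul_ne_zero (mul_ne_zero h2 h2) h2) ?_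
        linear_combination h1 + h3
      · rw [hsy t e', hsy t e]
        field_simp at h1 h3 ⊢
        refine mul_left_cancel₀ (mul_ne_zero (mul_ne_zero h2 h2) h2) ?_
        linear_combination h1 - h3
    have hsn : ∀ t, S.f₁ e t = 0 → S.f₁ e' t = 0 → S.f₁ t t ≠ 0 → S.f₁ e (ψ t) = 0 := by
      intro t het he't htt
      rcases hbig with h4 | ⟨c, hc, hc1⟩
      · obtain ⟨s, hes, he's, hts, hss⟩ := hf.exists_aniso_pair₂ h4 hee he'e' hee' het he't htt
        have hst : S.f₁ s t = 0 := by rw [hf.symm, hts]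
        have a1 := (hA (t + s) (by simp [het, hes]) (by simp [he't, he's])).2
        have a2 := (hA (t - s) (by simp [het, hes]) (by simp [he't, he's])).2
        have a3 := (hA t het he't).2
        simp only [map_add, map_sub, LinearMap.add_apply, LinearMap.sub_apply, hts, hst, add_zero,
          zero_add, sub_zero, zero_sub] at a1 a2
        have h2 := S.two
        field_simp at a1 a2 a3
        refine (mul_eq_zero.1 (show 2 * S.f₁ s s * S.f₁ e (ψ t) = 0 by
          linear_combination -a1 - a2 + 2 * a3)).resolve_left (mul_ne_zero h2 hss)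
      · have a1 := (hA t het he't).2
        have a2 := (hA (c • t) (by simp [het]) (by simp [he't])).2
        simp only [map_smul, LinearMap.smul_apply, smul_eq_mul] at a2
        have h2 := S.two
        field_simp at a1 a2
        refine (mul_eq_zero.1 (show (c * (c ^ 2 - 1) * S.f₁ t t) * S.f₁ e (ψ t) = 0 by
          linear_combination c * (a1 - a2))).resolve_left
          (mul_ne_zero (mul_ne_zero hc (sub_ne_zero.2 hc1)) htt)
    have hall : ∀ t, S.f₁ e t = 0 → S.f₁ e' t = 0 → S.f₁ e (ψ t) = 0 ∧ S.f₁ e' (ψ t) = 0 := by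
      intro t het he't
      have h0 : S.f₁ e (ψ t) = 0 := by
        by_cases htt : S.f₁ t t = 0
        swap
        · exact hsn t het he't htt
        obtain ⟨v, hev, he'v, hvv⟩ := hf.exists_aniso_pair ha hee he'e' hee'
        have h1 := hsn v hev he'v hvv
        rcases hf.aniso_shift htt hvv with h | h
        · simpa [h1] using hsn (t + v) (by simp [het, hev]) (by simp [he't, he'v]) h
        · simpa [h1] using hsn (t - v) (by simp [het, hev]) (by simp [he't, he'v]) h
      exact ⟨h0, by rw [(hA t het he't).2, h0, mul_zero]⟩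
    have hq : ∀ x, S.f₁ x (ψ x) = lam * S.f₁ x x := by
      intro x
      set t := x - S.f₁ e' x • e - S.f₁ e x • e'
      have het : S.f₁ e t = 0 := by simp [t, hee, hee']
      have he't : S.f₁ e' t = 0 := by simp [t, he'e', he'e]
      have hx : x = t + S.f₁ e' x • e + S.f₁ e x • e' := by simp only [t]; abel
      have hte : S.f₁ t e = 0 := by rw [hf.symm, het]
      have hte' : S.f₁ t e' = 0 := by rw [hf.symm, he't]
      obtain ⟨h5, h6⟩ := hall t het he't
      clear_value t
      obtain ⟨α, hα⟩ : ∃ α, α = S.f₁ e' x := ⟨_, rfl⟩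
      obtain ⟨β, hβ⟩ : ∃ β, β = S.f₁ e x := ⟨_, rfl⟩
      rw [← hα, ← hβ] at hx
      rw [hx]
      simp only [map_add, map_smul, LinearMap.add_apply, LinearMap.smul_apply, smul_eq_mul,
        hiso' e hee, hiso' e' he'e', hsy e t, hsy e' t, hsy e e', h5, h6, hlam, het, he't, hte,
        hte', hee, he'e', hee', he'e, (hA t het he't).1]
      ring
    intro x
    refine S.eq₁ fun y => ?_
    have h := hq (x + y)
    simp only [map_add, LinearMap.add_apply, hq, hsy y x, hf.symm y x] at h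
    rw [map_smul, smul_eq_mul]
    have h2 := S.two
    refine mul_left_cancel₀ h2 ?_
    linear_combination h + 0 * hsy x y + 0 * hf.symm x y

end Cfsg.Agent.TensorInv
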