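import Cfsg.Agent.TensorInv.Twin

/-!
No proper overgroup of a tensor stabiliser `Sp ⊗ O` without root elements, for an orthogonal factor
of dimension at least five that is not smaller than the symplectic one (helper19).
-/

set_option autoImplicit false
set_option linter.unusedSectionVars false
set_option linter.unusedSimpArgs false

namespace Cfsg.Agent.TensorInv

open Matrix Cfsg.Agent.MaxSub Cfsg.Agent.TensorMax Module

variable {F : Type*} [Field F] {a b m : ℕ}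

/-- A vector orthogonal to the other eigenvectors of a basis is an eigenvector. -/
theorem Sym.eigen_of_perp {f : (Fin m → F) →ₗ[F] (Fin m → F) →ₗ[F] F} (hf : Sym f)
    {e : Fin m → (Fin m → F)} (he : Fam f e) {K : (Fin m → F) →ₗ[F] (Fin m → F)}
    (hK : ∀ x y, f (K x) (K y) = f x y) (hKK : ∀ x, K (K x) = x) {s : Fin m → F}
    (hs : ∀ i, K (e i) = s i • e i) {τ : F} {x : Fin m → F}
    (hx : ∀ i, s i ≠ τ → f (e i) x = 0) : K x = τ • x := by
  refine sub_eq_zero.1 (hf.eq_zero_of_basis he fun i => ?_)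
  have e1 : f (e i) (K x) = s i * f (e i) x := by
    conv_lhs => rw [← hK, hKK, hs, map_smul, LinearMap.smul_apply, smul_eq_mul]
  rw [map_sub, map_smul, e1, smul_eq_mul, ← sub_mul]
  by_cases h : s i = τ
  · rw [h, sub_self, zero_mul]
  · rw [hx i h, mul_zero]

theorem sign_eq {x y z : F} (hx : x * x = 1) (hy : y * y = 1) (hz : z * z = 1) (h : x ≠ y)
    (h' : z ≠ y) : x = z := by
  rcases mul_self_eq_one_iff.1 hx with rfl | rfl <;>
    rcases mul_self_eq_one_iff.1 hy with rfl | rfl <;>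
    rcases mul_self_eq_one_iff.1 hz with rfl | rfl <;>
    first | rfl | exact absurd rfl h | exact absurd rfl h'

theorem Sym.add_self {f : (Fin m → F) →ₗ[F] (Fin m → F) →ₗ[F] F} (hf : Sym f) {x y : Fin m → F}
    (h : f x y = 0) : f (x + y) (x + y) = f x x + f y y := by
  simp [hf.symm x y, h]

variable {S : TForm F a b} {H : Subgroup (GL (Fin a × Fin b) F)} [Finite F]
  (O : Over S H) (hε : S.ε = -1) (hR : ¬ Root S H) (ha : 1 ≤ a) (hab : a ≤ b + 1) (hb : 5 ≤ b)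

include hε hb in
/-- A pair orthogonal to a small family. -/
theorem exists_hpair {k : ℕ} {w : Fin k → (Fin b → F)} (hw : Fam S.f₂ w) (hk : k + 3 ≤ b) :
    ∃ v₁ v₂, HPair S v₁ v₂ ∧ ∀ i, S.f₂ (w i) v₁ = 0 ∧ S.f₂ (w i) v₂ = 0 := by
  have hf := S.sym₂ hε
  obtain ⟨t, ht, hwt⟩ := hf.exists_three_fam hw hk
  have h02 := ht.orth 0 2 (by decide)
  have h12 := ht.orth 1 2 (by decide)
  obtain ⟨p, q, hpq⟩ := hf.exists_singular_three (ht.aniso 0) (ht.aniso 1)
    (ht.orth 0 1 (by decide)) h02 h12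
  have h2 : S.f₂ (p • t 0 + q • t 1) (t 2) = 0 := by simp [h02, h12]
  have hsum : S.f₂ (p • t 0 + q • t 1) (p • t 0 + q • t 1) + S.f₂ (t 2) (t 2) = 0 := by
    rw [hf.add_self h2] at hpq
    exact hpq
  exact ⟨_, t 2, ⟨fun h0 => ht.aniso 2 (by rwa [h0, zero_add] at hsum), ht.aniso 2, h2, hsum⟩,
    fun i => ⟨by simp [hwt i 0, hwt i 1], hwt i 2⟩⟩

include hε ha hab hb O hR in
/-- Conjugates in the tensor stabiliser over a three dimensional space suffice. -/
theorem kron_of_side {h : GL (Fin a × Fin b) F} (hh : h ∈ H) {T : Fin 3 → (Fin b → F)}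
    (hT : Fam S.f₂ T)
    (hc : ∀ v, S.f₂ v v ≠ 0 → (∀ e, (∀ j, S.f₂ e (T j) = 0) → S.f₂ e v = 0) →
      h * xr S v * h⁻¹ ∈ Cfsg.Geo.kroneckerSubgroup a b F) :
    h ∈ Cfsg.Geo.kroneckerSubgroup a b F := by
  obtain ⟨u, n, hu, hn, hnn, hun, hperp⟩ := (S.sym₂ hε).exists_good_three hT
  have hnu : S.f₂ n u = 0 := by rw [S.symm₂ hε, hun]
  refine kron_of_good O hε hR ha hab (by omega) hh hu hn hnn hun (hc u hu fun e he => (hperp e he).1)
    (hc (u + n) ?_ fun e he => ?_) (hc (n - u) ?_ fun e he => ?_)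
  · simp [hnn, hun, hnu, hu]
  · simp [(hperp e he).1, (hperp e he).2]
  · simp [hnn, hun, hnu, hu]
  · simp [(hperp e he).1, (hperp e he).2]

include hε ha hab hb O hR in
/-- The consequence of the line of `w + t`. -/
theorem line_end {y : GL (Fin a × Fin b) F} (hy : IsX S H y) {w t : Fin b → F}
    (hw : Fix y w) (hwq : S.f₂ w w ≠ 0) (ht : S.f₂ t t ≠ 0) (hwt : S.f₂ w t = 0)
    (hv : S.f₂ (w + t) (w + t) ≠ 0)
    (hm : y * xr S (w + t) * y⁻¹ ∈ Cfsg.Geo.kroneckerSubgroup a b F) :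
    ∃ r, Fix y r ∧ (r = 0 → y ∈ Cfsg.Geo.kroneckerSubgroup a b F) ∧
      ∀ u, Fix y u → S.f₂ u t = 0 → S.f₂ u r = 0 := by
  have hyH := hy.mem O hε
  obtain ⟨v', -, hl⟩ := exists_line O hε ha hab (by omega) hyH hv hm
  set d₀ : Fin a → F := fun _ => 1
  have hd₀ : d₀ ≠ 0 := fun h => one_ne_zero (congrFun h ⟨0, ha⟩)
  have hY : ∀ x Y, act y (emb (w + t) x) = emb v' Y →
      S.f₂ w w • x = S.f₂ w v' • Y := fun x Y e => by
    have e1 := congrArg (S.pi w) e
    rwa [pi_of_fix (O.isom hyH) hw, S.pi_emb, S.pi_emb, map_add, hwt, add_zero] at e1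
  have hne : S.f₂ w v' ≠ 0 := fun h0 => by
    obtain ⟨Y, e⟩ := hl d₀
    have := hY d₀ Y e
    rw [h0, zero_smul, smul_eq_zero] at this
    exact this.elim hwq hd₀
  set t'' := (S.f₂ w w / S.f₂ w v') • v' - w with ht''
  have himg : ∀ x, act y (emb t x) = emb t'' x := fun x => by
    obtain ⟨Y, e⟩ := hl x
    rw [← act_apply] at e
    have hYx : Y = (S.f₂ w w / S.f₂ w v') • x := by
      rw [div_eq_inv_mul, ← smul_smul, hY x Y e, inv_smul_smul₀ hne]
    rw [show emb t x = emb (w + t) x - emb w x by rw [emb_add_left]; abel, map_sub, e, hw, hYx,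
      ← emb_smul_comm, ht'', emb_sub_left]
  have hperp : ∀ u, Fix y u → S.f₂ u t = 0 → S.f₂ u t'' = 0 := fun u hu hut => by
    have e := pi_of_fix (O.isom hyH) hu (emb t d₀)
    rw [himg, S.pi_emb, S.pi_emb, hut, zero_smul, smul_eq_zero] at e
    exact e.resolve_right hd₀
  refine ⟨t + t'', fun x => ?_, fun h0 => ?_, fun u hu hut => ?_⟩
  · have e : act y (emb t'' x) = emb t x := by rw [← himg, hy.invo]
    rw [emb_add_left, map_add, himg, e, add_comm]
  · refine kron_of_neg O hε hR ha (by omega) hy ht fun x => ?_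
    rw [himg, eq_neg_of_add_eq_zero_right h0, emb_neg_left]
  · rw [map_add, hut, hperp u hu hut, add_zero]

include hε ha hab hb O hR in
/-- A conjugate of a reflection fixing two orthogonal lines. -/
theorem kron_of_fix_two {y : GL (Fin a × Fin b) F} (hy : IsX S H y) {w₁ w₂ : Fin b → F}
    (h₁ : S.f₂ w₁ w₁ ≠ 0) (h₂ : S.f₂ w₂ w₂ ≠ 0) (h₁₂ : S.f₂ w₁ w₂ = 0) (f₁ : Fix y w₁)
    (f₂ : Fix y w₂) : y ∈ Cfsg.Geo.kroneckerSubgroup a b F := by
  classical
  have hf := S.sym₂ hε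
  have hyH := hy.mem O hε
  have h₂₁ : S.f₂ w₂ w₁ = 0 := by rw [hf.symm, h₁₂]
  by_contra hK
  have hfix : ∀ r, Fix y r → S.f₂ w₁ r = 0 → S.f₂ w₂ r = 0 → r = 0 := by
    intro r hr e1 e2
    by_contra h0
    by_cases hrr : S.f₂ r r = 0
    · exact hK (kron_of_fix_singular O hε hR ha (by omega) hyH h0 hrr hr)
    · exact hK (kron_of_fix_three O hε hR ha (by omega) hyH h₁ h₂ hrr h₁₂ e1 e2 f₁ f₂ hr)
  -- the pair
  obtain ⟨T, hT, hTw⟩ := hf.exists_three_fam (hf.fam_two h₁ h₂ h₁₂) (by omega)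
  obtain ⟨τ, hτq, hτs, hτ1, hτ2⟩ : ∃ τ, S.f₂ τ τ ≠ 0 ∧ S.f₂ w₂ w₂ + S.f₂ τ τ ≠ 0 ∧
      S.f₂ w₁ τ = 0 ∧ S.f₂ w₂ τ = 0 := by
    have a10 : S.f₂ w₁ (T 0) = 0 := by simpa using hTw 0 0
    have a11 : S.f₂ w₁ (T 1) = 0 := by simpa using hTw 0 1
    have a20 : S.f₂ w₂ (T 0) = 0 := by simpa using hTw 1 0
    have a21 : S.f₂ w₂ (T 1) = 0 := by simpa using hTw 1 1
    by_cases c0 : S.f₂ w₂ w₂ + S.f₂ (T 0) (T 0) = 0
    swap
    · exact ⟨T 0, hT.aniso 0, c0, a10, a20⟩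
    by_cases c1 : S.f₂ w₂ w₂ + S.f₂ (T 1) (T 1) = 0
    swap
    · exact ⟨T 1, hT.aniso 1, c1, a11, a21⟩
    have e : S.f₂ (T 0 + T 1) (T 0 + T 1) = -(2 * S.f₂ w₂ w₂) := by
      simp only [map_add, LinearMap.add_apply, hT.orth 0 1 (by decide), hT.orth 1 0 (by decide)]
      linear_combination c0 + c1
    refine ⟨T 0 + T 1, ?_, ?_, by simp [a10, a11], by simp [a20, a21]⟩ <;> rw [e]
    · exact neg_ne_zero.2 (mul_ne_zero S.two h₂)
    · exact fun h => h₂ (by linear_combination -h)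
  have hF := hf.fam_three h₁ h₂ hτq h₁₂ hτ1 hτ2
  obtain ⟨t', ht', e'⟩ := hf.exists_aniso_fam hF (by omega)
  obtain ⟨t'', ht'', e''⟩ :=
    hf.exists_aniso_fam (hF.cons ht' e' fun i => by rw [hf.symm, e']) (by omega)
  have hts' : S.f₂ t' (w₂ + τ) = 0 := by
    rw [map_add, hf.symm w₂ t', hf.symm τ t', show S.f₂ w₂ t' = 0 by simpa using e' 1,
      show S.f₂ τ t' = 0 by simpa using e' 2, add_zero]
  have hts'' : S.f₂ t'' (w₂ + τ) = 0 := by
    rw [map_add, hf.symm w₂ t'', hf.symm τ t'', show S.f₂ w₂ t'' = 0 by simpa using e'' 2,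
      show S.f₂ τ t'' = 0 by simpa using e'' 3, add_zero]
  have a1' : S.f₂ w₁ t' = 0 := by simpa using e' 0
  have a1'' : S.f₂ w₁ t'' = 0 := by simpa using e'' 1
  have a2' : S.f₂ w₂ t' = 0 := by simpa using e' 1
  have a2'' : S.f₂ w₂ t'' = 0 := by simpa using e'' 2
  obtain ⟨p, q, hpq⟩ := hf.exists_singular_three ht' ht''
    (show S.f₂ t' t'' = 0 by simpa using e'' 0) hts' hts''
  set v₁ := w₂ + τ with hv₁
  set v₂ := p • t' + q • t'' with hv₂
  have hv₁q : S.f₂ v₁ v₁ = S.f₂ w₂ w₂ + S.f₂ τ τ := by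
    simp [hv₁, hτ2, hf.symm w₂ τ]
  have hv21 : S.f₂ v₂ v₁ = 0 := by
    rw [hf.symm, hv₂, map_add, map_smul, map_smul, hf.symm t' v₁, hts', hf.symm t'' v₁, hts'']
    simp
  have hsum : S.f₂ v₁ v₁ + S.f₂ v₂ v₂ = 0 := by
    rw [hf.add_self hv21] at hpq
    linear_combination hpq
  have P : HPair S v₁ v₂ := ⟨hv₁q ▸ hτs,
    fun h0 => hτs (by rwa [h0, add_zero, hv₁q] at hsum), by rw [hf.symm, hv21], hsum⟩
  have hvw1 : S.f₂ v₁ w₁ = 0 := by
    rw [hf.symm, hv₁, map_add, h₁₂, hτ1, add_zero]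
  have hvw1' : S.f₂ v₂ w₁ = 0 := by rw [hf.symm, hv₂]; simp [a1', a1'']
  have hvw2 : S.f₂ v₁ w₂ = S.f₂ w₂ w₂ := by
    rw [hf.symm, hv₁, map_add, hτ2, add_zero]
  have hvw2' : S.f₂ v₂ w₂ = 0 := by rw [hf.symm, hv₂]; simp [a2', a2'']
  obtain ⟨K, hKT⟩ := (exists_twin O hε hR ha hab hb hy P).resolve_right
    fun hF => hF.no_fix w₁ h₁ hvw1 hvw1' f₁
  have hfixK : ∀ w, Fix y w → Fix y (act K w) := fun w hw x => by
    have e := congrArg (fun M : GL (Fin a × Fin b) F => act M (emb w x)) hKT.comm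
    simpa only [act_mul, act_kr, act_one, hw x] using e
  have hspan : ∀ w, Fix y w → w = (S.f₂ w₁ w / S.f₂ w₁ w₁) • w₁ +
      (S.f₂ w₂ w / S.f₂ w₂ w₂) • w₂ := fun w hw => by
    refine sub_eq_zero.1 (hfix _ (hw.sub ((f₁.smul _).add (f₂.smul _))) ?_ ?_)
    · simp [h₁₂, div_mul_cancel₀ _ h₁]
    · simp [h₂₁, div_mul_cancel₀ _ h₂]
  have hU1 := P.refl₂_perp hvw1 hvw1'
  have hU2 : act (refl₂ S v₁ v₂) w₂ = w₂ - (2 * S.f₂ w₂ w₂ / S.f₂ v₁ v₁) • v₁ := by
    rw [P.refl₂_apply, hvw2, hvw2', mul_zero, zero_div, zero_smul, sub_zero]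
  have hτ0 : S.f₂ τ v₁ = S.f₂ τ τ := by rw [hv₁, map_add, hf.symm w₂ τ, hτ2, zero_add]
  have hU2' : S.f₂ τ (act (refl₂ S v₁ v₂) w₂) ≠ 0 := by
    rw [hU2, map_sub, map_smul, hf.symm w₂ τ, hτ2, zero_sub, neg_ne_zero, smul_eq_mul, hτ0]
    exact mul_ne_zero (div_ne_zero (mul_ne_zero S.two h₂) P.h₁) hτq
  have hK1 : act K w₁ = w₁ := by
    have e := hspan _ (hfixK w₁ f₁)
    set c₁ := S.f₂ w₁ (act K w₁) / S.f₂ w₁ w₁
    set c₂ := S.f₂ w₂ (act K w₁) / S.f₂ w₂ w₂
    have e2 := hKT.commU w₁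
    rw [hU1, e, map_add, map_smul, map_smul, hU1, add_right_inj] at e2
    have hc₂ : c₂ = 0 := by
      have e3 := congrArg (S.f₂ τ) e2
      rw [map_smul, map_smul, hf.symm w₂ τ, hτ2, smul_zero, eq_comm, smul_eq_zero] at e3
      exact e3.resolve_right hU2'
    rw [hc₂, zero_smul, add_zero] at e
    have e4 := hKT.sq w₁
    rw [e, map_smul, e, smul_smul] at e4
    have hw0 : w₁ ≠ 0 := fun h0 => by simp [h0] at h₁
    have hsq : c₁ * c₁ = 1 := smul_left_injective F hw0 (by simpa using e4)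
    rcases mul_self_eq_one_iff.1 hsq with h | h
    · rw [e, h, one_smul]
    · exact absurd (by rw [e, h, neg_one_smul]) (hKT.fix_neg w₁ h₁ hvw1 hvw1' f₁)
  obtain ⟨σ, hK2, hσ⟩ : ∃ σ : F, act K w₂ = σ • w₂ ∧ σ * σ = 1 := by
    have e := hspan _ (hfixK w₂ f₂)
    have e1 : S.f₂ w₁ (act K w₂) = 0 := by
      conv_lhs => rw [← hK1]
      rw [hKT.form, h₁₂]
    rw [e1, zero_div, zero_smul, zero_add] at e
    generalize hc : S.f₂ w₂ (act K w₂) / S.f₂ w₂ w₂ = c at e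
    refine ⟨c, e, ?_⟩
    have e4 := hKT.sq w₂
    rw [e, map_smul, e, smul_smul] at e4
    exact smul_left_injective F (fun h0 => by simp [h0] at h₂ : w₂ ≠ 0) (by simpa using e4)
  obtain ⟨e, s, ι, he, hs, hs', hι, hι', -⟩ := hf.exists_eigen_basis (hf.fam_two h₁ h₂ h₁₂)
    (by omega) (act K) hKT.form hKT.sq ![1, σ]
    (fun i => by fin_cases i <;> simp [hK1, hK2])
    (fun i => by fin_cases i <;> simp [hσ])
  have hι0 : e (ι 0) = w₁ := hι 0
  have hι1 : e (ι 1) = w₂ := hι 1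
  set R := Finset.univ.filter fun i => i ≠ ι 0 ∧ i ≠ ι 1 with hRdef
  have hRc : b ≤ R.card + 2 := by
    have h1 : Finset.univ ⊆ R ∪ {ι 0, ι 1} := fun i _ => by
      simp [hRdef]; tauto
    have h2 := (Finset.card_le_card h1).trans (Finset.card_union_le _ _)
    have h3 : ({ι 0, ι 1} : Finset (Fin b)).card ≤ 2 := Finset.card_le_two
    simp only [Finset.card_univ, Fintype.card_fin] at h2
    omega
  have hmem : ∀ {i}, i ∈ R → S.f₂ w₁ (e i) = 0 ∧ S.f₂ w₂ (e i) = 0 := by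
    intro i hi
    simp only [hRdef, Finset.mem_filter, Finset.mem_univ, true_and] at hi
    exact ⟨hι0 ▸ he.orth _ _ (Ne.symm hi.1), hι1 ▸ he.orth _ _ (Ne.symm hi.2)⟩
  -- both eigenvalues occur
  obtain ⟨i₀, hi₀⟩ : R.Nonempty := Finset.card_pos.1 (by omega)
  obtain ⟨j₀, hj₀, hij⟩ : ∃ j ∈ R, s j ≠ s i₀ := by
    by_contra hn
    push Not at hn
    have hall : ∀ i, i ≠ ι 0 → i ≠ ι 1 → s i = s i₀ := fun i h1 h2 =>
      hn i (by simp [hRdef, h1, h2])
    by_cases hστ : σ = s i₀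
    swap
    · set r := act (refl₂ S v₁ v₂) w₂ with hr
      have hKr : act K r = σ • r := by rw [hr, hKT.commU, hK2, map_smul]
      have hz : r - (S.f₂ w₂ r / S.f₂ w₂ w₂) • w₂ = 0 := by
        refine hf.eq_zero_of_basis he fun i => ?_
        rcases eq_or_ne i (ι 0) with rfl | hi0
        · rw [hι0, map_sub, map_smul, h₁₂, smul_zero, sub_zero, hr]
          conv_lhs => rw [← hU1]
          rw [P.refl₂_form hε, h₁₂]
        rcases eq_or_ne i (ι 1) with rfl | hi1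
        · rw [hι1, map_sub, map_smul, smul_eq_mul, div_mul_cancel₀ _ h₂, sub_self]
        rw [map_sub, map_smul, show S.f₂ (e i) w₂ = 0 from hι1 ▸ he.orth _ _ hi1, smul_zero,
          sub_zero]
        have e1 := hKT.form (e i) r
        rw [hs, hKr, hall i hi0 hi1] at e1
        simp only [map_smul, LinearMap.smul_apply, smul_eq_mul] at e1
        refine (mul_eq_zero.1 (show (s i₀ * σ - 1) * S.f₂ (e i) r = 0 by
          linear_combination e1)).resolve_left fun h => hστ ?_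
        linear_combination s i₀ * h - σ * hs' i₀
      refine hU2' ?_
      rw [sub_eq_zero.1 hz, map_smul, hf.symm w₂ τ, hτ2, smul_zero]
    have hev : ∀ x, S.f₂ w₁ x = 0 → act K x = s i₀ • x := fun x hx => by
      refine hf.eigen_of_perp he hKT.form hKT.sq hs fun i hi => ?_
      rcases eq_or_ne i (ι 0) with rfl | hi0
      · rwa [hι0]
      rcases eq_or_ne i (ι 1) with rfl | hi1
      · exact absurd ((hι' 1).trans hστ) hi
      · exact absurd (hall i hi0 hi1) hi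
    rcases mul_self_eq_one_iff.1 (hs' i₀) with hτ | hτ
    · obtain ⟨x, hx⟩ := hKT.ne
      refine hx ((hf.eigen_of_perp he hKT.form hKT.sq hs (τ := 1) fun i hi => ?_).trans
        (one_smul F x))
      refine absurd ?_ hi
      rcases eq_or_ne i (ι 0) with rfl | hi0
      · exact hι' 0
      rcases eq_or_ne i (ι 1) with rfl | hi1
      · exact (hι' 1).trans (hστ.trans hτ)
      · exact (hall i hi0 hi1).trans hτ
    · have hF' := hf.fam_three P.h₁ P.h₂ h₁ P.h₁₂ hvw1 hvw1'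
      obtain ⟨u, hu, eu⟩ := hf.exists_aniso_fam hF' (by omega)
      obtain ⟨u', hu', eu'⟩ :=
        hf.exists_aniso_fam (hF'.cons hu eu fun i => by rw [hf.symm, eu]) (by omega)
      exact hKT.two_neg u u' hu hu' (by simpa using eu' 0) (by simpa using eu 0)
        (by simpa using eu 1) (by simpa using eu' 1) (by simpa using eu' 2)
        (by rw [hev u (by simpa using eu 2), hτ, neg_one_smul])
        (by rw [hev u' (by simpa using eu' 3), hτ, neg_one_smul])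
  obtain ⟨i, j, j', hi, hj, hj', hjj, hsj, hsj'⟩ : ∃ i j j', i ∈ R ∧ j ∈ R ∧ j' ∈ R ∧ j ≠ j' ∧
      s j ≠ s i ∧ s j' ≠ s i := by
    by_cases hB : 1 < (R.filter fun k => s k ≠ s i₀).card
    · obtain ⟨j, hj, j', hj', hne⟩ := Finset.one_lt_card.1 hB
      simp only [Finset.mem_filter] at hj hj'
      exact ⟨i₀, j, j', hi₀, hj.1, hj'.1, hne, hj.2, hj'.2⟩
    · have hA : 1 < (R.filter fun k => s k = s i₀).card := by
        have := Finset.card_filter_add_card_filter_not (s := R) fun k => s k = s i₀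
        simp only [ne_eq] at hB
        omega
      obtain ⟨j, hj, j', hj', hne⟩ := Finset.one_lt_card.1 hA
      simp only [Finset.mem_filter] at hj hj'
      exact ⟨j₀, j, j', hj₀, hj.1, hj'.1, hne, by rw [hj.2]; exact hij.symm,
        by rw [hj'.2]; exact hij.symm⟩
  have hij1 : i ≠ j := fun h => hsj (by rw [h])
  have hij2 : i ≠ j' := fun h => hsj' (by rw [h])
  obtain ⟨w, w', fw, fw', hw, hw', hww', hsum', hsp⟩ : ∃ w w', Fix y w ∧ Fix y w' ∧
      S.f₂ w w ≠ 0 ∧ S.f₂ w' w' ≠ 0 ∧ S.f₂ w w' = 0 ∧ S.f₂ w w + S.f₂ (e i) (e i) ≠ 0 ∧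
      ∀ x, S.f₂ w₁ x = 0 → S.f₂ w₂ x = 0 → S.f₂ w x = 0 ∧ S.f₂ w' x = 0 := by
    by_cases c1 : S.f₂ w₁ w₁ + S.f₂ (e i) (e i) = 0
    swap
    · exact ⟨w₁, w₂, f₁, f₂, h₁, h₂, h₁₂, c1, fun x a b => ⟨a, b⟩⟩
    by_cases c2 : S.f₂ w₂ w₂ + S.f₂ (e i) (e i) = 0
    swap
    · exact ⟨w₂, w₁, f₂, f₁, h₂, h₁, h₂₁, c2, fun x a b => ⟨b, a⟩⟩
    have hp : S.f₂ (w₁ + w₂) (w₁ + w₂) = -(2 * S.f₂ (e i) (e i)) := by
      simp only [map_add, LinearMap.add_apply, h₁₂, h₂₁]
      linear_combination c1 + c2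
    refine ⟨w₁ + w₂, w₁ - w₂, f₁.add f₂, f₁.sub f₂, ?_, ?_, ?_, ?_, fun x a b => ?_⟩
    · rw [hp]; exact neg_ne_zero.2 (mul_ne_zero S.two (he.aniso i))
    · intro h
      simp only [map_sub, LinearMap.sub_apply, h₁₂, h₂₁] at h
      exact mul_ne_zero S.two (he.aniso i) (by linear_combination c1 + c2 - h)
    · simp only [map_add, map_sub, LinearMap.add_apply, h₁₂, h₂₁]
      linear_combination c1 - c2
    · rw [hp]
      exact fun h => he.aniso i (by linear_combination -h)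
    · simp [a, b]
  obtain ⟨hwi, hw'i⟩ := hsp _ (hmem hi).1 (hmem hi).2
  set t := e i
  have hvv : S.f₂ (w + t) (w + t) ≠ 0 := by
    simpa [hwi, hf.symm w t] using hsum'
  have hconj : y * xr S (w + t) * y⁻¹ ∈ Cfsg.Geo.kroneckerSubgroup a b F := by
    have hmemH : y * xr S (w + t) * y⁻¹ ∈ H :=
      mul_mem (mul_mem hyH (xr_mem O hε hvv)) (inv_mem hyH)
    have g1 : Fix (y * xr S (w + t) * y⁻¹) w' := fix_conj hy fun x => by
      rw [fw', S.pi_emb, map_add, LinearMap.add_apply, hww', hf.symm w' t, hw'i, add_zero,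
        zero_smul]
    have g2 : ∀ k ∈ R, s k ≠ s i → Fix (y * xr S (w + t) * y⁻¹) (e k) := fun k hk hks => by
      refine fix_conj hy fun x => ?_
      rw [S.pi_add, pi_of_fix (O.isom hyH) fw, S.pi_emb, (hsp _ (hmem hk).1 (hmem hk).2).1,
        zero_smul, zero_add, pi_of_comm hKT.form hKT.comm (hs k) (hs i) (hs' i) hks]
    exact kron_of_fix_three O hε hR ha (by omega) hmemH hw' (he.aniso j) (he.aniso j')
      (hsp _ (hmem hj).1 (hmem hj).2).2 (hsp _ (hmem hj').1 (hmem hj').2).2 (he.orth _ _ hjj)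
      g1 (g2 j hj hsj) (g2 j' hj' hsj')
  obtain ⟨r, hr, hr0, hrp⟩ := line_end O hε hR ha hab hb hy fw hw (he.aniso i) hwi hvv hconj
  exact hK (hr0 (hfix r hr (hrp w₁ f₁ (hmem hi).1) (hrp w₂ f₂ (hmem hi).2)))

include hε ha hab hb O hR in
/-- A conjugate of a reflection fixing an anisotropic line. -/
theorem kron_of_fix_one {y : GL (Fin a × Fin b) F} (hy : IsX S H y) {w : Fin b → F}
    (hwq : S.f₂ w w ≠ 0) (fw : Fix y w) : y ∈ Cfsg.Geo.kroneckerSubgroup a b F := by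
  classical
  have hf := S.sym₂ hε
  have hyH := hy.mem O hε
  by_contra hK
  have hfix : ∀ r, Fix y r → S.f₂ w r = 0 → r = 0 := by
    intro r hr e1
    by_contra h0
    by_cases hrr : S.f₂ r r = 0
    · exact hK (kron_of_fix_singular O hε hR ha (by omega) hyH h0 hrr hr)
    · exact hK (kron_of_fix_two O hε hR ha hab hb hy hwq hrr e1 fw hr)
  have htwo : ∀ {v w' : Fin b → F}, S.f₂ v v ≠ 0 → S.f₂ w' w' ≠ 0 → S.f₂ w w' = 0 →
      Fix (y * xr S v * y⁻¹) w → Fix (y * xr S v * y⁻¹) w' →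
      y * xr S v * y⁻¹ ∈ Cfsg.Geo.kroneckerSubgroup a b F := fun hv hw' e g g' =>
    kron_of_fix_two O hε hR ha hab hb (isX_conj hyH hv) hwq hw' e g g'
  obtain ⟨v₁, v₂, P, hvp⟩ := exists_hpair hε hb (fam_one hwq) (by omega)
  have hvw1 : S.f₂ v₁ w = 0 := by rw [hf.symm]; simpa using (hvp 0).1
  have hvw2 : S.f₂ v₂ w = 0 := by rw [hf.symm]; simpa using (hvp 0).2
  obtain ⟨K, hKT⟩ := (exists_twin O hε hR ha hab hb hy P).resolve_right
    fun hF => hF.no_fix w hwq hvw1 hvw2 fw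
  have hKw : act K w = w := by
    have hfK : Fix y (act K w) := fun x => by
      have e := congrArg (fun M : GL (Fin a × Fin b) F => act M (emb w x)) hKT.comm
      simpa only [act_mul, act_kr, act_one, fw x] using e
    have e := sub_eq_zero.1 (hfix _ (hfK.sub (fw.smul (S.f₂ w (act K w) / S.f₂ w w)))
      (by simp [div_mul_cancel₀ _ hwq]))
    set c := S.f₂ w (act K w) / S.f₂ w w
    have e4 := hKT.sq w
    rw [e, map_smul, e, smul_smul] at e4
    have hsq : c * c = 1 :=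
      smul_left_injective F (fun h0 => by simp [h0] at hwq : w ≠ 0) (by simpa using e4)
    rcases mul_self_eq_one_iff.1 hsq with h | h
    · rw [e, h, one_smul]
    · exact absurd (by rw [e, h, neg_one_smul]) (hKT.fix_neg w hwq hvw1 hvw2 fw)
  obtain ⟨e, s, ι, he, hs, hs', hι, hι', -⟩ := hf.exists_eigen_basis (fam_one hwq) (by omega)
    (act K) hKT.form hKT.sq ![1] (fun i => by fin_cases i; simp [hKw])
    (fun i => by fin_cases i; simp)
  have hι0 : e (ι 0) = w := hι 0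
  set R := Finset.univ.filter fun i => i ≠ ι 0 with hRdef
  have hRc : b ≤ R.card + 1 := by
    have h1 : Finset.univ ⊆ R ∪ {ι 0} := fun i _ => by simp [hRdef]; tauto
    have h2 := (Finset.card_le_card h1).trans (Finset.card_union_le _ _)
    simp only [Finset.card_univ, Fintype.card_fin, Finset.card_singleton] at h2
    omega
  have hmem : ∀ {i}, i ∈ R → S.f₂ w (e i) = 0 := by
    intro i hi
    simp only [hRdef, Finset.mem_filter, Finset.mem_univ, true_and] at hi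
    exact hι0 ▸ he.orth _ _ (Ne.symm hi)
  obtain ⟨i₀, hi₀⟩ : R.Nonempty := Finset.card_pos.1 (by omega)
  obtain ⟨j₀, hj₀, hij⟩ : ∃ j ∈ R, s j ≠ s i₀ := by
    by_contra hn
    push Not at hn
    have hev : ∀ τ x, s i₀ = τ → (s (ι 0) ≠ τ → S.f₂ w x = 0) → act K x = τ • x := by
      intro τ x hτ hx
      refine hf.eigen_of_perp he hKT.form hKT.sq hs fun i hi => ?_
      rcases eq_or_ne i (ι 0) with rfl | hi0
      · rw [hι0]; exact hx hi
      · exact absurd ((hn i (by simp [hRdef, hi0])).trans hτ) hi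
    rcases mul_self_eq_one_iff.1 (hs' i₀) with hτ | hτ
    · obtain ⟨x, hx⟩ := hKT.ne
      exact hx ((hev 1 x hτ fun h => absurd (hι' 0) h).trans (one_smul F x))
    · have hF' := hf.fam_three P.h₁ P.h₂ hwq P.h₁₂ hvw1 hvw2
      obtain ⟨u, hu, eu⟩ := hf.exists_aniso_fam hF' (by omega)
      obtain ⟨u', hu', eu'⟩ :=
        hf.exists_aniso_fam (hF'.cons hu eu fun i => by rw [hf.symm, eu]) (by omega)
      exact hKT.two_neg u u' hu hu' (by simpa using eu' 0) (by simpa using eu 0)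
        (by simpa using eu 1) (by simpa using eu' 1) (by simpa using eu' 2)
        (by rw [hev (-1) u hτ fun _ => by simpa using eu 2, neg_one_smul])
        (by rw [hev (-1) u' hτ fun _ => by simpa using eu' 3, neg_one_smul])
  have hside : ∀ τ : F, τ * τ = 1 → 2 < (R.filter fun k => s k = τ).card →
      (∃ j ∈ R, s j ≠ τ) → False := by
    intro τ hτ h3 hj
    obtain ⟨j, hjR, hj⟩ := hj
    obtain ⟨a₁, a₂, a₃, m1, m2, m3, n12, n13, n23⟩ := Finset.two_lt_card_iff.1 h3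
    simp only [Finset.mem_filter] at m1 m2 m3
    have hT := hf.fam_three (he.aniso a₁) (he.aniso a₂) (he.aniso a₃) (he.orth _ _ n12)
      (he.orth _ _ n13) (he.orth _ _ n23)
    refine hK (kron_of_side O hε hR ha hab hb hyH hT fun v hv hperp => ?_)
    have hout : ∀ k, k ≠ a₁ → k ≠ a₂ → k ≠ a₃ → S.f₂ (e k) v = 0 := fun k k1 k2 k3 => by
      refine hperp _ fun l => ?_
      fin_cases l <;> simp [he.orth _ _ k1, he.orth _ _ k2, he.orth _ _ k3]
    have hKv : act K v = τ • v := hf.eigen_of_perp he hKT.form hKT.sq hs fun k hk =>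
      hout k (fun h => hk (h ▸ m1.2)) (fun h => hk (h ▸ m2.2)) (fun h => hk (h ▸ m3.2))
    have hjv : ∀ {k}, k ∈ R → k ≠ ι 0 := fun hk => by simpa [hRdef] using hk
    have hwv : S.f₂ w v = 0 := hι0 ▸ hout _ (Ne.symm (hjv m1.1)) (Ne.symm (hjv m2.1))
      (Ne.symm (hjv m3.1))
    refine htwo hv (he.aniso j) (hmem hjR) (fix_conj hy fun x => ?_) (fix_conj hy fun x => ?_)
    · rw [fw, S.pi_emb, hf.symm, hwv, zero_smul]
    · exact pi_of_comm hKT.form hKT.comm (hs j) hKv hτ hj x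
  have hA := Finset.card_filter_add_card_filter_not (s := R) fun k => s k = s i₀
  have hB : (R.filter fun k => ¬ s k = s i₀) = R.filter fun k => s k = s j₀ := by
    exact Finset.filter_congr fun k _ =>
      ⟨fun h => sign_eq (hs' k) (hs' i₀) (hs' j₀) h hij, fun h => by rw [h]; exact hij⟩
  rw [hB] at hA
  by_cases c1 : 2 < (R.filter fun k => s k = s i₀).card
  · exact hside _ (hs' i₀) c1 ⟨j₀, hj₀, hij⟩
  by_cases c2 : 2 < (R.filter fun k => s k = s j₀).card
  · exact hside _ (hs' j₀) c2 ⟨i₀, hi₀, Ne.symm hij⟩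
  obtain ⟨a₁, m1, a₂, m2, n12⟩ := Finset.one_lt_card.1
    (show 1 < (R.filter fun k => s k = s i₀).card by omega)
  obtain ⟨b₁, p1, b₂, p2, q12⟩ := Finset.one_lt_card.1
    (show 1 < (R.filter fun k => s k = s j₀).card by omega)
  simp only [Finset.mem_filter] at m1 m2 p1 p2
  obtain ⟨t, ht, hwt, hKt, hsum⟩ : ∃ t, S.f₂ t t ≠ 0 ∧ S.f₂ w t = 0 ∧
      act K t = s i₀ • t ∧ S.f₂ w w + S.f₂ t t ≠ 0 := by
    by_cases d1 : S.f₂ w w + S.f₂ (e a₁) (e a₁) = 0
    swap
    · exact ⟨e a₁, he.aniso a₁, hmem m1.1, by rw [hs, m1.2], d1⟩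
    by_cases d2 : S.f₂ w w + S.f₂ (e a₂) (e a₂) = 0
    swap
    · exact ⟨e a₂, he.aniso a₂, hmem m2.1, by rw [hs, m2.2], d2⟩
    have hp : S.f₂ (e a₁ + e a₂) (e a₁ + e a₂) = -(2 * S.f₂ w w) := by
      simp only [map_add, LinearMap.add_apply, he.orth _ _ n12, he.orth _ _ (Ne.symm n12)]
      linear_combination d1 + d2
    refine ⟨e a₁ + e a₂, ?_, by simp [hmem m1.1, hmem m2.1], ?_, ?_⟩
    · rw [hp]; exact neg_ne_zero.2 (mul_ne_zero S.two hwq)
    · rw [map_add, hs, hs, m1.2, m2.2, smul_add]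
    · rw [hp]
      exact fun h => hwq (by linear_combination -h)
  have hvv : S.f₂ (w + t) (w + t) ≠ 0 := by simpa [hwt, hf.symm w t] using hsum
  have g : ∀ k ∈ R, s k = s j₀ → Fix (y * xr S (w + t) * y⁻¹) (e k) := fun k hk hks => by
    refine fix_conj hy fun x => ?_
    rw [S.pi_add, pi_of_fix (O.isom hyH) fw, S.pi_emb, hmem hk, zero_smul, zero_add,
      pi_of_comm hKT.form hKT.comm (hs k) hKt (hs' i₀) (by rw [hks]; exact hij)]
  have hconj := kron_of_fix_two O hε hR ha hab hb (isX_conj hyH hvv) (he.aniso b₁) (he.aniso b₂)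
    (he.orth _ _ q12) (g b₁ p1.1 p1.2) (g b₂ p2.1 p2.2)
  obtain ⟨r, hr, hr0, hrp⟩ := line_end O hε hR ha hab hb hy fw hwq ht hwt hvv hconj
  exact hK (hr0 (hfix r hr (hrp w fw hwt)))

include hε hb O hR in
/-- Two exceptional pairs give a line fixed in the other direction. -/
theorem kron_of_flat {y : GL (Fin a × Fin b) F} (hy : IsX S H y) {v₁ v₂ u₁ u₂ : Fin b → F}
    (P : HPair S v₁ v₂) (hF : Flat S y v₁ v₂) (hF' : Flat S y u₁ u₂)
    (hP : ∀ i, S.f₂ (![v₁, v₂] i) u₁ = 0 ∧ S.f₂ (![v₁, v₂] i) u₂ = 0) :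
    y ∈ Cfsg.Geo.kroneckerSubgroup a b F := by
  have hf := S.sym₂ hε
  obtain ⟨D, hD, hfix⟩ := hF.exists_fix
  obtain ⟨D', hD', hfix'⟩ := hF'.exists_fix
  obtain ⟨x, hx, hx0⟩ : ∃ x ∈ D ⊓ D', x ≠ 0 := by
    refine Submodule.exists_mem_ne_zero_of_ne_bot fun hbot => ?_
    have h1 := Submodule.finrank_sup_add_finrank_inf_eq D D'
    have h2 := (D ⊔ D').finrank_le
    rw [hbot, finrank_bot] at h1
    rw [finrank_fin_fun] at h2
    omega
  have hall : ∀ p, act y (emb p x) = emb p x := fun p => by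
    set q := (S.f₂ v₁ p / S.f₂ v₁ v₁) • v₁ + (S.f₂ v₂ p / S.f₂ v₂ v₂) • v₂ with hq
    have a1 : S.f₂ u₁ v₁ = 0 := by rw [hf.symm]; exact (hP 0).1
    have a2 : S.f₂ u₁ v₂ = 0 := by rw [hf.symm]; exact (hP 1).1
    have a3 : S.f₂ u₂ v₁ = 0 := by rw [hf.symm]; exact (hP 0).2
    have a4 : S.f₂ u₂ v₂ = 0 := by rw [hf.symm]; exact (hP 1).2
    have e1 := hfix' q (by simp [hq, a1, a2]) (by simp [hq, a3, a4]) x hx.2
    have e2 := hfix (p - q)
      (by simp [hq, P.h₁₂, div_mul_cancel₀ _ P.h₁])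
      (by simp [hq, hf.symm v₁ v₂, P.h₁₂, div_mul_cancel₀ _ P.h₂]) x hx.1
    rw [← sub_add_cancel p q, emb_add_left, map_add, e1, e2]
  rw [← flipGL_mem_kronecker]
  refine kron_of_lineTo_alt O.swap (S := S.swap) (show -S.ε = 1 by rw [hε, neg_neg])
    (fun h => hR h.swap) (show 3 ≤ b by omega) (Or.inl (show 4 ≤ b by omega))
    (show 3 ≤ a from hF.big) ?_ hx0 hx0 fun p => ⟨p, ?_⟩
  · rw [mem_flipH, flipGL_flipGL]; exact hy.mem O hε
  · rw [← act_apply, ← flipV_emb p x, flipGL_act, hall]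

include hε ha hab hb O hR in
/-- There is no element outside the tensor stabiliser. -/
theorem le_kronecker_alt : H ≤ Cfsg.Geo.kroneckerSubgroup a b F := by
  classical
  have hf := S.sym₂ hε
  have hX : ∀ y, IsX S H y → y ∈ Cfsg.Geo.kroneckerSubgroup a b F := by
    intro y hy
    have hyH := hy.mem O hε
    obtain ⟨v₁, v₂, P, K, hKT⟩ | hyK :
        (∃ v₁ v₂, HPair S v₁ v₂ ∧ ∃ K, Twin S y v₁ v₂ K) ∨
          y ∈ Cfsg.Geo.kroneckerSubgroup a b F := by
      obtain ⟨v₁, v₂, P, -⟩ := exists_hpair hε hb (fam_nil S.f₂) (by omega)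
      rcases exists_twin O hε hR ha hab hb hy P with hK | hF
      · exact Or.inl ⟨v₁, v₂, P, hK⟩
      obtain ⟨u₁, u₂, P', hP'⟩ := exists_hpair hε hb (hf.fam_two P.h₁ P.h₂ P.h₁₂) (by omega)
      rcases exists_twin O hε hR ha hab hb hy P' with hK | hF'
      · exact Or.inl ⟨u₁, u₂, P', hK⟩
      exact Or.inr (kron_of_flat O hε hR hb hy P hF hF' fun i => hP' i)
    swap
    · exact hyK
    obtain ⟨e, s, -, he, hs, hs', -, -, -⟩ := hf.exists_eigen_basis (fam_nil S.f₂) (by omega)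
      (act K) hKT.form hKT.sq ![] (fun i => i.elim0) (fun i => i.elim0)
    set i₀ : Fin b := ⟨0, by omega⟩
    obtain ⟨j₀, hij⟩ : ∃ j, s j ≠ s i₀ := by
      by_contra hn
      push Not at hn
      have hev : ∀ x, act K x = s i₀ • x := fun x =>
        hf.eigen_of_perp he hKT.form hKT.sq hs fun i hi => absurd (hn i) hi
      rcases mul_self_eq_one_iff.1 (hs' i₀) with hτ | hτ
      · obtain ⟨x, hx⟩ := hKT.ne
        exact hx (by rw [hev, hτ, one_smul])
      · have hF := hf.fam_two P.h₁ P.h₂ P.h₁₂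
        obtain ⟨u, hu, eu⟩ := hf.exists_aniso_fam hF (by omega)
        obtain ⟨u', hu', eu'⟩ :=
          hf.exists_aniso_fam (hF.cons hu eu fun i => by rw [hf.symm, eu]) (by omega)
        exact hKT.two_neg u u' hu hu' (by simpa using eu' 0) (by simpa using eu 0)
          (by simpa using eu 1) (by simpa using eu' 1) (by simpa using eu' 2)
          (by rw [hev, hτ, neg_one_smul]) (by rw [hev, hτ, neg_one_smul])
    have hside : ∀ τ : F, τ * τ = 1 → 2 < (Finset.univ.filter fun k => s k = τ).card →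
        (∃ j, s j ≠ τ) → y ∈ Cfsg.Geo.kroneckerSubgroup a b F := by
      intro τ hτ h3 hj
      obtain ⟨j, hj⟩ := hj
      obtain ⟨a₁, a₂, a₃, m1, m2, m3, n12, n13, n23⟩ := Finset.two_lt_card_iff.1 h3
      simp only [Finset.mem_filter, Finset.mem_univ, true_and] at m1 m2 m3
      have hT := hf.fam_three (he.aniso a₁) (he.aniso a₂) (he.aniso a₃) (he.orth _ _ n12)
        (he.orth _ _ n13) (he.orth _ _ n23)
      refine kron_of_side O hε hR ha hab hb hyH hT fun v hv hperp => ?_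
      have hKv : act K v = τ • v := hf.eigen_of_perp he hKT.form hKT.sq hs fun k hk =>
        hperp _ fun l => by
          have k1 : k ≠ a₁ := fun h => hk (h ▸ m1)
          have k2 : k ≠ a₂ := fun h => hk (h ▸ m2)
          have k3 : k ≠ a₃ := fun h => hk (h ▸ m3)
          fin_cases l <;> simp [he.orth _ _ k1, he.orth _ _ k2, he.orth _ _ k3]
      exact kron_of_fix_one O hε hR ha hab hb (isX_conj hyH hv) (he.aniso j)
        (fix_conj hy fun x => pi_of_comm hKT.form hKT.comm (hs j) hKv hτ hj x)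
    have hA := Finset.card_filter_add_card_filter_not (s := Finset.univ) fun k => s k = s i₀
    rw [Finset.card_univ, Fintype.card_fin] at hA
    by_cases c1 : 2 < (Finset.univ.filter fun k => s k = s i₀).card
    · exact hside _ (hs' i₀) c1 ⟨j₀, hij⟩
    refine hside (s j₀) (hs' j₀) ?_ ⟨i₀, Ne.symm hij⟩
    refine lt_of_lt_of_le ?_ (Finset.card_le_card (s := Finset.univ.filter fun k => ¬ s k = s i₀)
      fun k hk => ?_)
    · omega
    simp only [Finset.mem_filter, Finset.mem_univ, true_and] at hk ⊢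
    exact sign_eq (hs' k) (hs' i₀) (hs' j₀) hk hij
  intro h hh
  obtain ⟨T, hT, -⟩ := hf.exists_three_fam (fam_nil S.f₂) (by omega)
  exact kron_of_side O hε hR ha hab hb hh hT fun v hv _ => hX _ (isX_conj hh hv)

end Cfsg.Agent.TensorInv
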