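import Cfsg.Agent.TensorInv.Setup

/-!
Elementary isometries of the two factors: transvections and reflections, transitivity (helper19).
-/

set_option autoImplicit false
set_option linter.unusedSectionVars false
set_option linter.unusedSimpArgs false

namespace Cfsg.Agent.TensorInv

open Matrix Cfsg.Agent.MaxSub Cfsg.Agent.TensorMax Module

variable {F : Type*} [Field F] {n : ℕ}

variable {f : (Fin n → F) →ₗ[F] (Fin n → F) →ₗ[F] F}

/-- The transvection of an alternating form. -/
def tmap (f : (Fin n → F) →ₗ[F] (Fin n → F) →ₗ[F] F) (w : Fin n → F) (c : F) :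
    (Fin n → F) →ₗ[F] (Fin n → F) :=
  LinearMap.id + (c • f w).smulRight w

/-- The transvection `y ↦ y + c f(w, y) w`. -/
noncomputable def trans (f : (Fin n → F) →ₗ[F] (Fin n → F) →ₗ[F] F) (halt : ∀ x, f x x = 0)
    (w : Fin n → F) (c : F) : GL (Fin n) F :=
  mkGL (tmap f w c) (tmap f w (-c))
    (fun x => by simp [tmap, halt])
    (fun x => by simp [tmap, halt])

theorem trans_apply (halt : ∀ x, f x x = 0) (w : Fin n → F) (c : F) (x : Fin n → F) :
    act (trans f halt w c) x = x + (c * f w x) • w := by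
  rw [trans, act_apply, mkGL_mulVec]
  simp [tmap]

theorem trans_form (halt : ∀ x, f x x = 0) (hskew : ∀ x y, f y x = -f x y) (w : Fin n → F) (c : F)
    (x y : Fin n → F) : f (act (trans f halt w c) x) (act (trans f halt w c) y) = f x y := by
  rw [trans_apply, trans_apply]
  simp only [map_add, LinearMap.add_apply, map_smul, LinearMap.smul_apply, smul_eq_mul, halt,
    hskew w x]
  ring

theorem trans_inv (halt : ∀ x, f x x = 0) (w : Fin n → F) (c : F) :
    (trans f halt w c)⁻¹ = trans f halt w (-c) := by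
  refine gl_ext fun z => mulVec_injective (trans f halt w c) ?_
  show act (trans f halt w c) (act (trans f halt w c)⁻¹ z) =
    act (trans f halt w c) (act (trans f halt w (-c)) z)
  rw [act_act_inv, trans_apply, trans_apply]
  simp [halt]

/-- Two vectors have a common vector with non-zero products. -/
theorem exists_both (nd : ∀ x, (∀ y, f x y = 0) → x = 0) {u v : Fin n → F} (hu : u ≠ 0) (hv : v ≠ 0) :
    ∃ z, f u z ≠ 0 ∧ f v z ≠ 0 := by
  have e : ∀ {u}, u ≠ 0 → ∃ z ∈ (⊤ : Submodule F (Fin n → F)), z ∉ LinearMap.ker (f u) := by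
    intro u hu
    by_contra hn
    push Not at hn
    exact hu (nd u fun y => hn y Submodule.mem_top)
  obtain ⟨z, -, h1, h2⟩ := exists_mem_notMem_notMem (e hu) (e hv)
  exact ⟨z, h1, h2⟩

/-- The symplectic group of a factor is transitive on non-zero vectors. -/
theorem exists_alt_move (halt : ∀ x, f x x = 0) (hskew : ∀ x y, f y x = -f x y)
    (nd : ∀ x, (∀ y, f x y = 0) → x = 0) {u v : Fin n → F} (hu : u ≠ 0) (hv : v ≠ 0) :
    ∃ g : GL (Fin n) F, (∀ x y, f (act g x) (act g y) = f x y) ∧ act g u = v := by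
  have step : ∀ u v, f u v ≠ 0 →
      ∃ g : GL (Fin n) F, (∀ x y, f (act g x) (act g y) = f x y) ∧ act g u = v := by
    intro u v h
    refine ⟨trans f halt (v - u) (f v u)⁻¹, trans_form halt hskew _ _, ?_⟩
    rw [trans_apply, map_sub, LinearMap.sub_apply, halt, sub_zero,
      inv_mul_cancel₀ (by rw [hskew]; exact neg_ne_zero.2 h), one_smul, add_sub_cancel]
  obtain ⟨z, h1, h2⟩ := exists_both nd hu hv
  obtain ⟨g, hg, hgu⟩ := step u z h1
  obtain ⟨g', hg', hgu'⟩ := step z v (by rw [hskew]; exact neg_ne_zero.2 h2)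
  exact ⟨g' * g, fun x y => by rw [act_mul, act_mul, hg', hg], by rw [act_mul, hgu, hgu']⟩

/-- A singular vector has a singular partner. -/
theorem exists_partner (h2 : (2 : F) ≠ 0) (hsymm : ∀ x y, f y x = f x y)
    (nd : ∀ x, (∀ y, f x y = 0) → x = 0) {u : Fin n → F} (hu : u ≠ 0) (huu : f u u = 0) :
    ∃ u', f u' u' = 0 ∧ f u u' = 1 := by
  obtain ⟨z, hz, -⟩ := exists_both nd hu hu
  refine ⟨(f u z)⁻¹ • (z - (f z z / (2 * f u z)) • u), ?_, ?_⟩
  · simp only [map_smul, LinearMap.smul_apply, map_sub, LinearMap.sub_apply, smul_eq_mul, huu,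
      hsymm u z]
    field_simp
    ring
  · simp only [map_smul, map_sub, smul_eq_mul, huu, mul_zero, sub_zero]
    exact inv_mul_cancel₀ hz

/-- The orthogonal group of a factor is transitive on non-zero singular vectors. -/
theorem exists_symm_move (h2 : (2 : F) ≠ 0) (hsymm : ∀ x y, f y x = f x y)
    (nd : ∀ x, (∀ y, f x y = 0) → x = 0) {u v : Fin n → F} (hu : u ≠ 0) (hv : v ≠ 0)
    (huu : f u u = 0) (hvv : f v v = 0) :
    ∃ g : GL (Fin n) F, (∀ x y, f (act g x) (act g y) = f x y) ∧ act g u = v := by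
  have step : ∀ u v, f u u = 0 → f v v = 0 → f u v ≠ 0 →
      ∃ g : GL (Fin n) F, (∀ x y, f (act g x) (act g y) = f x y) ∧ act g u = v := by
    intro u v huu hvv h
    have hd : f (u - v) (u - v) = -(2 * f u v) := by
      simp only [map_sub, LinearMap.sub_apply, huu, hvv, hsymm u v]
      ring
    have hd0 : f (u - v) (u - v) ≠ 0 := by rw [hd]; exact neg_ne_zero.2 (mul_ne_zero h2 h)
    refine ⟨refl f (u - v), refl_form hsymm hd0, ?_⟩
    rw [refl_apply, hd, map_sub, LinearMap.sub_apply, huu, hsymm u v, zero_sub, mul_neg,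
      div_self (neg_ne_zero.2 (mul_ne_zero h2 h)), one_smul, sub_sub_cancel]
  obtain ⟨z, h1, h3⟩ := exists_both nd hu hv
  by_cases huv : f u v = 0
  swap
  · exact step u v huu hvv huv
  set m := z - (f z z / (2 * f u z)) • u with hm
  have hmm : f m m = 0 := by
    simp only [hm, map_smul, LinearMap.smul_apply, map_sub, LinearMap.sub_apply, smul_eq_mul, huu,
      hsymm u z]
    field_simp
    ring
  have e1 : f u m ≠ 0 := by simp [hm, huu, h1]
  have e2 : f m v ≠ 0 := by
    simp [hm, huv, hsymm v z]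
    exact h3
  obtain ⟨g, hg, hgu⟩ := step u m huu hmm e1
  obtain ⟨g', hg', hgu'⟩ := step m v hmm hvv e2
  exact ⟨g' * g, fun x y => by rw [act_mul, act_mul, hg', hg], by rw [act_mul, hgu, hgu']⟩

namespace TForm

variable {a b : ℕ} (S : TForm F a b)

theorem symm₂ (hε : S.ε = -1) (v w : Fin b → F) : S.f₂ w v = S.f₂ v w := by
  rw [S.flip₂, hε, neg_one_mul, neg_neg]

theorem skew₁ (hε : S.ε = -1) (x y : Fin a → F) : S.f₁ y x = -S.f₁ x y := by
  rw [S.flip₁, hε, neg_one_mul]

theorem alt₁ (hε : S.ε = -1) (x : Fin a → F) : S.f₁ x x = 0 :=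
  (mul_eq_zero.1 (show (2 : F) * S.f₁ x x = 0 by linear_combination S.skew₁ hε x x)).resolve_left S.two

theorem skew₂ (hε : S.ε = 1) (v w : Fin b → F) : S.f₂ w v = -S.f₂ v w := by
  rw [S.flip₂, hε, one_mul]

theorem symm₁ (hε : S.ε = 1) (x y : Fin a → F) : S.f₁ y x = S.f₁ x y := by
  rw [S.flip₁, hε, one_mul]

theorem alt₂ (hε : S.ε = 1) (v : Fin b → F) : S.f₂ v v = 0 :=
  (mul_eq_zero.1 (show (2 : F) * S.f₂ v v = 0 by linear_combination S.skew₂ hε v v)).resolve_left S.two

end TForm

end Cfsg.Agent.TensorInv
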