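import Cfsg.Agent.TensorInv.Swap
import Cfsg.Agent.TensorInv.Moves

/-!
A root element at a doubly isotropic pure tensor gives the whole symplectic group (helper19).
-/

set_option autoImplicit false
set_option linter.unusedSectionVars false
set_option linter.unusedSimpArgs false

namespace Cfsg.Agent.TensorInv

open Matrix Cfsg.Agent.MaxSub Cfsg.Agent.TensorMax Module

variable {F : Type*} [Field F] {a b : ℕ} {S : TForm F a b} {H : Subgroup (GL (Fin a × Fin b) F)}

theorem root_centre (O : Over S H) (hε : S.ε = -1) {x : Fin a → F} {n : Fin b → F} {c : F}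
    (hx : x ≠ 0) (hc : c ≠ 0) (hm : st S.om (emb n x) c ∈ H) : emb n x ∈ centres S.om H := by
  intro d
  have hsq : ∀ t : F, t ≠ 0 → st S.om (emb n x) (c * t ^ 2) ∈ H := by
    intro t ht
    obtain ⟨g, hg, hgx⟩ := exists_alt_move (S.alt₁ hε) (S.skew₁ hε) S.nd₁ hx (v := t • x)
      (smul_ne_zero ht hx)
    have h1 := O.left hg
    have h3 := mul_mem (mul_mem h1 hm) (inv_mem h1)
    rw [st_conj S.om_symplectic (O.isom h1), ← act_apply, act_kr, act_one, hgx, map_smul] at h3
    have e : st S.om (t • emb n x) c = st S.om (emb n x) (c * t ^ 2) := gl_ext fun z => by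
      rw [st_mulVec S.om_symplectic, st_mulVec S.om_symplectic, S.om_smul_right, smul_smul]
      congr 2
      ring
    rwa [e] at h3
  have hadd : ∀ s t, st S.om (emb n x) s ∈ H → st S.om (emb n x) t ∈ H →
      st S.om (emb n x) (s + t) ∈ H := by
    intro s t hs ht
    have e : st S.om (emb n x) s * st S.om (emb n x) t = st S.om (emb n x) (s + t) := gl_ext fun z => by
      rw [Units.val_mul, ← mulVec_mulVec, st_mulVec S.om_symplectic, st_mulVec S.om_symplectic,
        st_mulVec S.om_symplectic, S.om_add_left, S.om_smul_left, S.om_alt]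
      module
    exact e ▸ mul_mem hs ht
  have hneg : ∀ s, st S.om (emb n x) s ∈ H → st S.om (emb n x) (-s) ∈ H := by
    intro s hs
    have e : (st S.om (emb n x) s)⁻¹ = st S.om (emb n x) (-s) := gl_ext fun z =>
      mulVec_injective (st S.om (emb n x) s) (by
        show _ *ᵥ _ = _ *ᵥ _
        rw [mulVec_inv_mulVec, st_mulVec S.om_symplectic, st_mulVec S.om_symplectic,
          S.om_add_left, S.om_smul_left, S.om_alt]
        module)
    exact e ▸ inv_mem hs
  have hsq' : ∀ t : F, st S.om (emb n x) (c * t ^ 2) ∈ H := by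
    intro t
    rcases eq_or_ne t 0 with rfl | ht
    · have h0 := hadd _ _ hm (hneg _ hm)
      rwa [add_neg_cancel, ← mul_zero c, ← zero_pow two_ne_zero (M₀ := F)] at h0
    · exact hsq t ht
  have := hadd _ _ (hsq' ((d / c + 1) / 2)) (hneg _ (hsq' ((d / c - 1) / 2)))
  have h2 := S.two
  convert this using 2
  field_simp
  ring

theorem centre_pure (O : Over S H) (hε : S.ε = -1) (hR : Root S H) (x : Fin a → F) {n : Fin b → F}
    (hn : S.f₂ n n = 0) : emb n x ∈ centres S.om H := by
  obtain ⟨x₀, n₀, c, hx₀, hn₀, -, hnn₀, hc, hm⟩ := hR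
  have h0 := root_centre O hε hx₀ hc hm
  have hz : (0 : V F a b) ∈ centres S.om H := by
    simpa using smul_mem_centres S.om_symplectic h0 0
  rcases eq_or_ne x 0 with rfl | hx
  · rwa [map_zero]
  rcases eq_or_ne n 0 with rfl | hn0
  · rwa [emb_zero_left]
  obtain ⟨g, hg, hgx⟩ := exists_alt_move (S.alt₁ hε) (S.skew₁ hε) S.nd₁ hx₀ hx
  obtain ⟨k, hk, hkn⟩ := exists_symm_move S.two (S.symm₂ hε) S.nd₂ hn₀ hn0 hnn₀ hn
  have h1 := mul_mem (O.left hg) (O.right hk)
  have := conj_mem_centres S.om_symplectic h1 (O.isom h1) h0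
  rwa [← act_apply, kr_mul, mul_one, one_mul, act_kr, hgx, hkn] at this

variable [Finite F]

/-- A root element gives the whole isometry group. -/
theorem isom_le_of_root (O : Over S H) (hε : S.ε = -1) (hR : Root S H) : isom S.om ≤ H := by
  classical
  refine isom_le_of_st_mem S.om_symplectic fun z => ?_
  show z ∈ centres S.om H
  have h2 := S.two
  obtain ⟨x₀, n, -, -, hn, -, hnn, -, -⟩ := id hR
  obtain ⟨n', hn'n', hnn'⟩ := exists_partner S.two (S.symm₂ hε) S.nd₂ hn hnn
  have hn'n : S.f₂ n' n = 1 := by rw [S.symm₂ hε, hnn']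
  have hsf := S.om_symplectic
  -- a singular vector with non-zero contraction
  rcases eq_or_ne z 0 with rfl | hz
  · simpa using centre_pure O hε hR (0 : Fin a → F) hnn
  obtain ⟨m, hmm, hmz⟩ : ∃ m, S.f₂ m m = 0 ∧ S.pi m z ≠ 0 := by
    by_contra hc
    push Not at hc
    refine hz (S.eq_of_pi fun d => ?_)
    rw [map_zero]
    set t := d - S.f₂ n' d • n - S.f₂ n d • n'
    have ht : S.f₂ n t = 0 ∧ S.f₂ n' t = 0 := by
      simp [t, hnn, hnn', hn'n, hn'n']
    set m := n' + t - (S.f₂ t t / 2) • n with hm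
    have hmm : S.f₂ m m = 0 := by
      simp [hm, hnn, hnn', hn'n, hn'n', ht.1, ht.2, S.symm₂ hε n t, S.symm₂ hε n' t]
      field_simp
      ring
    have e := hc m hmm
    rw [hm, TForm.pi_sub, TForm.pi_smul, TForm.pi_add, hc n hnn, hc n' hn'n', smul_zero, sub_zero,
      zero_add] at e
    have ed : d = t + S.f₂ n' d • n + S.f₂ n d • n' := by simp only [t]; abel
    rw [ed, TForm.pi_add, TForm.pi_add, TForm.pi_smul, TForm.pi_smul, e, hc n hnn, hc n' hn'n',
      smul_zero, smul_zero, add_zero, add_zero]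
  have hm0 : m ≠ 0 := fun h => hmz (by
    rw [h, ← zero_smul F (0 : Fin b → F), TForm.pi_smul, zero_smul])
  clear hnn' hn'n hn'n' n' hn hnn n
  obtain ⟨m', hm'm', hmm'⟩ := exists_partner S.two (S.symm₂ hε) S.nd₂ hm0 hmm
  have hm'm : S.f₂ m' m = 1 := by rw [S.symm₂ hε, hmm']
  let ι : ((Fin a → F) × (Fin a → F)) →ₗ[F] V F a b :=
    (emb m).coprod (emb m')
  have hι : ∀ p, ι p = emb m p.1 + emb m' p.2 := fun p => LinearMap.coprod_apply _ _ _
  have hom : ∀ p q, S.om (ι p) (ι q) = S.f₁ p.1 q.2 + S.f₁ p.2 q.1 := fun p q => by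
    simp only [hι, TForm.om_add_left, TForm.om_add_right, TForm.om_emb_emb, hmm, hmm', hm'm, hm'm']
    ring
  have hndι : ∀ p, p ≠ 0 → ∃ q, S.om (ι p) (ι q) ≠ 0 := by
    intro p hp
    by_contra hc
    push Not at hc
    refine hp (Prod.ext (S.nd₁ _ fun y => ?_) (S.nd₁ _ fun y => ?_))
    · simpa [hom] using hc (0, y)
    · simpa [hom] using hc (y, 0)
  -- all vectors of the plane are centres
  have hW : ∀ p, ι p ∈ centres S.om H := by
    intro p
    obtain ⟨x, y⟩ := p
    rw [hι]
    have hy' := centre_pure O hε hR y hm'm'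
    have hx' := centre_pure O hε hR x hmm
    by_cases hxy : S.f₁ x y = 0
    swap
    · simpa using add_smul_mem_centres hsf hx' hy' (by simpa [TForm.om_emb_emb, hmm'] using hxy) 1
    rcases eq_or_ne y 0 with rfl | hy
    · simpa using hx'
    obtain ⟨u, hu, -⟩ := exists_both S.nd₁ hy hy
    have h1 : S.f₁ (x + u) y ≠ 0 := by
      simpa [hxy, S.skew₁ hε y u] using hu
    have h3 := add_smul_mem_centres hsf (centre_pure O hε hR (x + u) hmm) hy'
      (by rw [TForm.om_emb_emb, hmm', mul_one]; exact h1) 1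
    have h4 := add_smul_mem_centres hsf h3 (centre_pure O hε hR u hmm)
      (by simpa [TForm.om_emb_emb, TForm.om_add_left, hmm, hm'm] using hu) (-1)
    convert h4 using 1
    simp
    abel
  let U : Set (V F a b) := {w | S.pi m w = 0 ∧ S.pi m' w = 0 ∧
    ∀ p, p ≠ 0 → ι p + w ∈ centres S.om H}
  have horth : ∀ w, S.pi m w = 0 → S.pi m' w = 0 → ∀ p, S.om (ι p) w = 0 := fun w h1 h3 p => by
    simp [hι, TForm.om_add_left, TForm.om_emb, h1, h3]
  have hchange : ∀ w, S.pi m w = 0 → S.pi m' w = 0 → ∀ p, p ≠ 0 → ι p + w ∈ centres S.om H →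
      w ∈ U := by
    intro w h1 h3 p hp hpw
    refine ⟨h1, h3, fun q hq => ?_⟩
    have step : ∀ p q, S.om (ι p) (ι q) ≠ 0 → ι p + w ∈ centres S.om H → ι q + w ∈ centres S.om H := by
      intro p q hne h
      have e : S.om (ι p + w) (ι (q - p)) ≠ 0 := by
        rwa [TForm.om_add_left, S.om_skew w, horth w h1 h3, neg_zero, add_zero, map_sub,
          TForm.om_sub_right, TForm.om_alt, sub_zero]
      have := add_smul_mem_centres hsf h (hW (q - p)) e 1
      convert this using 1
      rw [one_smul, map_sub]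
      abel
    obtain ⟨p', hp'⟩ := hndι p hp
    obtain ⟨q', hq'⟩ := hndι q hq
    let L : ∀ p, ((Fin a → F) × (Fin a → F)) →ₗ[F] F := fun p => rmap S.om_bilinear (ι p) ∘ₗ ι
    obtain ⟨r, -, hr1, hr2⟩ := exists_mem_notMem_notMem (P := (⊤ : Submodule F _))
      (Q := LinearMap.ker (L p)) (R := LinearMap.ker (L q))
      ⟨p', Submodule.mem_top, hp'⟩ ⟨q', Submodule.mem_top, hq'⟩
    refine step r q ?_ (step p r hr1 hpw)
    rw [S.om_skew]
    exact neg_ne_zero.2 hr2
  have hpure : ∀ t, S.f₂ m t = 0 → S.f₂ m' t = 0 → ∀ x, emb t x ∈ U := by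
    intro t ht ht' x
    rcases eq_or_ne x 0 with rfl | hx
    · rw [map_zero]
      exact ⟨map_zero _, map_zero _, fun p _ => by rw [add_zero]; exact hW p⟩
    have hs : S.f₂ (m' + t - (S.f₂ t t / 2) • m) (m' + t - (S.f₂ t t / 2) • m) = 0 := by
      simp [hmm, hmm', hm'm, hm'm', ht, ht', S.symm₂ hε m t, S.symm₂ hε m' t]
      field_simp
      ring
    refine hchange _ (by simp [TForm.pi_emb, ht]) (by simp [TForm.pi_emb, ht'])
      (-(S.f₂ t t / 2) • x, x) (fun h => hx (congrArg Prod.snd h)) ?_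
    have := centre_pure O hε hR x hs
    convert this using 1
    simp only [hι, emb_sub_left, emb_add_left, emb_smul_left, map_smul]
    module
  have hUadd : ∀ v w, v ∈ U → w ∈ U → v + w ∈ U := by
    rintro v w ⟨h1, h1', hv⟩ ⟨h3, h3', hw⟩
    refine ⟨by rw [map_add, h1, h3, add_zero], by rw [map_add, h1', h3', add_zero], fun p hp => ?_⟩
    obtain ⟨u, hu⟩ := hndι p hp
    obtain ⟨r, hr⟩ : ∃ r, S.om (ι r) (ι p) = 1 :=
      ⟨-(S.om (ι p) (ι u))⁻¹ • u, by
        rw [map_smul, TForm.om_smul_left, S.om_skew (ι u), neg_mul_neg, inv_mul_cancel₀ hu]⟩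
    obtain ⟨s, hs, hs'⟩ : ∃ s : F, s ≠ 0 ∧ s + S.om v w ≠ 0 := by
      by_cases h : 1 + S.om v w = 0
      · exact ⟨-1, by simp, fun h' => h2 (by linear_combination h - h')⟩
      · exact ⟨1, one_ne_zero, h⟩
    have hq1 : s • r ≠ 0 := smul_ne_zero hs fun h => by
      simp [h, TForm.om_zero_left] at hr
    have hq2 : p - s • r ≠ 0 := fun h => by
      have e := congrArg (fun q => S.om (ι r) (ι q)) h
      simp [TForm.om_sub_right, TForm.om_smul_right, hr, TForm.om_alt, TForm.om_zero_right] at e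
    have e : S.om (ι (s • r) + v) (ι (p - s • r) + w) ≠ 0 := by
      simpa [TForm.om_add_left, TForm.om_add_right, horth w h3 h3', S.om_skew v (ι _),
        horth v h1 h1', TForm.om_sub_right, TForm.om_smul_left, TForm.om_smul_right, hr,
        TForm.om_alt] using hs'
    have := add_smul_mem_centres hsf (hv _ hq1) (hw _ hq2) e 1
    convert this using 1
    rw [one_smul, map_sub]
    abel
  -- decompose `z`
  set t : Fin b → (Fin b → F) := fun j =>
    Pi.single j 1 - S.f₂ m' (Pi.single j 1) • m - S.f₂ m (Pi.single j 1) • m'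
  have hsum : (∑ j, emb (t j) (col j z)) = z - emb m (S.pi m' z) - emb m' (S.pi m z) := by
    have e : ∀ d, S.pi d z = ∑ j, S.f₂ d (Pi.single j 1) • col j z := fun d => by
      conv_lhs => rw [eq_sum_emb z, map_sum]
      simp [TForm.pi_emb]
    simp only [t, emb_sub_left, emb_smul_left, Finset.sum_sub_distrib, ← eq_sum_emb, e, map_sum,
      map_smul]
  have hU : z - emb m (S.pi m' z) - emb m' (S.pi m z) ∈ U := by
    rw [← hsum]
    refine Finset.sum_induction _ (· ∈ U) hUadd ?_ fun j _ => hpure _ ?_ ?_ _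
    · exact ⟨map_zero _, map_zero _, fun p _ => by rw [add_zero]; exact hW p⟩
    · simp [t, hmm, hmm']
    · simp [t, hm'm, hm'm']
  have := hU.2.2 (S.pi m' z, S.pi m z) (fun h => hmz (congrArg Prod.snd h))
  convert this using 1
  rw [hι]
  abel

/-- A root element gives the whole isometry group, either order of the factors. -/
theorem isom_le_of_root' (O : Over S H) (hε : S.ε = 1) (hR : Root S H) : isom S.om ≤ H := by
  have hR' : Root S.swap (flipH H) := by
    obtain ⟨x, n, c, hx, hn, hxx, hnn, hc, hm⟩ := hR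
    refine ⟨n, x, c, hn, hx, hnn, hxx, hc, ?_⟩
    rw [mem_flipH, ← flipV_emb n x, ← TForm.flipGL_st, flipGL_flipGL]
    exact hm
  intro g hg
  have := isom_le_of_root O.swap (show -S.ε = -1 by rw [hε]) hR' (S.swap_isom.2 hg)
  rwa [mem_flipH, flipGL_flipGL] at this

end Cfsg.Agent.TensorInv
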