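import Cfsg.Agent.TensorInv.FourLine

/-!
No proper overgroup without root elements of the stabiliser of a product `Sp₄ ⊗ O₄` (helper19).
-/

set_option autoImplicit false
set_option linter.unusedSectionVars false
set_option linter.unusedSimpArgs false

namespace Cfsg.Agent.TensorInv

open Matrix Cfsg.Agent.MaxSub Cfsg.Agent.TensorMax Module

variable {F : Type*} [Field F]

variable {S : TForm F 4 4} {H : Subgroup (GL (Fin 4 × Fin 4) F)}

/-- Two descriptions of a Kronecker product. -/
theorem scalar_of_eq_left {g : GL (Fin 4) F} {k q : GL (Fin 4) F}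
    (h : kr g k = kr (1 : GL (Fin 4) F) q) : ∃ c : F, ∀ x, act g x = c • x := by
  set w : Fin 4 → F := fun _ => 1
  have hw : act k w ≠ 0 := fun h0 =>
    one_ne_zero (congrFun (act_injective k (h0.trans (map_zero _).symm) : w = 0) 0)
  obtain ⟨j, hj⟩ := Function.ne_iff.1 hw
  refine ⟨(act k w j)⁻¹ * act q w j, fun x => funext fun i => ?_⟩
  have e := congrFun (congrArg (fun M : GL (Fin 4 × Fin 4) F => act M (emb w x)) h) (i, j)
  simp only [act_kr, act_one] at e
  have e' : act g x i * act k w j = x i * act q w j := e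
  rw [Pi.smul_apply, smul_eq_mul]
  linear_combination (act k w j)⁻¹ * e' -
    act g x i * inv_mul_cancel₀ (show act k w j ≠ 0 from hj)

variable [Finite F] (O : Over S H) (hε : S.ε = -1) (hR : ¬ Root S H)

include hε in
/-- A transvection-like element centralising an element with scalar square. -/
theorem exists_commuting_trans (g : GL (Fin 4) F) {κ ν : F} (hgg : ∀ x, act g (act g x) = κ • x)
    (hν : ∀ x y, S.f₁ (act g x) (act g y) = ν * S.f₁ x y) (hν0 : ν ≠ 0) (hνκ : ν ^ 2 = κ ^ 2) :
    ∃ (φ : Fin 4 → F) (T : GL (Fin 4) F), φ ≠ 0 ∧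
      (∀ x y, S.f₁ (act T x) (act T y) = S.f₁ x y) ∧
      (∀ x, act g (act T x) = act T (act g x)) ∧
      (∀ x, act T (act T x - x) = act T x - x) ∧
      ∀ z, act (kr T (1 : GL (Fin 4) F)) z = z → rho S φ z = 0 := by
  have halt := S.alt₁ hε
  have hskew := S.skew₁ hε
  have hκ0 : κ ≠ 0 := fun h => hν0 (by
    rw [h] at hνκ; simpa using hνκ)
  set c := ν⁻¹ with hc
  have hswap : ∀ x y, S.f₁ x (act g y) = c * κ * S.f₁ (act g x) y := fun x y => by
    have e := hν x (act g y)
    rw [hgg, map_smul, smul_eq_mul] at e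
    rw [mul_assoc, e, ← mul_assoc, inv_mul_cancel₀ hν0, one_mul]
  obtain ⟨φ, hφ, hQ, hdep⟩ : ∃ φ : Fin 4 → F, φ ≠ 0 ∧ S.f₁ φ (act g φ) = 0 ∧
      ∀ l : F, act g φ = l • φ → 1 + c * l ^ 2 ≠ 0 := by
    rcases eq_or_eq_neg_of_sq_eq_sq ν κ hνκ with h | h
    · refine ⟨fun _ => 1, fun h0 => one_ne_zero (congrFun h0 0), ?_, fun l hl hzero => S.two ?_⟩
      · have e := hswap (fun _ => 1) (fun _ => 1)
        rw [hc, h, inv_mul_cancel₀ hκ0, one_mul, hskew _ (act g _)] at e
        exact (mul_eq_zero.1 (show (2 : F) * S.f₁ (fun _ => 1) (act g fun _ => 1) = 0 by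
          linear_combination e)).resolve_left S.two
      · have e : κ • (fun _ => (1 : F) : Fin 4 → F) = (l * l) • (fun _ => 1) := by
          rw [← hgg, hl, map_smul, hl, smul_smul]
        have e' : κ = l * l := by simpa using congrFun e 0
        rw [hc, h, e', sq, inv_mul_cancel₀ (e' ▸ hκ0)] at hzero
        linear_combination hzero
    have hcκ : c * κ = -1 := by
      rw [hc, h, inv_neg, neg_mul, inv_mul_cancel₀ hκ0]
    have hB : Sym (S.f₁.compl₂ (act g)) := ⟨fun x y => by
        simp only [LinearMap.compl₂_apply]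
        rw [hswap, hcκ, neg_one_mul, ← hskew],
      fun x hx => S.nd₁ x fun y => by
        have := hx (act g⁻¹ y)
        rwa [LinearMap.compl₂_apply, act_act_inv] at this, S.two⟩
    obtain ⟨e, he, hee⟩ := hB.exists_singular (by norm_num)
    rw [LinearMap.compl₂_apply] at hee
    by_cases hdep : ∃ l : F, act g e = l • e
    swap
    · exact ⟨e, he, hee, fun l hl => absurd ⟨l, hl⟩ hdep⟩
    obtain ⟨l, hl⟩ := hdep
    have hll : κ = l * l := smul_left_injective F he (by
      show κ • e = (l * l) • e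
      rw [← hgg, hl, map_smul, hl, smul_smul])
    have hl0 : l ≠ 0 := fun h0 => hκ0 (by rw [hll, h0, mul_zero])
    have hge : ∀ x, S.f₁ e x = 0 → S.f₁ e (act g x) = 0 := fun x hx => by
      rw [hswap, hl, map_smul, LinearMap.smul_apply, hx, smul_zero, mul_zero]
    obtain ⟨x, hx, hxl⟩ : ∃ x, S.f₁ e x = 0 ∧ act g x ≠ l • x := by
      by_contra hn
      push Not at hn
      have hiso : ∀ x y, S.f₁ e x = 0 → S.f₁ e y = 0 → S.f₁ x y = 0 := fun x y hx hy => by
        have e1 := hswap x y
        rw [hn x hx, hn y hy, map_smul, map_smul, LinearMap.smul_apply, smul_eq_mul, hcκ] at e1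
        exact (mul_eq_zero.1 (show (2 * l) * S.f₁ x y = 0 by linear_combination e1)).resolve_left
          (mul_ne_zero S.two hl0)
      obtain ⟨p, hp, -⟩ := exists_both S.nd₁ he he
      have hW : LinearMap.ker (S.f₁ e) ≤ Submodule.span F {e} := fun x hx => by
        rw [LinearMap.mem_ker] at hx
        refine Submodule.mem_span_singleton.2 ⟨S.f₁ x p / S.f₁ e p, ?_⟩
        refine (S.eq₁ (fun q => ?_)).symm
        have e1 := hiso x (q - (S.f₁ e q / S.f₁ e p) • p) hx (by
          rw [map_sub, map_smul, smul_eq_mul, div_mul_cancel₀ _ hp, sub_self])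
        rw [map_sub, map_smul, smul_eq_mul, sub_eq_zero] at e1
        rw [hskew x q, e1, map_smul, smul_eq_mul, hskew e q]
        field_simp
      have h1 := Submodule.finrank_mono hW
      rw [finrank_span_singleton he] at h1
      have h2 := LinearMap.finrank_range_add_finrank_ker (S.f₁ e)
      have h3 := (LinearMap.range (S.f₁ e)).finrank_le
      rw [finrank_self] at h3
      rw [finrank_fin_fun] at h2
      omega
    set e' := act g x - l • x with he'
    have he'0 : e' ≠ 0 := sub_ne_zero.2 hxl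
    have hge' : act g e' = -(l • e') := by
      rw [he', map_sub, map_smul, hgg, hll]
      module
    have hee' : S.f₁ e e' = 0 := by rw [he', map_sub, map_smul, hge x hx, hx, smul_zero, sub_zero]
    have hgsum : act g (e + e') = l • e - l • e' := by rw [map_add, hl, hge', ← sub_eq_add_neg]
    refine ⟨e + e', fun h0 => ?_, ?_, fun m hm => ?_⟩
    · have := congrArg (act g) h0
      rw [hgsum, map_zero] at this
      refine he ((smul_eq_zero.1 (show (2 * l) • e = 0 from ?_)).resolve_left (mul_ne_zero S.two hl0))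
      linear_combination (norm := module) this + l • h0
    · rw [hgsum]
      simp [halt, hee', hskew e e']
    · exfalso
      rw [hgsum] at hm
      have hm2 := congrArg (act g) hm
      simp only [map_sub, map_smul, map_add, hl, hge'] at hm2
      have e1 : (2 * l * (l - m)) • e = 0 := by
        linear_combination (norm := module) hm2 + l • hm
      rcases smul_eq_zero.1 e1 with e2 | e2
      · have hlm : l = m :=
          sub_eq_zero.1 ((mul_eq_zero.1 e2).resolve_left (mul_ne_zero S.two hl0))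
        subst hlm
        refine he'0 ((smul_eq_zero.1 (show (2 * l) • e' = 0 from ?_)).resolve_left
          (mul_ne_zero S.two hl0))
        linear_combination (norm := module) -hm
      · exact he e2
  have hQ' : S.f₁ (act g φ) φ = 0 := by rw [hskew φ, hQ, neg_zero]
  set T := trans S.f₁ halt φ 1 * trans S.f₁ halt (act g φ) c with hT
  have hTap : ∀ x, act T x = x + S.f₁ φ x • φ + (c * S.f₁ (act g φ) x) • act g φ := fun x => by
    rw [hT, act_mul, trans_apply, trans_apply, one_mul, map_add, map_smul, hQ, smul_zero, add_zero]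
    abel
  refine ⟨φ, T, hφ, fun x y => ?_, fun x => ?_, fun x => ?_, fun z hz => ?_⟩
  · rw [hT, act_mul, act_mul, trans_form halt hskew, trans_form halt hskew]
  · rw [hTap, hTap, map_add, map_add, map_smul, map_smul, hgg, hν, hswap φ x]
    match_scalars
    · ring
    · linear_combination -(S.f₁ φ x) * (inv_mul_cancel₀ hν0)
    · ring
  · rw [hTap (act T x - x)]
    have e : act T x - x = S.f₁ φ x • φ + (c * S.f₁ (act g φ) x) • act g φ := by rw [hTap]; abel
    have e1 : S.f₁ φ (act T x - x) = 0 := by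
      rw [e, map_add, map_smul, map_smul, halt, hQ, smul_zero, smul_zero, add_zero]
    have e2 : S.f₁ (act g φ) (act T x - x) = 0 := by
      rw [e, map_add, map_smul, map_smul, halt, hQ', smul_zero, smul_zero, add_zero]
    rw [e1, e2, zero_smul, mul_zero, zero_smul, add_zero, add_zero]
  · have hTz : act (kr T (1 : GL (Fin 4) F)) z =
        z + emb (rho S φ z) φ + c • emb (rho S (act g φ) z) (act g φ) := by
      refine ext_emb (f := act (kr T 1))
        (g := LinearMap.id + embR φ ∘ₗ rho S φ + c • (embR (act g φ) ∘ₗ rho S (act g φ)))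
        (fun w y => ?_) z
      simp only [LinearMap.add_apply, LinearMap.id_apply, LinearMap.comp_apply,
        LinearMap.smul_apply, act_kr, act_one, hTap, map_add, map_smul, rho_emb, smul_smul]
      rfl
    rw [hTz, add_assoc, add_eq_left] at hz
    by_cases hli : ∃ l : F, act g φ = l • φ
    · obtain ⟨l, hl⟩ := hli
      have e : rho S (act g φ) z = l • rho S φ z := by
        show rhoL S z (act g φ) = l • rhoL S z φ
        rw [hl, map_smul]
      rw [e, hl, emb_smul_left, map_smul, smul_smul, smul_smul] at hz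
      have e2 : (1 + c * l ^ 2) • emb (rho S φ z) φ = 0 := by
        linear_combination (norm := module) hz
      exact emb_right_inj hφ (((smul_eq_zero.1 e2).resolve_left (hdep l hl)).trans
        (emb_zero_left φ).symm)
    push Not at hli
    obtain ⟨ξ, hξ, hξ'⟩ := Submodule.exists_dual_map_eq_bot_of_notMem
      (show φ ∉ Submodule.span F {act g φ} from fun h => by
        obtain ⟨r, hr⟩ := Submodule.mem_span_singleton.1 h
        rcases eq_or_ne r 0 with h0 | h0
        · exact hφ (by rw [← hr, h0, zero_smul])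
        · exact hli r⁻¹ (by rw [← hr, inv_smul_smul₀ h0, hr])) inferInstance
    have hξg : ξ (act g φ) = 0 := by
      have : ξ (act g φ) ∈ Submodule.map ξ (Submodule.span F {act g φ}) :=
        Submodule.mem_map_of_mem (Submodule.mem_span_singleton_self _)
      rwa [hξ', Submodule.mem_bot] at this
    obtain ⟨d, hd⟩ := S.exists_rep₁ ξ
    have e := congrArg (rho S d) hz
    rw [map_add, map_smul, rho_emb, rho_emb, hd, hd, hξg, zero_smul, smul_zero, add_zero,
      map_zero] at e
    exact (smul_eq_zero.1 e).resolve_left hξ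

omit [Finite F] in
include hε in
/-- A unipotent isometry of square zero commuting with a pair of reflections is trivial. -/
theorem eq_id_of_unipotent {v₁ v₂ : Fin 4 → F} (P : HPair S v₁ v₂)
    (B : (Fin 4 → F) →ₗ[F] (Fin 4 → F)) (hBf : ∀ c c', S.f₂ (B c) (B c') = S.f₂ c c')
    (hBsq : ∀ c, B (B c - c) = B c - c)
    (hBU : ∀ c, act (refl₂ S v₁ v₂) (B c) = B (act (refl₂ S v₁ v₂) c)) (c : Fin 4 → F) :
    B c = c := by
  have hf := S.sym₂ hε
  set kU := refl₂ S v₁ v₂
  have hF := hf.fam_two P.h₁ P.h₂ P.h₁₂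
  obtain ⟨e₃, he₃, h3⟩ := hf.exists_aniso_fam hF (by norm_num)
  have hF3 := hf.fam_three P.h₁ P.h₂ he₃ P.h₁₂ (by simpa using h3 0) (by simpa using h3 1)
  obtain ⟨e₄, he₄, h4⟩ := hf.exists_aniso_fam hF3 (by norm_num)
  set e : Fin 4 → (Fin 4 → F) := Fin.cons e₄ ![v₁, v₂, e₃] with he
  have heF : Fam S.f₂ e := hF3.cons he₄ h4 fun i => by rw [hf.symm, h4]
  set σ : Fin 4 → F := ![1, -1, -1, 1]
  have hσ : ∀ i, act kU (e i) = σ i • e i := by
    intro i
    have a13 : S.f₂ v₁ e₃ = 0 := by simpa using h3 0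
    have a23 : S.f₂ v₂ e₃ = 0 := by simpa using h3 1
    have a14 : S.f₂ v₁ e₄ = 0 := by simpa using h4 0
    have a24 : S.f₂ v₂ e₄ = 0 := by simpa using h4 1
    fin_cases i
    · show act kU e₄ = (1 : F) • e₄
      rw [P.refl₂_perp a14 a24, one_smul]
    · show act kU v₁ = (-1 : F) • v₁
      have := P.h₁
      rw [P.refl₂_apply, hf.symm v₁ v₂, P.h₁₂]
      match_scalars <;> field_simp <;> ring
    · show act kU v₂ = (-1 : F) • v₂
      have := P.h₂
      rw [P.refl₂_apply, P.h₁₂]
      match_scalars <;> field_simp <;> ring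
    · show act kU e₃ = (1 : F) • e₃
      rw [P.refl₂_perp a13 a23, one_smul]
  have partner : ∀ i : Fin 4, ∃ j : Fin 4, i ≠ j ∧ ∀ m, m ≠ i → m ≠ j → σ m = -σ i := by
    intro i
    fin_cases i
    · exact ⟨3, by decide, fun m h1 h2 => by fin_cases m <;> simp_all [σ]⟩
    · exact ⟨2, by decide, fun m h1 h2 => by fin_cases m <;> simp_all [σ]⟩
    · exact ⟨1, by decide, fun m h1 h2 => by fin_cases m <;> simp_all [σ]⟩
    · exact ⟨0, by decide, fun m h1 h2 => by fin_cases m <;> simp_all [σ]⟩
  have hB1 : ∀ i, B (e i) = e i := by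
    intro i
    obtain ⟨j, hij, hother⟩ := partner i
    set u := B (e i) - e i with hu
    have hBu : B u = u := hBsq _
    have hBe : B (e i) = e i + u := by rw [hu]; abel
    have e1 := hBf (e i) (e i)
    have e2 := hBf (e i) u
    rw [hBu, hBe, map_add, LinearMap.add_apply] at e2
    have huu : S.f₂ u u = 0 := by linear_combination e2
    rw [hBe] at e1
    simp only [map_add, LinearMap.add_apply, hf.symm (e i) u, huu] at e1
    have hiu : S.f₂ (e i) u = 0 := (mul_eq_zero.1 (show (2 : F) * S.f₂ (e i) u = 0 by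
      linear_combination e1)).resolve_left S.two
    have huσ : act kU u = σ i • u := by rw [hu, map_sub, hBU, hσ, map_smul, smul_sub]
    have hperp : ∀ m, m ≠ i → m ≠ j → S.f₂ (e m) u = 0 := fun m h1 h2 => by
      have e3 := P.refl₂_form hε (e m) u
      rw [huσ, hσ, hother m h1 h2] at e3
      simp only [map_smul, LinearMap.smul_apply, smul_eq_mul] at e3
      have hσ2 : σ i * σ i = 1 := by fin_cases i <;> simp [σ]
      exact (mul_eq_zero.1 (show (2 : F) * S.f₂ (e m) u = 0 by
        linear_combination -e3 - S.f₂ (e m) u * hσ2)).resolve_left S.two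
    have hju : S.f₂ (e j) u = 0 := by
      have hexp : u = (S.f₂ (e j) u / S.f₂ (e j) (e j)) • e j := by
        conv_lhs => rw [hf.eq_sum_basis heF u]
        refine Finset.sum_eq_single j (fun m _ hm => ?_) (by simp)
        rcases eq_or_ne m i with rfl | hmi
        · rw [hiu, zero_div, zero_smul]
        · rw [hperp m hmi hm, zero_div, zero_smul]
      by_contra hne
      rw [hexp] at huu
      simp only [map_smul, LinearMap.smul_apply, smul_eq_mul] at huu
      have := div_ne_zero hne (heF.aniso j)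
      exact mul_ne_zero this (mul_ne_zero this (heF.aniso j)) huu
    refine sub_eq_zero.1 (hf.eq_zero_of_basis heF fun m => ?_)
    rcases eq_or_ne m i with rfl | hmi
    · exact hiu
    rcases eq_or_ne m j with rfl | hmj
    · exact hju
    · exact hperp m hmi hmj
  exact sub_eq_zero.1 (hf.eq_zero_on_basis heF (B - LinearMap.id) (fun i => by simp [hB1 i]) c)

include O hε hR in
/-- A unipotent Kronecker product commuting with a pair of reflections fixes a column. -/
theorem exists_fixed_column {W : GL (Fin 4 × Fin 4) F} (hWH : W ∈ H) {v₁ v₂ : Fin 4 → F}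
    (P : HPair S v₁ v₂)
    (hWX : W * kr 1 (refl₂ S v₁ v₂) = kr 1 (refl₂ S v₁ v₂) * W)
    (hWsq : ∀ u, act W (act W u - u) = act W u - u) {a0 b0 : GL (Fin 4) F} (hab' : W = kr a0 b0) :
    ∃ x : Fin 4 → F, x ≠ 0 ∧ ∀ c, act W (emb c x) = emb c x := by
  classical
  have hf := S.sym₂ hε
  set d₀ : Fin 4 → F := fun _ => 1
  have hd₀ : d₀ ≠ 0 := fun h => one_ne_zero (congrFun h 0)
  obtain ⟨p₀, q₀, hpq⟩ : ∃ p q, S.f₁ p q ≠ 0 := by
    by_contra hn
    push Not at hn
    exact hd₀ (S.nd₁ d₀ (hn d₀))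
  set kU := refl₂ S v₁ v₂
  have hb0 : ∀ w, act b0 (act kU w) = act kU (act b0 w) := fun w => by
    have hgd : act a0 d₀ ≠ 0 := fun h => hd₀ (act_injective a0 (by rw [h, map_zero]))
    refine emb_right_inj hgd ?_
    have e := congrArg (fun M : GL (Fin 4 × Fin 4) F => act M (emb w d₀)) hWX
    rw [hab'] at e
    simp only [act_mul (kr a0 b0), act_mul (kr (1 : GL (Fin 4) F) kU), act_kr, act_one] at e
    exact e
  by_cases hbs : ∀ w, ∃ l : F, act b0 w = l • w
  · obtain ⟨β', hβ'⟩ := exists_scalar_of_eigen (act b0) hbs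
    set A : (Fin 4 → F) →ₗ[F] (Fin 4 → F) := β' • act a0 with hA
    have hWA : ∀ c x, act W (emb c x) = emb c (A x) := fun c x => by
      rw [hab', act_kr, hβ', hA, LinearMap.smul_apply, map_smul, emb_smul_left]
    have hAsq : ∀ x, A (A x - x) = A x - x := fun x => emb_injective hd₀ (by
      have := hWsq (emb d₀ x)
      rwa [hWA, ← map_sub, hWA] at this)
    by_cases hA1 : ∀ x, A x = x
    · exact ⟨d₀, hd₀, fun c => by rw [hWA, hA1]⟩
    push Not at hA1
    obtain ⟨x, hx⟩ := hA1
    exact ⟨A x - x, sub_ne_zero.2 hx, fun c => by rw [hWA, hAsq]⟩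
  push Not at hbs
  obtain ⟨w, hw⟩ := hbs
  obtain ⟨ψ, hψ, hψ'⟩ := Submodule.exists_dual_map_eq_bot_of_notMem
    (show act b0 w ∉ Submodule.span F {w} from fun h => by
      obtain ⟨r, hr⟩ := Submodule.mem_span_singleton.1 h
      exact hw r hr.symm) inferInstance
  have hψw : ψ w = 0 := by
    have : ψ w ∈ Submodule.map ψ (Submodule.span F {w}) :=
      Submodule.mem_map_of_mem (Submodule.mem_span_singleton_self w)
    rwa [hψ', Submodule.mem_bot] at this
  obtain ⟨δ, hδ⟩ := S.exists_rep₂ ψ
  have key : ∀ x, ψ (act b0 (act b0 w)) • act a0 (act a0 x) =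
      (2 * ψ (act b0 w)) • act a0 x := fun x => by
    have e := congrArg (S.pi δ) (hWsq (emb w x))
    simp only [hab', map_sub, act_kr, S.pi_emb, hδ, hψw, zero_smul, sub_zero] at e
    linear_combination (norm := module) e
  have hne : ψ (act b0 (act b0 w)) ≠ 0 := fun h0 => by
    have e := key d₀
    rw [h0, zero_smul, eq_comm, smul_eq_zero] at e
    exact hd₀ (act_injective a0 ((e.resolve_left (mul_ne_zero S.two hψ)).trans (map_zero _).symm))
  set α := (ψ (act b0 (act b0 w)))⁻¹ * (2 * ψ (act b0 w))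
  have ha : ∀ x, act a0 x = α • x := fun x => by
    obtain ⟨x', rfl⟩ : ∃ x', act a0 x' = x := ⟨_, act_act_inv a0 x⟩
    rw [← smul_smul, ← key, inv_smul_smul₀ hne]
  set B : (Fin 4 → F) →ₗ[F] (Fin 4 → F) := α • act b0 with hB
  have hWB : ∀ c x, act W (emb c x) = emb (B c) x := fun c x => by
    rw [hab', act_kr, ha, hB, LinearMap.smul_apply, map_smul, emb_smul_left]
  have hBf : ∀ c c', S.f₂ (B c) (B c') = S.f₂ c c' := fun c c' => by
    have e := S.om_act (O.isom hWH) (emb c p₀) (emb c' q₀)
    rw [hWB, hWB, S.om_emb_emb, S.om_emb_emb] at e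
    exact mul_left_cancel₀ hpq e
  have hBsq : ∀ c, B (B c - c) = B c - c := fun c => emb_right_inj hd₀ (by
    have := hWsq (emb c d₀)
    rwa [hWB, ← emb_sub_left, hWB] at this)
  have hBU : ∀ c, act kU (B c) = B (act kU c) := fun c => by
    rw [hB, LinearMap.smul_apply, LinearMap.smul_apply, map_smul, hb0]
  refine ⟨d₀, hd₀, fun c => ?_⟩
  rw [hWB, eq_id_of_unipotent hε P B hBf hBsq hBU c]

include O hε hR in
/-- The first factor of the central involution is scalar. -/
theorem scalar_left {y : GL (Fin 4 × Fin 4) F} (hy : IsX S H y) {v₁ v₂ : Fin 4 → F}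
    (P : HPair S v₁ v₂) {z : GL (Fin 4 × Fin 4) F} {k₂ : ℕ} (hzH : z ∈ H) (hzz : z * z = 1)
    (hzp : z = (kr 1 (refl₂ S v₁ v₂) * y) ^ k₂) {g k : GL (Fin 4) F}
    (hgk : z = kr g k) : ∃ c : F, ∀ x, act g x = c • x := by
  classical
  have hf := S.sym₂ hε
  by_contra hns
  set kU := refl₂ S v₁ v₂
  set X := kr (1 : GL (Fin 4) F) kU with hX
  have hXX : X * X = 1 := by
    rw [hX, kr_mul, one_mul, show kU * kU = 1 from gl_ext fun x => by
      show act (kU * kU) x = act (1 : GL (Fin 4) F) x
      rw [act_mul, P.refl₂_sq hε, act_one], kr_one]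
  have hyH := hy.mem O hε
  have hXH : X ∈ H := O.right (P.refl₂_form hε)
  have hzX : z * X = kr g (k * kU) := by rw [hgk, hX, kr_mul, mul_one]
  set r := X * y with hr
  have hsemi : ∀ j : ℕ, X * (r ^ j)⁻¹ = r ^ j * X := fun j => by
    have hs : SemiconjBy X r⁻¹ r := by
      show X * r⁻¹ = r * X
      rw [hr, _root_.mul_inv_rev, hy.inv_eq, inv_eq_of_mul_eq_one_right hXX, mul_assoc]
    rw [← inv_pow]
    exact (hs.pow_right j).eq
  -- an element outside the stabiliser conjugating `X` into a Kronecker product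
  obtain ⟨h, hhH, hhK, hconj⟩ : ∃ h, h ∈ H ∧ h ∉ Cfsg.Geo.kroneckerSubgroup 4 4 F ∧
      h * X * h⁻¹ = kr g (k * kU) := by
    rcases Nat.even_or_odd' k₂ with ⟨j, hj | hj⟩
    · have hc : r ^ j * X * (r ^ j)⁻¹ = kr g (k * kU) := by
        rw [mul_assoc, hsemi, ← mul_assoc, ← pow_add, ← two_mul, ← hj, ← hzp, hzX]
      refine ⟨_, pow_mem (mul_mem hXH hyH) j, fun hK => hns ?_, hc⟩
      obtain ⟨a0, b0, hab⟩ := hK
      rw [show r ^ j = kr a0 b0 from Units.ext hab, hX, kr_inv, kr_mul, kr_mul, mul_one,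
        mul_inv_cancel] at hc
      exact scalar_of_eq_left hc.symm
    · exfalso
      obtain ⟨h0, hh0, v, hv, hy0⟩ := hy
      have hyr : y = r⁻¹ * X := by
        rw [hr, _root_.mul_inv_rev, inv_eq_of_mul_eq_one_right hXX, mul_assoc, hXX, mul_one]
        exact (IsX.inv_eq ⟨h0, hh0, v, hv, hy0⟩).symm
      have hc : r ^ (j + 1) * y * (r ^ (j + 1))⁻¹ = kr g (k * kU) := by
        rw [hyr, mul_assoc, mul_assoc, hsemi, ← hzX, hzp, hj]
        group
      have hmem : r ^ (j + 1) * h0 * xr S v * (r ^ (j + 1) * h0)⁻¹ = kr g (k * kU) := by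
        rw [← hc, hy0]
        group
      have h1H : r ^ (j + 1) * h0 ∈ H := mul_mem (pow_mem (mul_mem hXH hyH) _) hh0
      obtain ⟨a0, b0, hab⟩ := kron_of_xr_conj O hε hR h1H hv (hmem ▸ ⟨g, k * kU, rfl⟩)
      rw [show r ^ (j + 1) * h0 = kr a0 b0 from Units.ext hab, kr_inv, kr_mul, kr_mul, mul_one,
        mul_inv_cancel] at hmem
      exact hns (scalar_of_eq_left hmem.symm)
  -- the scalars
  set d₀ : Fin 4 → F := fun _ => 1
  have hd₀ : d₀ ≠ 0 := fun h => one_ne_zero (congrFun h 0)
  obtain ⟨z₀, hz₀, -⟩ := exists_both S.nd₂ hd₀ hd₀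
  set d := (S.f₂ d₀ z₀)⁻¹ • z₀
  have hd : S.f₂ d₀ d = 1 := by rw [map_smul, smul_eq_mul, inv_mul_cancel₀ hz₀]
  have hgg0 : ∀ x, S.f₂ d₀ (act k (act k d)) • act g (act g x) = x := fun x => by
    have e := congrArg (fun M : GL (Fin 4 × Fin 4) F => S.pi d₀ (act M (emb d x))) hzz
    simpa only [hgk, kr_mul, act_kr, act_mul, act_one, S.pi_emb, hd, one_smul] using e
  have hα : S.f₂ d₀ (act k (act k d)) ≠ 0 := fun h0 => hd₀ (by
    have := hgg0 d₀; rwa [h0, zero_smul, eq_comm] at this)
  set κ := (S.f₂ d₀ (act k (act k d)))⁻¹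
  have hgg : ∀ x, act g (act g x) = κ • x := fun x => (eq_inv_smul_iff₀ hα).2 (hgg0 x)
  set β := S.f₂ (act k d₀) (act k d)
  have hν0' : ∀ x x', β * S.f₁ (act g x) (act g x') = S.f₁ x x' := fun x x' => by
    have e := S.om_act (O.isom hzH) (emb d₀ x) (emb d x')
    rw [hgk, act_kr, act_kr, S.om_emb_emb, S.om_emb_emb, hd, mul_one] at e
    linear_combination e
  obtain ⟨p₀, q₀, hpq⟩ : ∃ p q, S.f₁ p q ≠ 0 := by
    by_contra hn
    push Not at hn
    exact hd₀ (S.nd₁ d₀ (hn d₀))
  have hβ : β ≠ 0 := fun h0 => hpq (by rw [← hν0', h0, zero_mul])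
  have hν : ∀ x x', S.f₁ (act g x) (act g x') = β⁻¹ * S.f₁ x x' := fun x x' => by
    rw [← hν0' x x', ← mul_assoc, inv_mul_cancel₀ hβ, one_mul]
  have hνκ : β⁻¹ ^ 2 = κ ^ 2 := by
    have e := hν (act g p₀) (act g q₀)
    rw [hgg, hgg, hν, map_smul, map_smul, LinearMap.smul_apply, smul_eq_mul, smul_eq_mul] at e
    exact mul_right_cancel₀ hpq (by linear_combination -e)
  obtain ⟨φ, T, hφ, hTf, hTg, hTsq, hker⟩ :=
    exists_commuting_trans hε g hgg hν (inv_ne_zero hβ) hνκ
  set T' := kr T (1 : GL (Fin 4) F) with hT'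
  have hT'H : T' ∈ H := O.left hTf
  have hcomm : T' * (h * X * h⁻¹) = h * X * h⁻¹ * T' := by
    rw [hconj, hT', kr_mul, kr_mul, one_mul, mul_one,
      show T * g = g * T from gl_ext fun x => by
        show act (T * g) x = act (g * T) x
        rw [act_mul, act_mul, hTg]]
  set W := h⁻¹ * T' * h with hW
  have hWH : W ∈ H := mul_mem (mul_mem (inv_mem hhH) hT'H) hhH
  have hWX : W * X = X * W := by
    calc W * X = h⁻¹ * (T' * (h * X * h⁻¹)) * h := by rw [hW]; group
      _ = h⁻¹ * (h * X * h⁻¹ * T') * h := by rw [hcomm]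
      _ = X * W := by rw [hW]; group
  obtain ⟨a0, b0, hab⟩ := involution_kron O hε hR hWH P hWX
  have hab' : W = kr a0 b0 := Units.ext hab
  have hT'sq : ∀ u, act T' (act T' u - u) = act T' u - u := fun u => by
    refine ext_emb (f := act T' ∘ₗ (act T' - LinearMap.id)) (g := act T' - LinearMap.id)
      (fun w x => ?_) u
    simp only [LinearMap.comp_apply, LinearMap.sub_apply, LinearMap.id_apply, hT', act_kr, act_one,
      ← map_sub, hTsq]
  have hWsq : ∀ u, act W (act W u - u) = act W u - u := fun u => by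
    have e : act W u - u = act h⁻¹ (act T' (act h u) - act h u) := by
      rw [hW, map_sub, act_mul, act_mul, act_inv_act]
    rw [e]
    conv_lhs => rw [hW, act_mul, act_mul, act_act_inv, hT'sq]
  obtain ⟨x, hx, hcol⟩ := exists_fixed_column O hε hR hWH P hWX hWsq hab'
  refine hhK ?_
  have hfix : ∀ c, rho S φ (act h (emb c x)) = 0 := fun c => hker _ (by
    have e : act T' (act h (emb c x)) = act h (act W (emb c x)) := by
      rw [hW, act_mul, act_mul, act_act_inv]
    rw [e, hcol])
  have h' : h⁻¹ * ux S hε φ * h⁻¹⁻¹ ∈ Cfsg.Geo.kroneckerSubgroup 4 4 F := by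
    refine kron_of_fix_column O hε hR
      (mul_mem (mul_mem (inv_mem hhH) (ux_mem O hε φ)) (inv_mem (inv_mem hhH))) hx fun c => ?_
    rw [inv_inv, act_mul, act_mul, act_ux, hfix, emb_zero_left, add_zero, act_inv_act]
  simpa using inv_mem (kron_of_ux_conj O hε hR (inv_mem hhH) hφ h')

include O hε hR in
/-- There is no element outside the tensor stabiliser. -/
theorem le_kronecker_four : H ≤ Cfsg.Geo.kroneckerSubgroup 4 4 F := by
  classical
  have hf := S.sym₂ hε
  have hX : ∀ y, IsX S H y → y ∈ Cfsg.Geo.kroneckerSubgroup 4 4 F := by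
    intro y hy
    have hyH := hy.mem O hε
    obtain ⟨T, hT, -⟩ := hf.exists_three_fam (fam_nil S.f₂) (by norm_num)
    obtain ⟨p, q, hpq⟩ := hf.exists_singular_three (hT.aniso 0) (hT.aniso 1)
      (hT.orth 0 1 (by decide)) (hT.orth 0 2 (by decide)) (hT.orth 1 2 (by decide))
    set v₂ := p • T 0 + q • T 1 with hv₂
    have h21 : S.f₂ v₂ (T 2) = 0 := by
      rw [hv₂]
      simp [hT.orth 0 2 (by decide), hT.orth 1 2 (by decide)]
    have hsum : S.f₂ (T 2) (T 2) + S.f₂ v₂ v₂ = 0 := by
      rw [hf.add_self h21] at hpq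
      linear_combination hpq
    have P : HPair S (T 2) v₂ := ⟨hT.aniso 2,
      fun h0 => hT.aniso 2 (by rwa [h0, add_zero] at hsum), by rw [hf.symm, h21], hsum⟩
    obtain ⟨z, k₂, hzH, hzz, hz1, hzp, hzx, hzy, hQ⟩ := exists_involution O hε (by norm_num) hy P
    obtain ⟨g, k, hgk⟩ := involution_kron O hε hR hzH P hzx.symm
    have hgk' : z = kr g k := Units.ext hgk
    obtain ⟨c, hc⟩ := scalar_left O hε hR hy P hzH hzz hzp hgk'
    obtain ⟨K, hzK, hKf, hKK⟩ := exists_right O hzH hgk' hc hzz
    have hcomm : y * kr 1 K = kr 1 K * y := hzK ▸ hzy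
    obtain ⟨e, s, -, he, hs, hs', -, -, -⟩ := hf.exists_eigen_basis (fam_nil S.f₂) (by norm_num)
      (act K) hKf hKK ![] (fun i => i.elim0) (fun i => i.elim0)
    have hcom : ∀ m l, s m ≠ s l → ∀ x, S.pi (e m) (act y (emb (e l) x)) = 0 := fun m l hkl x =>
      pi_of_comm hKf hcomm (hs l) (hs m) (hs' m) (Ne.symm hkl) x
    have single : ∀ i, (∀ m, m ≠ i → s m ≠ s i) → y ∈ Cfsg.Geo.kroneckerSubgroup 4 4 F :=
      fun i hi => kron_of_line O hε hR hyH (he.aniso i) fun x =>
        ⟨_, eq_emb_of_basis hε he i fun m hm => hcom m i (hi m hm) x⟩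
    obtain ⟨i, j, hij⟩ : ∃ i j, s i ≠ s j := by
      by_contra hn
      push Not at hn
      have hev : ∀ x, act K x = s 0 • x := fun x =>
        hf.eigen_of_perp he hKf hKK hs fun m hm => absurd (hn m 0) hm
      rcases mul_self_eq_one_iff.1 (hs' 0) with hτ | hτ
      · exact hz1 (by
          rw [hzK]
          exact gl_ext_emb fun v x => by rw [act_kr, act_one, act_one, hev, hτ, one_smul])
      · have hF := hf.fam_two P.h₁ P.h₂ P.h₁₂
        obtain ⟨e₃, he₃, h3⟩ := hf.exists_aniso_fam hF (by norm_num)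
        have hF3 := hf.fam_three P.h₁ P.h₂ he₃ P.h₁₂ (by simpa using h3 0) (by simpa using h3 1)
        obtain ⟨e₄, he₄, h4⟩ := hf.exists_aniso_fam hF3 (by norm_num)
        have h4' : (4 : F) ≠ 0 := fun h => mul_ne_zero S.two S.two (by linear_combination h)
        have hmem : ∀ w, S.f₂ (T 2) w = 0 → S.f₂ v₂ w = 0 → ∀ x,
            emb w x ∈ movedImage y (T 2) v₂ (S := S) := fun w a1 a2 x => by
          have e1 := hQ (emb w (-(4 : F)⁻¹ • x))
          rw [hzK, act_kr, act_one, hev, hτ, neg_one_smul, emb_neg_left, LinearMap.add_apply,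
            LinearMap.id_apply, map_sub, map_neg, act_kr, act_one, P.refl₂_perp a1 a2,
            map_smul] at e1
          convert e1 using 1
          match_scalars
          field_simp
          ring
        let L : (Fin 4 → F) × (Fin 4 → F) →ₗ[F] V F 4 4 := (emb e₃).coprod (emb e₄)
        have h34 : S.f₂ e₃ e₄ = 0 := by simpa using h4 2
        have hLi : Function.Injective L := (injective_iff_map_eq_zero _).2 fun u hu => by
          simp only [L, LinearMap.coprod_apply] at hu
          have e1 := congrArg (S.pi e₃) hu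
          have e2 := congrArg (S.pi e₄) hu
          simp only [map_add, S.pi_emb, map_zero, h34, hf.symm e₃ e₄, zero_smul, add_zero,
            zero_add, smul_eq_zero, he₃, he₄, false_or] at e1 e2
          exact Prod.ext e1 e2
        have hle : LinearMap.range L ≤ movedImage y (T 2) v₂ (S := S) := by
          rintro _ ⟨⟨u, u'⟩, rfl⟩
          exact add_mem (hmem e₃ (by simpa using h3 0) (by simpa using h3 1) u)
            (hmem e₄ (by simpa using h4 0) (by simpa using h4 1) u')
        have h8 := (Submodule.finrank_mono hle).trans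
          ((Submodule.finrank_map_le _ _).trans hy.moved)
        rw [LinearMap.finrank_range_of_inj hLi, Module.finrank_prod, finrank_fin_fun] at h8
        omega
    by_cases h1 : ∀ m, m ≠ i → s m ≠ s i
    · exact single i h1
    by_cases h2 : ∀ m, m ≠ j → s m ≠ s j
    · exact single j h2
    push Not at h1 h2
    obtain ⟨i', hii, hsi⟩ := h1
    obtain ⟨j', hjj, hsj⟩ := h2
    have n1 : i ≠ j := fun h => hij (h ▸ rfl)
    have n2 : i ≠ j' := fun h => hij (by rw [h]; exact hsj)
    have n3 : i' ≠ j := fun h => hij (by rw [← hsi, h])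
    have n4 : i' ≠ j' := fun h => hij (by rw [← hsi, h]; exact hsj)
    refine kron_of_pres_basis O hε hR hyH he hii.symm (fun m a1 a2 x => ?_) (fun m a1 a2 x => ?_) <;>
      rcases eq_of_four hii.symm n1 n2 n3 n4 hjj.symm a1 a2 with rfl | rfl
    · exact hcom _ _ hij.symm x
    · exact hcom _ _ (by rw [hsj]; exact hij.symm) x
    · exact hcom _ _ (by rw [hsi]; exact hij.symm) x
    · exact hcom _ _ (by rw [hsj, hsi]; exact hij.symm) x
  intro h hh
  obtain ⟨T, hT, -⟩ := hf.exists_three_fam (fam_nil S.f₂) (by norm_num)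
  exact kron_of_side_four O hε hR hh hT fun v hv _ => hX _ (isX_conj hh hv)

end Cfsg.Agent.TensorInv
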