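import Cfsg.Agent.TensorInv.Lines

/-!
The line intersection argument for a symplectic factor at least two larger than the orthogonal one
(helper19).
-/

set_option autoImplicit false
set_option linter.unusedSectionVars false
set_option linter.unusedSimpArgs false

namespace Cfsg.Agent.TensorInv

open Matrix Cfsg.Agent.MaxSub Cfsg.Agent.TensorMax Module

variable {F : Type*} [Field F] {a b : ℕ} {S : TForm F a b}
  {H : Subgroup (GL (Fin a × Fin b) F)}

/-- `1 ⊗` a transvection. -/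
theorem act_kr_trans (halt : ∀ x, S.f₂ x x = 0) (φ : Fin b → F) (z : V F a b) :
    act (kr (1 : GL (Fin a) F) (trans S.f₂ halt φ 1)) z = z + emb φ (S.pi φ z) := by
  refine ext_emb (f := act (kr (1 : GL (Fin a) F) (trans S.f₂ halt φ 1)))
    (g := LinearMap.id + emb φ ∘ₗ S.pi φ) (fun w x => ?_) z
  simp only [LinearMap.add_apply, LinearMap.id_apply, LinearMap.comp_apply, act_kr, act_one,
    trans_apply, S.pi_emb, one_mul, emb_add_left, emb_smul_left, map_smul]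

/-- No element outside the tensor stabiliser when the symplectic factor is larger by at least two. -/
theorem le_kronecker_of_gap [Finite F] (O : Over S H) (hε : S.ε = 1) (hR : ¬ Root S H)
    (ha : 3 ≤ a) (hab : a + 2 ≤ b) (hbig : 4 ≤ a ∨ ∃ t : F, t ≠ 0 ∧ t ^ 2 ≠ 1) :
    H ≤ Cfsg.Geo.kroneckerSubgroup a b F := by
  classical
  intro g₀ hg₀
  by_contra hT
  have halt := S.alt₂ hε
  let Out : GL (Fin a × Fin b) F → Prop := fun s =>
    s ∈ H ∧ s ∉ Cfsg.Geo.kroneckerSubgroup a b F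
  have hno : ∀ s, Out s → ∀ {v w : Fin b → F}, v ≠ 0 → w ≠ 0 → ¬ LineTo s v w :=
    fun s hs v w hv hw hl =>
      hs.2 (kron_of_lineTo_alt O hε hR ha hbig (by omega) hs.1 hv hw hl)
  let u : (Fin b → F) → GL (Fin a × Fin b) F := fun φ =>
    kr (1 : GL (Fin a) F) (trans S.f₂ halt φ 1)
  have huH : ∀ φ, u φ ∈ H := fun φ => O.right (trans_form halt (S.skew₂ hε) φ 1)
  have hstep : ∀ {h}, Out h → ∀ {φ : Fin b → F}, φ ≠ 0 → Out (h⁻¹ * u φ * h) := by
    intro h hh φ hφ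
    refine ⟨mul_mem (mul_mem (inv_mem hh.1) (huH φ)) hh.1, fun hm => ?_⟩
    have hi : Out h⁻¹ := ⟨inv_mem hh.1, fun hc => hh.2 (by simpa using inv_mem hc)⟩
    obtain ⟨w, hw, hl⟩ := lineTo_of_conj (S := S) (h := h⁻¹) (k := trans S.f₂ halt φ 1)
      (φ := S.f₂ φ) (O.isom hi.1) (O.isom (huH φ)) (by omega)
      (fun x => by rw [trans_apply, one_mul]) hφ
      (fun h0 => hφ (S.nd₂ φ fun x => LinearMap.congr_fun h0 x)) (Or.inl (by omega))
      (by rwa [inv_inv])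
    exact hno _ hi hφ hw hl
  let L : (Fin b → F) → Submodule F (V F a b) := fun w => LinearMap.range (emb (a := a) w)
  let im : GL (Fin a × Fin b) F → (Fin b → F) → Submodule F (V F a b) :=
    fun s v => (L v).map (act s)
  let P : ℕ → Prop := fun d => ∃ s, Out s ∧ ∃ v w, v ≠ 0 ∧ w ≠ 0 ∧
    finrank F ↥(im s v ⊓ L w) = d
  have hle : ∀ s (v w : Fin b → F), w ≠ 0 → finrank F ↥(im s v ⊓ L w) ≤ a := fun s v w hw =>
    (Submodule.finrank_mono inf_le_right).trans_eq (by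
      rw [LinearMap.finrank_range_of_inj (emb_injective hw), finrank_fin_fun])
  let piL : V F a b → (Fin b → F) →ₗ[F] (Fin a → F) := fun z =>
    { toFun := fun φ => S.pi φ z
      map_add' := fun φ ψ => S.pi_add φ ψ z
      map_smul' := fun c φ => S.pi_smul c φ z }
  obtain ⟨d₁, hd₁, hP₁⟩ : ∃ d, 0 < d ∧ P d := by
    set v : Fin b → F := Pi.single ⟨0, by omega⟩ 1
    set p := emb (a := a) v fun _ => 1 with hp
    have hv : v ≠ 0 := by simp [v]
    have hp0 : p ≠ 0 := fun h => one_ne_zero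
      (congrFun (emb_injective hv (h.trans (map_zero _).symm)) (⟨0, by omega⟩ : Fin a))
    obtain ⟨φ, hφK, hφ⟩ := Submodule.exists_mem_ne_zero_of_ne_bot
      (LinearMap.ker_ne_bot_of_finrank_lt (f := piL (act g₀ p))
        (by rw [finrank_fin_fun, finrank_fin_fun]; omega))
    have hK0 : S.pi φ (act g₀ p) = 0 := hφK
    refine ⟨_, ?_, g₀⁻¹ * u φ * g₀, hstep ⟨hg₀, hT⟩ hφ, v, v, hv, hv, rfl⟩
    refine finrank_pos_iff_exists_ne_zero.mpr ⟨⟨p, ⟨p, ⟨_, rfl⟩, ?_⟩, ⟨_, rfl⟩⟩,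
      fun h => hp0 (congrArg Subtype.val h)⟩
    rw [act_mul, act_mul, act_kr_trans, hK0, map_zero, add_zero, act_inv_act]
  have hd₁a : d₁ ≤ a := by
    obtain ⟨s, -, v, w, -, hw, rfl⟩ := hP₁
    exact hle s v w hw
  obtain ⟨h, hh, v, w, hv, hw, hd⟩ := Nat.findGreatest_spec (P := P) hd₁a hP₁
  set d := Nat.findGreatest P a
  obtain ⟨l, hl, hlw⟩ : ∃ l ∈ im h v, l ∉ L w := by
    by_contra hc
    push Not at hc
    refine hno h hh hv hw fun x => ?_
    obtain ⟨y, hy⟩ := hc _ ⟨_, ⟨x, rfl⟩, rfl⟩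
    exact ⟨y, hy.symm⟩
  let K : (Fin b → F) →ₗ[F] F × (Fin a → F) := (S.f₂.flip w).prod (piL l)
  obtain ⟨φ, hφK, hφ⟩ := Submodule.exists_mem_ne_zero_of_ne_bot
    (LinearMap.ker_ne_bot_of_finrank_lt (f := K)
      (by rw [finrank_prod, finrank_self, finrank_fin_fun, finrank_fin_fun]; omega))
  have hφw : S.f₂ φ w = 0 := congrArg Prod.fst (LinearMap.mem_ker.mp hφK)
  have hφl : S.pi φ l = 0 := congrArg Prod.snd (LinearMap.mem_ker.mp hφK)
  set T := (im h v ⊓ L w) ⊔ Submodule.span F {l}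
  have hfix : ∀ z ∈ T, z ∈ im h v ∧ act (u φ) z = z := by
    intro z hz
    obtain ⟨y, ⟨hy, ⟨x, rfl⟩⟩, t, ht, rfl⟩ := Submodule.mem_sup.mp hz
    obtain ⟨c, rfl⟩ := Submodule.mem_span_singleton.mp ht
    refine ⟨add_mem hy (Submodule.smul_mem _ c hl), ?_⟩
    rw [act_kr_trans, map_add, map_smul, S.pi_emb, hφw, zero_smul, hφl, smul_zero, add_zero,
      map_zero, add_zero]
  have hlt : im h v ⊓ L w < T := lt_of_le_of_ne le_sup_left fun he =>
    hlw ((he ▸ Submodule.mem_sup_right (Submodule.mem_span_singleton_self l) :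
      l ∈ im h v ⊓ L w).2)
  have h1 : d < finrank F T := hd ▸ Submodule.finrank_lt_finrank_of_lt hlt
  set s := h⁻¹ * u φ * h
  have hle2 : T.map (act h⁻¹) ≤ im s v ⊓ L v := by
    rintro _ ⟨z, hz, rfl⟩
    obtain ⟨⟨_, ⟨x, rfl⟩, rfl⟩, hux⟩ := hfix z hz
    rw [act_inv_act]
    refine ⟨⟨emb v x, ⟨x, rfl⟩, ?_⟩, ⟨x, rfl⟩⟩
    rw [act_mul, act_mul, hux, act_inv_act]
  have h2 : finrank F T ≤ d := by
    rw [(Submodule.equivMapOfInjective _ (act_injective h⁻¹) T).finrank_eq]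
    exact (Submodule.finrank_mono hle2).trans
      (Nat.le_findGreatest (hle s v v hv) ⟨s, hstep hh hφ, v, v, hv, hv, rfl⟩)
  omega

end Cfsg.Agent.TensorInv
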