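import Cfsg.Agent.TensorInv.Moves

/-!
Elements fixing a singular line pointwise: their blocks are scalar (helper19).
-/

set_option autoImplicit false
set_option linter.unusedSectionVars false
set_option linter.unusedSimpArgs false

namespace Cfsg.Agent.TensorInv

open Matrix Cfsg.Agent.MaxSub Cfsg.Agent.TensorMax Module

variable {F : Type*} [Field F] {a b : ℕ}

/-- A singular pair. -/
structure Pair (S : TForm F a b) (n n' : Fin b → F) : Prop where
  nn : S.f₂ n n = 0
  n'n' : S.f₂ n' n' = 0
  nn' : S.f₂ n n' = 1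

namespace Pair

variable {S : TForm F a b} {n n' : Fin b → F} (P : Pair S n n')
include P

theorem n'n : S.f₂ n' n = -S.ε := by rw [S.flip₂, P.nn', mul_one]

theorem ne : n ≠ 0 := fun h => one_ne_zero (by
  rw [← P.nn', h, map_zero, LinearMap.zero_apply])

theorem pi_n' (x : Fin a → F) : S.pi n (emb n' x) = x := by rw [S.pi_emb, P.nn', one_smul]

theorem pi_sub_self (z : V F a b) : S.pi n (z - emb n' (S.pi n z)) = 0 := by
  rw [map_sub, P.pi_n', sub_self]

end Pair

namespace TForm

variable (S : TForm F a b)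

theorem pi_kr (g : GL (Fin a) F) {k : GL (Fin b) F}
    (hk : ∀ v w, S.f₂ (act k v) (act k w) = S.f₂ v w) (t : Fin b → F) (z : V F a b) :
    S.pi t (act (kr g k) z) = act g (S.pi (act k⁻¹ t) z) := by
  rw [eq_sum_emb z]
  simp only [map_sum, act_kr, pi_emb, map_smul]
  refine Finset.sum_congr rfl fun j _ => ?_
  rw [← hk (act k⁻¹ t), act_act_inv]

theorem add_self₂ (t : Fin b → F) : (1 + S.ε) * S.f₂ t t = 0 := by
  linear_combination S.flip₂ t t

/-- The Eichler map of `n` and `t`. -/
noncomputable def emap (n t : Fin b → F) : (Fin b → F) →ₗ[F] (Fin b → F) :=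
  LinearMap.id + (S.f₂ n).smulRight t + (S.ε • S.f₂ t).smulRight n -
    ((S.f₂ t t / 2) • S.f₂ n).smulRight n

theorem emap_apply (n t w : Fin b → F) :
    S.emap n t w = w + S.f₂ n w • t + (S.ε * S.f₂ t w) • n - (S.f₂ t t / 2 * S.f₂ n w) • n := by
  simp [emap]

theorem emap_neg {n t : Fin b → F} (hn : S.f₂ n n = 0) (ht : S.f₂ n t = 0) (w : Fin b → F) :
    S.emap n (-t) (S.emap n t w) = w := by
  have ht' := S.f₂_zero_comm ht
  have h2 := S.two
  simp only [emap_apply, map_add, map_sub, map_neg, map_smul, LinearMap.neg_apply, smul_eq_mul,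
    hn, ht, ht', neg_neg, mul_zero, add_zero, sub_zero, smul_neg]
  match_scalars
  · ring
  · ring
  · field_simp
    linear_combination (-(2 * S.f₂ n w)) * S.add_self₂ t

end TForm

open Classical in
/-- The Eichler isometry of `n` and `t`. -/
noncomputable def eich (S : TForm F a b) (n t : Fin b → F) : GL (Fin b) F :=
  if h : S.f₂ n n = 0 ∧ S.f₂ n t = 0 then
    mkGL (S.emap n t) (S.emap n (-t))
      (fun w => by
        have := S.emap_neg (n := n) (t := -t) h.1 (by rw [map_neg, h.2, neg_zero]) w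
        rwa [neg_neg] at this)
      (S.emap_neg h.1 h.2)
  else 1

theorem eich_apply (S : TForm F a b) {n t : Fin b → F} (hn : S.f₂ n n = 0) (ht : S.f₂ n t = 0)
    (w : Fin b → F) : act (eich S n t) w =
      w + S.f₂ n w • t + (S.ε * S.f₂ t w) • n - (S.f₂ t t / 2 * S.f₂ n w) • n := by
  rw [eich, dif_pos ⟨hn, ht⟩, act_apply, mkGL_mulVec, S.emap_apply]

theorem eich_form (S : TForm F a b) {n t : Fin b → F} (hn : S.f₂ n n = 0) (ht : S.f₂ n t = 0)
    (v w : Fin b → F) : S.f₂ (act (eich S n t) v) (act (eich S n t) w) = S.f₂ v w := by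
  have h2 := S.two
  rw [eich_apply S hn ht, eich_apply S hn ht]
  simp only [map_add, map_sub, map_smul, LinearMap.add_apply, LinearMap.sub_apply,
    LinearMap.smul_apply, smul_eq_mul, hn, ht, S.f₂_zero_comm ht, S.flip₂ t v, S.flip₂ n v]
  field_simp
  linear_combination (2 * S.f₂ n v * S.f₂ n w) * S.add_self₂ t +
    (-(4 * S.f₂ n v * S.f₂ t w)) * (S.hε)

variable (S : TForm F a b) (H : Subgroup (GL (Fin a × Fin b) F))

/-- The elements fixing the line of `n` pointwise and moving its orthogonal into it. -/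
def InQ (n : Fin b → F) (u : GL (Fin a × Fin b) F) : Prop :=
  u ∈ H ∧ (∀ x, act u (emb n x) = emb n x) ∧
    ∀ z, S.pi n z = 0 → ∃ y, act u z - z = emb n y

/-- Central elements of the line have scalar coefficient. -/
def Cent (n : Fin b → F) : Prop :=
  ∀ u ∈ H, ∀ ψ : (Fin a → F) →ₗ[F] (Fin a → F),
    (∀ z, act u z = z + emb n (ψ (S.pi n z))) → ∃ c : F, ∀ x, ψ x = c • x

/-- The displacement of the partner line. -/
def nMap (n' : Fin b → F) (u : GL (Fin a × Fin b) F) : (Fin a → F) →ₗ[F] V F a b :=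
  act u ∘ₗ emb n' - emb n'

/-- The block of `t`. -/
def block (n' : Fin b → F) (u : GL (Fin a × Fin b) F) (t : Fin b → F) :
    (Fin a → F) →ₗ[F] (Fin a → F) :=
  S.pi t ∘ₗ nMap n' u

theorem nMap_apply (n' : Fin b → F) (u : GL (Fin a × Fin b) F) (x : Fin a → F) :
    nMap n' u x = act u (emb n' x) - emb n' x := rfl

variable {S H} {n n' : Fin b → F}

theorem block_add (u : GL (Fin a × Fin b) F) (s t : Fin b → F) (x : Fin a → F) :
    block S n' u (s + t) x = block S n' u s x + block S n' u t x := S.pi_add _ _ _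

theorem block_smul (u : GL (Fin a × Fin b) F) (c : F) (t : Fin b → F) (x : Fin a → F) :
    block S n' u (c • t) x = c • block S n' u t x := S.pi_smul _ _ _

theorem om_nMap (u : GL (Fin a × Fin b) F) (t : Fin b → F) (x y : Fin a → F) :
    S.om (emb t x) (nMap n' u y) = S.f₁ x (block S n' u t y) := S.om_emb _ _ _

theorem om_nMap' (u : GL (Fin a × Fin b) F) (t : Fin b → F) (x y : Fin a → F) :
    S.om (nMap n' u y) (emb t x) = -S.f₁ x (block S n' u t y) := S.om_emb_right _ _ _

namespace InQ

variable {u u' : GL (Fin a × Fin b) F}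

theorem pi_act (O : Over S H) (hu : InQ S H n u) (z : V F a b) :
    S.pi n (act u z) = S.pi n z := by
  refine S.eq₁ fun y => ?_
  rw [← S.om_emb, ← S.om_emb]
  conv_lhs => rw [← hu.2.1 y]
  rw [S.om_act (O.isom hu.1)]

theorem pi_nMap (O : Over S H) (hu : InQ S H n u) (x : Fin a → F) :
    S.pi n (nMap n' u x) = 0 := by
  rw [nMap_apply, map_sub, hu.pi_act O, sub_self]

theorem exists_phi (O : Over S H) (P : Pair S n n') (hu : InQ S H n u) {z : V F a b}
    (hz : S.pi n z = 0) : ∃ y, act u z = z + emb n y ∧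
      ∀ x, S.f₁ y x = -S.om z (nMap n' u x) := by
  obtain ⟨y, hy⟩ := hu.2.2 z hz
  have hy' : act u z = z + emb n y := by rw [← hy]; abel
  refine ⟨y, hy', fun x => ?_⟩
  have h := S.om_act (O.isom hu.1) z (emb n' x)
  have e1 : act u (emb n' x) = emb n' x + nMap n' u x := by rw [nMap_apply]; abel
  rw [hy', e1] at h
  simp only [TForm.om_add_left, TForm.om_add_right, TForm.om_emb, hu.pi_nMap O, P.pi_n', map_zero,
    add_zero] at h
  linear_combination h

end InQ

variable {u u' : GL (Fin a × Fin b) F}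

/-- The commutator of two such elements is central. -/
theorem exists_comm (O : Over S H) (P : Pair S n n') (hC : Cent S H n) (hu : InQ S H n u)
    (hu' : InQ S H n u') : ∃ c : F, ∀ x y,
      S.om (nMap n' u x) (nMap n' u' y) - S.om (nMap n' u' x) (nMap n' u y) = c * S.f₁ x y := by
  classical
  set w := u * u' * (u' * u)⁻¹ with hw
  have hwact : ∀ v, act w (act (u' * u) v) = act (u * u') v := fun v => by
    rw [hw, act_mul, act_inv_act]
  have hwH : w ∈ H := mul_mem (mul_mem hu.1 hu'.1) (inv_mem (mul_mem hu'.1 hu.1))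
  clear_value w
  have key : ∀ {u u'}, InQ S H n u → InQ S H n u' → ∀ x, ∃ y,
      act (u * u') (emb n' x) = emb n' x + nMap n' u x + nMap n' u' x + emb n y ∧
        ∀ x', S.f₁ y x' = -S.om (nMap n' u' x) (nMap n' u x') := by
    intro u u' hu hu' x
    obtain ⟨y, hy, hy'⟩ := hu.exists_phi O P (hu'.pi_nMap (n' := n') O x)
    refine ⟨y, ?_, hy'⟩
    rw [act_mul, show act u' (emb n' x) = emb n' x + nMap n' u' x by rw [nMap_apply]; abel,
      map_add, hy, show act u (emb n' x) = emb n' x + nMap n' u x by rw [nMap_apply]; abel]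
    abel
  let β : (Fin a → F) → (Fin a → F) → F := fun x y =>
    S.om (nMap n' u x) (nMap n' u' y) - S.om (nMap n' u' x) (nMap n' u y)
  choose ψ hψ using fun x : Fin a → F => S.exists_rep₁
    (rmap S.om_bilinear (nMap n' u x) ∘ₗ nMap n' u' -
      rmap S.om_bilinear (nMap n' u' x) ∘ₗ nMap n' u)
  have hψ' : ∀ x y, S.f₁ (ψ x) y = β x y := fun x y => hψ x y
  let Ψ : (Fin a → F) →ₗ[F] (Fin a → F) :=
    { toFun := ψ
      map_add' := fun x x' => sub_eq_zero.1 (S.nd₁ _ fun y => by
        simp [hψ', β, TForm.om_add_left]; ring)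
      map_smul' := fun c x => sub_eq_zero.1 (S.nd₁ _ fun y => by
        simp [hψ', β, TForm.om_smul_left]; ring) }
  have hker : ∀ z, S.pi n z = 0 → act w z = z := by
    intro z hz
    obtain ⟨y, hy, -⟩ := hu.exists_phi (n' := n') O P hz
    obtain ⟨y', hy', -⟩ := hu'.exists_phi (n' := n') O P hz
    have e := hwact z
    simp only [act_mul, hy, hy', map_add, hu'.2.1, hu.2.1] at e
    have en : ∀ y, act w (emb n y) = emb n y := fun y => by
      have := hwact (emb n y)
      rwa [act_mul, act_mul, hu.2.1, hu'.2.1, hu.2.1] at this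
    rw [en, en] at e
    have e' : act w z + (emb n y' + emb n y) = z + (emb n y' + emb n y) := by
      rw [← add_assoc, e]; abel
    exact add_right_cancel e'
  have hn' : ∀ x, act w (emb n' x) = emb n' x + emb n (ψ x) := by
    intro x
    obtain ⟨y, hy, hy'⟩ := key hu hu' x
    obtain ⟨y', hy'', hy'''⟩ := key hu' hu x
    have e := hwact (emb n' x)
    rw [hy, hy'', map_add, map_add, map_add, hker _ (hu'.pi_nMap O x), hker _ (hu.pi_nMap O x),
      hker _ (show S.pi n (emb n y') = 0 by rw [S.pi_emb, P.nn, zero_smul])] at e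
    have : ψ x = y - y' := sub_eq_zero.1 (S.nd₁ _ fun z => by
      rw [map_sub, map_sub, LinearMap.sub_apply, LinearMap.sub_apply, hψ', hy', hy''']
      simp only [β]
      ring)
    rw [this, map_sub]
    rw [← sub_eq_zero] at e ⊢
    linear_combination (norm := abel) e
  obtain ⟨c, hc⟩ := hC w hwH Ψ fun z => by
    conv_lhs => rw [← sub_add_cancel z (emb n' (S.pi n z)), map_add, hker _ (P.pi_sub_self z), hn']
    show _ = z + emb n (ψ (S.pi n z))
    abel
  refine ⟨c, fun x y => ?_⟩
  show β x y = _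
  rw [← hψ', show ψ x = c • x from hc x, map_smul, LinearMap.smul_apply, smul_eq_mul]

theorem inQ_eich (O : Over S H) (P : Pair S n n') {t : Fin b → F} (ht : S.f₂ n t = 0) :
    InQ S H n (kr 1 (eich S n t)) := by
  refine ⟨O.right (eich_form S P.nn ht), fun x => ?_, fun z hz => ?_⟩
  · rw [act_kr, act_one, eich_apply S P.nn ht, P.nn, S.f₂_zero_comm ht]
    simp
  · refine ⟨S.ε • S.pi t z - (S.f₂ t t / 2) • S.pi n z, ?_⟩
    have hh : ∀ v x, (act (kr (1 : GL (Fin a) F) (eich S n t)) - LinearMap.id : V F a b →ₗ[F] V F a b) (emb v x) =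
        (emb t ∘ₗ S.pi n + emb n ∘ₗ (S.ε • S.pi t - (S.f₂ t t / 2) • S.pi n)) (emb v x) := by
      intro v x
      simp only [LinearMap.sub_apply, LinearMap.id_apply, act_kr, act_one,
        eich_apply S P.nn ht, LinearMap.add_apply, LinearMap.comp_apply, LinearMap.smul_apply,
        TForm.pi_emb, emb_sub_left, emb_add_left, emb_smul_left, map_sub, map_smul, smul_smul,
        sub_smul]
      abel
    have := ext_emb hh z
    simp only [LinearMap.sub_apply, LinearMap.id_apply, LinearMap.add_apply, LinearMap.comp_apply,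
      LinearMap.smul_apply] at this
    rw [this, hz, map_zero, zero_add]

theorem nMap_eich (P : Pair S n n') {t : Fin b → F} (ht : S.f₂ n t = 0) (ht' : S.f₂ n' t = 0)
    (x : Fin a → F) :
    nMap n' (kr (1 : GL (Fin a) F) (eich S n t)) x = emb t x - (S.f₂ t t / 2) • emb n x := by
  rw [nMap_apply, act_kr, act_one, eich_apply S P.nn ht, P.nn', S.f₂_zero_comm ht']
  simp only [emb_sub_left, emb_add_left, emb_smul_left, one_smul, mul_zero, zero_smul, add_zero,
    mul_one]
  abel

/-- The blocks are self-adjoint up to scalars. -/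
theorem block_adj (O : Over S H) (P : Pair S n n') (hC : Cent S H n) (hu : InQ S H n u)
    {t : Fin b → F} (ht : S.f₂ n t = 0) (ht' : S.f₂ n' t = 0) : ∃ c : F, ∀ x y,
      S.f₁ y (block S n' u t x) + S.f₁ x (block S n' u t y) = c * S.f₁ x y := by
  obtain ⟨c, hc⟩ := exists_comm O P hC hu (inQ_eich O P ht)
  refine ⟨-c, fun x y => ?_⟩
  have := hc x y
  rw [nMap_eich P ht ht', nMap_eich P ht ht', S.om_sub_right, S.om_sub_left, S.om_smul_right,
    S.om_smul_left, om_nMap, om_nMap', S.om_emb n x (nMap n' u y), S.om_emb_right n y,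
    hu.pi_nMap O, hu.pi_nMap O] at this
  simp only [map_zero, neg_zero, mul_zero, sub_zero] at this
  linear_combination -this

theorem InQ.conj (O : Over S H) (hu : InQ S H n u) {g : GL (Fin a) F} {k : GL (Fin b) F}
    (hg : ∀ x y, S.f₁ (act g x) (act g y) = S.f₁ x y)
    (hk : ∀ v w, S.f₂ (act k v) (act k w) = S.f₂ v w) (hkn : act k n = n) :
    InQ S H n (kr g k * u * (kr g k)⁻¹) := by
  have hm : kr g k ∈ H := by
    have := mul_mem (O.left hg) (O.right hk)
    rwa [kr_mul, mul_one, one_mul] at this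
  refine ⟨mul_mem (mul_mem hm hu.1) (inv_mem hm), fun x => ?_, fun z hz => ?_⟩
  · rw [act_mul, act_mul, kr_inv, act_kr]
    conv_lhs => rw [show act k⁻¹ n = n from act_injective k (by rw [act_act_inv, hkn])]
    rw [hu.2.1, act_kr, hkn, act_act_inv]
  · have hz' : S.pi n (act (kr g k)⁻¹ z) = 0 := by
      refine act_injective g ?_
      rw [map_zero, ← hz]
      conv_rhs => rw [← act_act_inv (kr g k) z, S.pi_kr g hk,
        show act k⁻¹ n = n from act_injective k (by rw [act_act_inv, hkn])]
    obtain ⟨y, hy⟩ := hu.2.2 _ hz'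
    refine ⟨act g y, ?_⟩
    rw [act_mul, act_mul]
    conv_lhs => arg 2; rw [← act_act_inv (kr g k) z]
    rw [← map_sub, hy, act_kr, hkn]

theorem nMap_conj (g : GL (Fin a) F) {k : GL (Fin b) F} (hkn : act k n' = n') (x : Fin a → F) :
    nMap n' (kr g k * u * (kr g k)⁻¹) x = act (kr g k) (nMap n' u (act g⁻¹ x)) := by
  rw [nMap_apply, nMap_apply, act_mul, act_mul, kr_inv, act_kr, map_sub (act (kr g k)), act_kr,
    hkn, act_act_inv, show act k⁻¹ n' = n' from act_injective k (by rw [act_act_inv, hkn])]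

/-- The block of `s` against its conjugates. -/
theorem block_pair (O : Over S H) (P : Pair S n n') (hC : Cent S H n) (hu : InQ S H n u)
    {g : GL (Fin a) F} (hg : ∀ x y, S.f₁ (act g x) (act g y) = S.f₁ x y) {k : GL (Fin b) F}
    (hk : ∀ v w, S.f₂ (act k v) (act k w) = S.f₂ v w) {l : F} (hl : l ≠ 0) {s : Fin b → F}
    (hks : ∀ w, act k w = w + (l * S.f₂ s w) • s) (hsn : S.f₂ n s = 0) (hsn' : S.f₂ n' s = 0) :
    ∃ c : F, ∀ x y,
      S.f₁ (act g (block S n' u s (act g⁻¹ y))) (block S n' u s x) +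
        S.f₁ (act g (block S n' u s (act g⁻¹ x))) (block S n' u s y) = c * S.f₁ x y := by
  have hone : ∀ v w, S.f₂ (act (1 : GL (Fin b) F) v) (act (1 : GL (Fin b) F) w) = S.f₂ v w :=
    fun v w => by rw [act_one, act_one]
  have hkn : act k n = n := by rw [hks, S.f₂_zero_comm hsn, mul_zero, zero_smul, add_zero]
  have hkn' : act k n' = n' := by rw [hks, S.f₂_zero_comm hsn', mul_zero, zero_smul, add_zero]
  obtain ⟨c₁, hc₁⟩ := exists_comm O P hC hu (hu.conj O hg hone (act_one n))
  obtain ⟨c₂, hc₂⟩ := exists_comm O P hC hu (hu.conj O hg hk hkn)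
  have hd : ∀ z, act (kr g k) z = act (kr g 1) z + l • emb s (act g (S.pi s z)) := by
    intro z
    refine ext_emb (f := act (kr g k))
      (g := act (kr g 1) + l • (emb s ∘ₗ act g ∘ₗ S.pi s)) (fun v x => ?_) z
    simp only [LinearMap.add_apply, LinearMap.smul_apply, LinearMap.comp_apply, act_kr, act_one,
      hks, TForm.pi_emb, map_smul, emb_add_left, emb_smul_left, smul_smul]
  refine ⟨(c₁ - c₂) / l, fun x y => ?_⟩
  have e1 := hc₁ x y
  have e2 := hc₂ x y
  rw [nMap_conj g (act_one n'), nMap_conj g (act_one n')] at e1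
  rw [nMap_conj g hkn', nMap_conj g hkn', hd, hd] at e2
  simp only [TForm.om_add_left, TForm.om_add_right, TForm.om_smul_left, TForm.om_smul_right,
    om_nMap, om_nMap'] at e2
  simp only [block, LinearMap.comp_apply] at e2 ⊢
  field_simp
  linear_combination e1 - e2

end Cfsg.Agent.TensorInv
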