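import Cfsg.Agent.TensorInv.Engine

/-!
Closure properties outside the tensor stabiliser for two factors of dimension four (helper19).
-/

set_option autoImplicit false
set_option linter.unusedSectionVars false
set_option linter.unusedSimpArgs false

namespace Cfsg.Agent.TensorInv

open Matrix Cfsg.Agent.MaxSub Cfsg.Agent.TensorMax Module

variable {F : Type*} [Field F] {a b m : ℕ}

/-- Expansion in an orthogonal basis. -/
theorem Sym.eq_sum_basis {f : (Fin m → F) →ₗ[F] (Fin m → F) →ₗ[F] F} (hf : Sym f)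
    {e : Fin m → (Fin m → F)} (he : Fam f e) (x : Fin m → F) :
    x = ∑ i, (f (e i) x / f (e i) (e i)) • e i := by
  refine sub_eq_zero.1 (hf.eq_zero_of_basis he fun i => ?_)
  rw [map_sub, map_sum, Finset.sum_eq_single i
    (fun j _ hj => by rw [map_smul, he.orth i j (Ne.symm hj), smul_zero]) (by simp), map_smul,
    smul_eq_mul, div_mul_cancel₀ _ (he.aniso i), sub_self]

/-- A linear map vanishes when it does on an orthogonal basis. -/
theorem Sym.eq_zero_on_basis {f : (Fin m → F) →ₗ[F] (Fin m → F) →ₗ[F] F} (hf : Sym f)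
    {e : Fin m → (Fin m → F)} (he : Fam f e) {M : Type*} [AddCommGroup M] [Module F M]
    (G : (Fin m → F) →ₗ[F] M) (h : ∀ i, G (e i) = 0) (x : Fin m → F) : G x = 0 := by
  rw [hf.eq_sum_basis he x, map_sum]
  exact Finset.sum_eq_zero fun i _ => by rw [map_smul, h, smul_zero]

/-- The contraction of the first factor. -/
noncomputable def rho (S : TForm F a b) (x : Fin a → F) : V F a b →ₗ[F] (Fin b → F) :=
  S.swap.pi x ∘ₗ (flipV F a b).toLinearMap

/-- The contraction as a function of the vector. -/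
noncomputable def piL (S : TForm F a b) (z : V F a b) : (Fin b → F) →ₗ[F] (Fin a → F) where
  toFun d := S.pi d z
  map_add' d e := S.pi_add d e z
  map_smul' c d := S.pi_smul c d z

/-- The contraction of the first factor as a function of the vector. -/
noncomputable def rhoL (S : TForm F a b) (z : V F a b) : (Fin a → F) →ₗ[F] (Fin b → F) where
  toFun d := rho S d z
  map_add' d e := S.swap.pi_add d e _
  map_smul' c d := S.swap.pi_smul c d _

theorem rho_emb (S : TForm F a b) (x y : Fin a → F) (c : Fin b → F) :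
    rho S x (emb c y) = S.f₁ x y • c := by
  show S.swap.pi x (flipV F a b (emb c y)) = _
  rw [flipV_emb, S.swap.pi_emb]
  rfl

theorem om_rho (S : TForm F a b) (c : Fin b → F) (x : Fin a → F) (z : V F a b) :
    S.om (emb c x) z = S.f₂ c (rho S x z) := by
  rw [← S.swap_om, flipV_emb, S.swap.om_emb]
  rfl

/-- A transvection of the symplectic factor. -/
noncomputable def ux (S : TForm F a b) (hε : S.ε = -1) (x : Fin a → F) : GL (Fin a × Fin b) F :=
  kr (trans S.f₁ (S.alt₁ hε) x 1) 1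

theorem act_ux (S : TForm F a b) (hε : S.ε = -1) (x : Fin a → F) (z : V F a b) :
    act (ux S hε x) z = z + emb (rho S x z) x := by
  refine ext_emb (f := act (ux S hε x)) (g := LinearMap.id + embR x ∘ₗ rho S x) (fun w y => ?_) z
  simp only [LinearMap.add_apply, LinearMap.id_apply, LinearMap.comp_apply, ux, act_kr, act_one,
    trans_apply, one_mul, map_add, map_smul, rho_emb]
  rfl

theorem ux_mem {S : TForm F a b} {H : Subgroup (GL (Fin a × Fin b) F)} (O : Over S H)
    (hε : S.ε = -1) (x : Fin a → F) : ux S hε x ∈ H :=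
  O.left (trans_form (S.alt₁ hε) (S.skew₁ hε) x 1)

/-- A line is mapped onto a line. -/
theorem lineTo_data {h : GL (Fin a × Fin b) F} {c c' : Fin b → F} (ha : 1 ≤ a) (hc : c ≠ 0)
    (hl : LineTo h c c') : c' ≠ 0 ∧ ∀ y, ∃ x, act h (emb c x) = emb c' y := by
  have hc' : c' ≠ 0 := fun h0 => by
    obtain ⟨y, hy⟩ := hl (fun _ => 1)
    have : emb (a := a) c (fun _ => 1) = 0 := act_injective h (by
      rw [map_zero, act_apply, hy, h0, emb_zero_left])
    exact one_ne_zero (congrFun (emb_injective hc (this.trans (map_zero _).symm)) ⟨0, ha⟩)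
  refine ⟨hc', fun y => ?_⟩
  have hle : LinearMap.range (act h ∘ₗ emb (a := a) c) ≤ LinearMap.range (emb (a := a) c') := by
    rintro _ ⟨x, rfl⟩
    obtain ⟨y, hy⟩ := hl x
    exact ⟨y, hy.symm⟩
  have heq := Submodule.eq_of_le_of_finrank_le hle (by
    rw [LinearMap.finrank_range_of_inj (emb_injective hc'),
      LinearMap.finrank_range_of_inj (f := act h ∘ₗ emb (a := a) c)
        ((act_injective h).comp (emb_injective hc))])
  obtain ⟨x, hx⟩ : emb c' y ∈ LinearMap.range (act h ∘ₗ emb (a := a) c) := by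
    rw [heq]; exact ⟨y, rfl⟩
  exact ⟨x, hx⟩

/-- Conjugates of reflections fix the images of orthogonal lines. -/
theorem fix_image {S : TForm F a b} {h : GL (Fin a × Fin b) F} (ha : 1 ≤ a) {v c c' : Fin b → F}
    (hc : c ≠ 0) (hl : LineTo h c c') (hvc : S.f₂ v c = 0) : Fix (h * xr S v * h⁻¹) c' := fun y => by
  obtain ⟨x, hx⟩ := (lineTo_data ha hc hl).2 y
  rw [← hx, act_mul, act_mul, act_inv_act, xr_fix (by rw [S.pi_emb, hvc, zero_smul])]

section Four

variable {S : TForm F 4 4} {H : Subgroup (GL (Fin 4 × Fin 4) F)} [Finite F]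
  (O : Over S H) (hε : S.ε = -1) (hR : ¬ Root S H)

include O hε hR in
/-- A conjugate of a transvection of the symplectic factor in the tensor stabiliser. -/
theorem kron_of_ux_conj {h : GL (Fin 4 × Fin 4) F} (hh : h ∈ H) {x : Fin 4 → F} (hx : x ≠ 0)
    (hm : h * ux S hε x * h⁻¹ ∈ Cfsg.Geo.kroneckerSubgroup 4 4 F) :
    h ∈ Cfsg.Geo.kroneckerSubgroup 4 4 F := by
  rw [← flipGL_mem_kronecker]
  have hh' : flipGL F 4 4 h ∈ flipH H := by rw [mem_flipH, flipGL_flipGL]; exact hh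
  have hk : flipGL F 4 4 (ux S hε x) ∈ flipH H := by
    rw [mem_flipH, flipGL_flipGL]; exact ux_mem O hε x
  have hm' := flipGL_mem_kronecker.2 hm
  rw [map_mul, map_mul, map_inv] at hm'
  rw [ux, flipGL_kr] at hk hm'
  have hex : ∀ (e : Fin 4 → F) (ψ : (Fin 4 → F) →ₗ[F] F), ψ e = S.f₁ x x →
      (∀ p q, S.f₂ (p + ψ p • e) (q + ψ q • e) = S.f₂ p q) → ∀ y, ψ y • e = 0 := by
    intro e ψ he hiso y
    rw [S.alt₁ hε] at he
    by_contra hne
    obtain ⟨hψy, he0⟩ := smul_ne_zero_iff.1 hne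
    have hsy := (S.sym₂ hε).symm
    have h1 : ∀ p, ψ p * S.f₂ e e = 0 := fun p => by
      have e1 := hiso p e
      simp only [swap, he, zero_smul, add_zero, map_add, LinearMap.add_apply, map_smul,
        LinearMap.smul_apply, smul_eq_mul] at e1
      linear_combination e1
    have hee : S.f₂ e e = 0 := (mul_eq_zero.1 (h1 y)).resolve_left hψy
    have h2 : ∀ p, ψ p * S.f₂ p e = 0 := fun p => by
      have e1 := hiso p p
      simp only [swap, map_add, LinearMap.add_apply, map_smul, LinearMap.smul_apply, smul_eq_mul,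
        hee, hsy p e, mul_zero, add_zero] at e1
      exact (mul_eq_zero.1 (show (2 : F) * (ψ p * S.f₂ p e) = 0 by
        linear_combination e1)).resolve_left S.two
    refine he0 (S.nd₂' fun p => ?_)
    by_contra hp
    have hψp : ψ p = 0 := (mul_eq_zero.1 (h2 p)).resolve_right hp
    have h3 := h2 (y + p)
    rw [map_add, hψp, add_zero, map_add, LinearMap.add_apply,
      (mul_eq_zero.1 (h2 y)).resolve_left hψy, zero_add] at h3
    exact mul_ne_zero hψy hp h3
  obtain ⟨w, hw, hl⟩ := lineTo_of_conj (S := S.swap) (φ := S.f₁ x) (O.swap.isom hh')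
    (O.swap.isom hk) (show 1 ≤ 4 by omega) (fun y => by rw [trans_apply, one_mul]) hx
    (fun h0 => hx (S.nd₁ x fun y => LinearMap.congr_fun h0 y))
    (Or.inr (Or.inr ⟨rfl, by norm_num, hex⟩)) hm'
  exact kron_of_lineTo_alt O.swap (show -S.ε = 1 by rw [hε, neg_neg]) (fun h => hR h.swap)
    (show 3 ≤ 4 by omega) (Or.inl le_rfl) (show 3 ≤ 4 by omega) hh' hx hw hl

include O hε hR in
/-- An element fixing a column pointwise. -/
theorem kron_of_fix_column {h : GL (Fin 4 × Fin 4) F} (hh : h ∈ H) {x : Fin 4 → F} (hx : x ≠ 0)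
    (hfix : ∀ c, act h (emb c x) = emb c x) : h ∈ Cfsg.Geo.kroneckerSubgroup 4 4 F := by
  rw [← flipGL_mem_kronecker]
  refine kron_of_lineTo_alt O.swap (show -S.ε = 1 by rw [hε, neg_neg]) (fun h => hR h.swap)
    (by norm_num) (Or.inl le_rfl) (by norm_num) ?_ hx hx fun p => ⟨p, ?_⟩
  · rw [mem_flipH, flipGL_flipGL]; exact hh
  · rw [← act_apply, ← flipV_emb p x, flipGL_act, hfix]

include O hε hR in
/-- Conjugates of the reflections of a three dimensional space suffice. -/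
theorem kron_of_side_four {h : GL (Fin 4 × Fin 4) F} (hh : h ∈ H) {T : Fin 3 → (Fin 4 → F)}
    (hT : Fam S.f₂ T)
    (hc : ∀ v, S.f₂ v v ≠ 0 → (∀ e, (∀ j, S.f₂ e (T j) = 0) → S.f₂ e v = 0) →
      h * xr S v * h⁻¹ ∈ Cfsg.Geo.kroneckerSubgroup 4 4 F) :
    h ∈ Cfsg.Geo.kroneckerSubgroup 4 4 F := by
  obtain ⟨u, n, hu, hn, hnn, hun, hperp⟩ := (S.sym₂ hε).exists_good_three hT
  have hnu : S.f₂ n u = 0 := by rw [S.symm₂ hε, hun]
  refine kron_of_good O hε hR (by norm_num) (by norm_num) le_rfl hh hu hn hnn hun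
    (hc u hu fun e he => (hperp e he).1) (hc (u + n) ?_ fun e he => ?_)
    (hc (n - u) ?_ fun e he => ?_)
  · simp [hnn, hun, hnu, hu]
  · simp [(hperp e he).1, (hperp e he).2]
  · simp [hnn, hun, hnu, hu]
  · simp [(hperp e he).1, (hperp e he).2]

include O hε hR in
/-- An element fixing three orthogonal vectors of a column. -/
theorem kron_of_fix_three_column {s : GL (Fin 4 × Fin 4) F} (hs : s ∈ H) {x : Fin 4 → F}
    (hx : x ≠ 0) {T : Fin 3 → (Fin 4 → F)} (hT : Fam S.f₂ T)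
    (hfix : ∀ i, act s (emb (T i) x) = emb (T i) x) :
    s ∈ Cfsg.Geo.kroneckerSubgroup 4 4 F := by
  have hf := S.sym₂ hε
  obtain ⟨e₄, he₄, hT₄⟩ := hf.exists_aniso_fam hT (by norm_num)
  have hB : Fam S.f₂ (Fin.cons e₄ T : Fin 4 → (Fin 4 → F)) :=
    hT.cons he₄ hT₄ fun i => by rw [hf.symm, hT₄]
  have hspan : ∀ c, S.f₂ e₄ c = 0 → act s (emb c x) = emb c x := fun c hc => by
    rw [hf.eq_sum_basis hB c, Fin.sum_univ_succ]
    simp only [Fin.cons_zero, Fin.cons_succ, hc, zero_div, zero_smul, zero_add]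
    rw [show emb (∑ i, (S.f₂ (T i) c / S.f₂ (T i) (T i)) • T i) x =
      embR x (∑ i, (S.f₂ (T i) c / S.f₂ (T i) (T i)) • T i) from rfl, map_sum, map_sum]
    refine Finset.sum_congr rfl fun i _ => ?_
    rw [map_smul, map_smul]
    show _ • act s (emb (T i) x) = _
    rw [hfix]
    rfl
  refine kron_of_side_four O hε hR hs hT fun v hv hperp => ?_
  have h4v : S.f₂ e₄ v = 0 := hperp e₄ fun j => by rw [hf.symm, hT₄]
  set y := s * xr S v * s⁻¹
  have hy : IsX S H y := isX_conj hs hv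
  have hyH := hy.mem O hε
  have hyT : ∀ i, act y (emb (T i) x) = emb (act (refl S.f₂ v) (T i)) x := fun i => by
    show act (s * xr S v * s⁻¹) _ = _
    rw [act_mul, act_mul]
    conv_lhs => arg 2; arg 2; arg 2; rw [← hfix i]
    rw [act_inv_act, act_kr, act_one, hspan]
    rw [refl_apply, map_sub, map_smul, h4v, smul_zero, sub_zero, hf.symm, hT₄]
  let G : (Fin 4 → F) →ₗ[F] (Fin 4 → F) := rho S x ∘ₗ act y ∘ₗ embR x
  have hG : ∀ c, G c = 0 := by
    refine hf.eq_zero_on_basis hB G (Fin.cases ?_ fun i => ?_)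
    · refine hf.eq_zero_of_basis hB (Fin.cases ?_ fun j => ?_)
      · show S.f₂ e₄ (rho S x (act y (emb e₄ x))) = 0
        rw [← om_rho]
        have e1 := S.om_act (O.isom hyH) (emb e₄ x) (act y (emb e₄ x))
        rw [hy.invo, S.om_skew] at e1
        exact (mul_eq_zero.1 (show (2 : F) * S.om (emb e₄ x) (act y (emb e₄ x)) = 0 by
          linear_combination -e1)).resolve_left S.two
      · show S.f₂ (T j) (rho S x (act y (emb e₄ x))) = 0
        rw [← om_rho, ← S.om_act (O.isom hyH), hy.invo, hyT, S.om_emb_emb, S.alt₁ hε, zero_mul]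
    · show rho S x (act y (emb (T i) x)) = 0
      rw [hyT, rho_emb, S.alt₁ hε, zero_smul]
  refine kron_of_ux_conj O hε hR hyH hx (kron_of_fix_column O hε hR
    (mul_mem (mul_mem hyH (ux_mem O hε x)) (inv_mem hyH)) hx fun c => ?_)
  rw [hy.inv_eq, act_mul, act_mul, act_ux, show rho S x (act y (emb c x)) = 0 from hG c,
    emb_zero_left, add_zero, hy.invo]

include O hε hR in
/-- An element fixing two orthogonal lines. -/
theorem kron_of_fix_plane {s : GL (Fin 4 × Fin 4) F} (hs : s ∈ H) {w₁ w₂ : Fin 4 → F}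
    (h₁ : S.f₂ w₁ w₁ ≠ 0) (h₂ : S.f₂ w₂ w₂ ≠ 0) (h₁₂ : S.f₂ w₁ w₂ = 0) (f₁ : Fix s w₁)
    (f₂ : Fix s w₂) : s ∈ Cfsg.Geo.kroneckerSubgroup 4 4 F := by
  have hf := S.sym₂ hε
  have hF := hf.fam_two h₁ h₂ h₁₂
  obtain ⟨e₃, he₃, hw3⟩ := hf.exists_aniso_fam hF (by norm_num)
  have h13 : S.f₂ w₁ e₃ = 0 := by simpa using hw3 0
  have h23 : S.f₂ w₂ e₃ = 0 := by simpa using hw3 1
  have hT := hf.fam_three h₁ h₂ he₃ h₁₂ h13 h23
  obtain ⟨e₄, he₄, hT₄⟩ := hf.exists_aniso_fam hT (by norm_num)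
  have hB : Fam S.f₂ (Fin.cons e₄ ![w₁, w₂, e₃] : Fin 4 → (Fin 4 → F)) :=
    hT.cons he₄ hT₄ fun i => by rw [hf.symm, hT₄]
  set x : Fin 4 → F := fun _ => 1
  have hx : x ≠ 0 := fun h => one_ne_zero (congrFun h 0)
  set z := act s (emb e₃ x)
  let K : (Fin 4 → F) →ₗ[F] (Fin 3 → F) :=
    LinearMap.pi ![S.f₁.flip x, S.f₂ e₃ ∘ₗ rhoL S z, S.f₂ e₄ ∘ₗ rhoL S z]
  obtain ⟨φ, hφK, hφ⟩ := Submodule.exists_mem_ne_zero_of_ne_bot
    (LinearMap.ker_ne_bot_of_finrank_lt (f := K) (by rw [finrank_fin_fun, finrank_fin_fun]; norm_num))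
  have hK := LinearMap.mem_ker.1 hφK
  have hφx : S.f₁ φ x = 0 := congrFun hK 0
  have hρ : rho S φ z = 0 := by
    refine hf.eq_zero_of_basis hB (Fin.cases ?_ fun i => ?_)
    · exact congrFun hK 2
    fin_cases i
    · show S.f₂ w₁ (rho S φ z) = 0
      rw [← om_rho, ← f₁ φ, S.om_act (O.isom hs), S.om_emb_emb, h13, mul_zero]
    · show S.f₂ w₂ (rho S φ z) = 0
      rw [← om_rho, ← f₂ φ, S.om_act (O.isom hs), S.om_emb_emb, h23, mul_zero]
    · exact congrFun hK 1
  have hs' : s⁻¹ * ux S hε φ * s⁻¹⁻¹ ∈ Cfsg.Geo.kroneckerSubgroup 4 4 F := by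
    refine kron_of_fix_three_column O hε hR
      (mul_mem (mul_mem (inv_mem hs) (ux_mem O hε φ)) (inv_mem (inv_mem hs))) hx hT fun i => ?_
    rw [inv_inv, act_mul, act_mul, act_ux]
    fin_cases i
    · show act s⁻¹ (act s (emb w₁ x) + emb (rho S φ (act s (emb w₁ x))) φ) = emb w₁ x
      rw [f₁, rho_emb, hφx, zero_smul, emb_zero_left, add_zero]
      conv_lhs => rw [← f₁ x, act_inv_act]
    · show act s⁻¹ (act s (emb w₂ x) + emb (rho S φ (act s (emb w₂ x))) φ) = emb w₂ x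
      rw [f₂, rho_emb, hφx, zero_smul, emb_zero_left, add_zero]
      conv_lhs => rw [← f₂ x, act_inv_act]
    · show act s⁻¹ (z + emb (rho S φ z) φ) = emb e₃ x
      rw [hρ, emb_zero_left, add_zero, act_inv_act]
  simpa using inv_mem (kron_of_ux_conj O hε hR (inv_mem hs) hφ hs')

include O hε hR in
/-- A reflection whose orthogonal space contains two lines that are mapped to lines. -/
theorem conj_of_two {h : GL (Fin 4 × Fin 4) F} (hh : h ∈ H) {v c d c' d' : Fin 4 → F}
    (hv : S.f₂ v v ≠ 0) (hc : S.f₂ c c ≠ 0) (hd : S.f₂ d d ≠ 0) (hcd : S.f₂ c d = 0)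
    (hvc : S.f₂ v c = 0) (hvd : S.f₂ v d = 0) (lc : LineTo h c c') (ld : LineTo h d d') :
    h * xr S v * h⁻¹ ∈ Cfsg.Geo.kroneckerSubgroup 4 4 F := by
  have hc0 : c ≠ 0 := fun h0 => by simp [h0] at hc
  have hd0 : d ≠ 0 := fun h0 => by simp [h0] at hd
  obtain ⟨-, hsc⟩ := lineTo_data (by norm_num) hc0 lc
  obtain ⟨-, hsd⟩ := lineTo_data (by norm_num) hd0 ld
  obtain ⟨p, q, hpq⟩ : ∃ p q, S.f₁ p q ≠ 0 := by
    by_contra hn
    push Not at hn
    exact one_ne_zero (congrFun (S.nd₁ (fun _ => (1 : F)) (hn _)) 0)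
  have key : ∀ {c c' d d' : Fin 4 → F}, LineTo h c c' → LineTo h d d' → S.f₂ c' d' = 0 →
      S.f₂ c d = 0 := by
    intro c c' d d' l l' h0
    obtain ⟨Y, hY⟩ := l p
    obtain ⟨Y', hY'⟩ := l' q
    have e := S.om_act (O.isom hh) (emb c p) (emb d q)
    rw [act_apply, act_apply, hY, hY', S.om_emb_emb, S.om_emb_emb, h0, mul_zero] at e
    exact (mul_eq_zero.1 e.symm).resolve_left hpq
  refine kron_of_fix_plane O hε hR (mul_mem (mul_mem hh (xr_mem O hε hv)) (inv_mem hh))
    (fun h0 => hc (key lc lc h0)) (fun h0 => hd (key ld ld h0)) ?_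
    (fix_image (by norm_num) hc0 lc hvc) (fix_image (by norm_num) hd0 ld hvd)
  obtain ⟨x, hx⟩ := hsc p
  obtain ⟨x', hx'⟩ := hsd q
  have e := S.om_act (O.isom hh) (emb c x) (emb d x')
  rw [hx, hx', S.om_emb_emb, S.om_emb_emb, hcd, mul_zero] at e
  exact (mul_eq_zero.1 e).resolve_left hpq

include O hε hR in
/-- An element sending an orthogonal basis of lines to lines. -/
theorem kron_of_four_lines {h : GL (Fin 4 × Fin 4) F} (hh : h ∈ H) {e : Fin 4 → (Fin 4 → F)}
    (he : Fam S.f₂ e) (hl : ∀ i, ∃ c', LineTo h (e i) c') :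
    h ∈ Cfsg.Geo.kroneckerSubgroup 4 4 F := by
  have hf := S.sym₂ hε
  have pairLine : ∀ i j k l : Fin 4, i ≠ k → i ≠ l → j ≠ k → j ≠ l → k ≠ l → ∀ r r' : F,
      S.f₂ (r • e i + r' • e j) (r • e i + r' • e j) ≠ 0 →
      h * xr S (r • e i + r' • e j) * h⁻¹ ∈ Cfsg.Geo.kroneckerSubgroup 4 4 F := by
    intro i j k l hik hil hjk hjl hkl r r' hv
    obtain ⟨ck, hck⟩ := hl k
    obtain ⟨cl, hcl⟩ := hl l
    exact conj_of_two O hε hR hh hv (he.aniso k) (he.aniso l) (he.orth k l hkl)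
      (by simp [he.orth i k hik, he.orth j k hjk]) (by simp [he.orth i l hil, he.orth j l hjl])
      hck hcl
  have main : ∀ i j k l : Fin 4, i ≠ j → i ≠ k → i ≠ l → j ≠ k → j ≠ l → k ≠ l →
      S.f₂ (e i) (e i) + S.f₂ (e j) (e j) ≠ 0 → h ∈ Cfsg.Geo.kroneckerSubgroup 4 4 F := by
    intro i j k l hij hik hil hjk hjl hkl hsum
    have o1 := he.orth i j hij
    have o2 := he.orth i k hik
    have o3 := he.orth i l hil
    have o4 := he.orth j k hjk
    have o5 := he.orth j l hjl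
    have o6 := he.orth k l hkl
    have o1' := he.orth j i hij.symm
    have o2' := he.orth k i hik.symm
    have o3' := he.orth l i hil.symm
    have o4' := he.orth k j hjk.symm
    have o5' := he.orth l j hjl.symm
    have o6' := he.orth l k hkl.symm
    obtain ⟨s, t, hst⟩ := hf.exists_singular_three (he.aniso k) (he.aniso l) o6 o2' o3'
    have hq : s ^ 2 * S.f₂ (e k) (e k) + t ^ 2 * S.f₂ (e l) (e l) + S.f₂ (e i) (e i) = 0 := by
      simp only [map_add, map_smul, LinearMap.add_apply, LinearMap.smul_apply, smul_eq_mul, o2, o2',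
        o3, o3', o6, o6'] at hst
      linear_combination hst
    set n := s • e k + t • e l + e i with hn
    have hjn : S.f₂ (e j) n = 0 := by simp [hn, o1', o4, o5]
    have hin : S.f₂ n (e j) = 0 := by rw [hf.symm, hjn]
    have mixed : ∀ σ : F, σ * σ = 1 →
        h * xr S (σ • e j + n) * h⁻¹ ∈ Cfsg.Geo.kroneckerSubgroup 4 4 F := by
      intro σ hσ
      set p := (σ * S.f₂ (e j) (e j)) • e i + (-S.f₂ (e i) (e i)) • e j with hp
      set p' := (t * S.f₂ (e l) (e l)) • e k + (-(s * S.f₂ (e k) (e k))) • e l with hp'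
      have hpq : S.f₂ p p ≠ 0 := by
        have : S.f₂ p p = S.f₂ (e i) (e i) * S.f₂ (e j) (e j) *
            (S.f₂ (e i) (e i) + S.f₂ (e j) (e j)) := by
          simp only [hp, map_add, map_smul, LinearMap.add_apply, LinearMap.smul_apply, smul_eq_mul,
            o1, o1']
          linear_combination (S.f₂ (e i) (e i) * S.f₂ (e j) (e j) ^ 2) * hσ
        rw [this]
        exact mul_ne_zero (mul_ne_zero (he.aniso i) (he.aniso j)) hsum
      have hp'q : S.f₂ p' p' ≠ 0 := by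
        have : S.f₂ p' p' = -(S.f₂ (e k) (e k) * S.f₂ (e l) (e l) * S.f₂ (e i) (e i)) := by
          simp only [hp', map_add, map_smul, LinearMap.add_apply, LinearMap.smul_apply, smul_eq_mul,
            o6, o6']
          linear_combination (S.f₂ (e k) (e k) * S.f₂ (e l) (e l)) * hq
        rw [this]
        exact neg_ne_zero.2 (mul_ne_zero (mul_ne_zero (he.aniso k) (he.aniso l)) (he.aniso i))
      obtain ⟨c, -, lc⟩ := exists_line O hε (by norm_num) (by norm_num) le_rfl hh hpq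
        (pairLine i j k l hik hil hjk hjl hkl _ _ hpq)
      obtain ⟨d, -, ld⟩ := exists_line O hε (by norm_num) (by norm_num) le_rfl hh hp'q
        (pairLine k l i j hik.symm hjk.symm hil.symm hjl.symm hij _ _ hp'q)
      refine conj_of_two O hε hR hh ?_ hpq hp'q ?_ ?_ ?_ lc ld
      · simpa [hst, hjn, hin, ← mul_assoc, hσ] using he.aniso j
      · simp [hp, hp', o2, o3, o4, o5]
      · simp only [hp, hn, map_add, map_smul, LinearMap.add_apply, LinearMap.smul_apply, smul_eq_mul,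
          o1, o1', o2', o3', o4', o5']
        ring
      · simp only [hp', hn, map_add, map_smul, LinearMap.add_apply, LinearMap.smul_apply, smul_eq_mul,
          o2, o3, o4, o5, o6, o6']
        ring
    have hne : n ≠ 0 := fun h0 => he.aniso i (by
      have := congrArg (S.f₂ (e i)) h0
      simpa [hn, o2, o3] using this)
    refine kron_of_good O hε hR (by norm_num) (by norm_num) le_rfl hh (he.aniso j) hne hst hjn
      ?_ ?_ ?_
    · have := pairLine i j k l hik hil hjk hjl hkl 0 1 (by simpa using he.aniso j)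
      simpa using this
    · simpa using mixed 1 (one_mul 1)
    · have := mixed (-1) (by ring)
      rwa [neg_one_smul, neg_add_eq_sub] at this
  by_cases c1 : S.f₂ (e 0) (e 0) + S.f₂ (e 1) (e 1) = 0
  swap
  · exact main 0 1 2 3 (by decide) (by decide) (by decide) (by decide) (by decide) (by decide) c1
  by_cases c2 : S.f₂ (e 0) (e 0) + S.f₂ (e 2) (e 2) = 0
  swap
  · exact main 0 2 1 3 (by decide) (by decide) (by decide) (by decide) (by decide) (by decide) c2
  refine main 1 2 0 3 (by decide) (by decide) (by decide) (by decide) (by decide) (by decide)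
    fun c3 => mul_ne_zero S.two (he.aniso 0) ?_
  linear_combination c1 + c2 - c3

include O hε hR in
/-- An element preserving a plane of the orthogonal factor. -/
theorem kron_of_pres {h : GL (Fin 4 × Fin 4) F} (hh : h ∈ H) {w₁ w₂ : Fin 4 → F}
    (h₁ : S.f₂ w₁ w₁ ≠ 0) (h₂ : S.f₂ w₂ w₂ ≠ 0) (h₁₂ : S.f₂ w₁ w₂ = 0)
    (hp : ∀ p, S.f₂ w₁ p = 0 → S.f₂ w₂ p = 0 → ∀ x,
      S.pi p (act h (emb w₁ x)) = 0 ∧ S.pi p (act h (emb w₂ x)) = 0) :
    h ∈ Cfsg.Geo.kroneckerSubgroup 4 4 F := by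
  have hf := S.sym₂ hε
  have hF := hf.fam_two h₁ h₂ h₁₂
  obtain ⟨e₃, he₃, hw3⟩ := hf.exists_aniso_fam hF (by norm_num)
  have h13 : S.f₂ w₁ e₃ = 0 := by simpa using hw3 0
  have h23 : S.f₂ w₂ e₃ = 0 := by simpa using hw3 1
  have hT := hf.fam_three h₁ h₂ he₃ h₁₂ h13 h23
  obtain ⟨e₄, he₄, hT₄⟩ := hf.exists_aniso_fam hT (by norm_num)
  have h14 : S.f₂ w₁ e₄ = 0 := by simpa using hT₄ 0
  have h24 : S.f₂ w₂ e₄ = 0 := by simpa using hT₄ 1
  have h34 : S.f₂ e₃ e₄ = 0 := by simpa using hT₄ 2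
  have hB : Fam S.f₂ (Fin.cons e₄ ![w₁, w₂, e₃] : Fin 4 → (Fin 4 → F)) :=
    hT.cons he₄ hT₄ fun i => by rw [hf.symm, hT₄]
  have hfix : ∀ w : Fin 4 → F, (∀ p, S.f₂ w₁ p = 0 → S.f₂ w₂ p = 0 → ∀ x,
      S.pi p (act h (emb w x)) = 0) → ∀ p, S.f₂ w₁ p = 0 → S.f₂ w₂ p = 0 →
        Fix (h * xr S w * h⁻¹) p := by
    intro w hw p e1 e2 y
    have h0 : S.pi w (act h⁻¹ (emb p y)) = 0 := S.nd₁' fun x => by
      rw [← S.om_emb, ← S.om_act (O.isom hh), act_act_inv, S.om_emb_right, hw p e1 e2 x, map_zero,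
        neg_zero]
    rw [act_mul, act_mul, xr_fix h0, act_act_inv]
  have hline : ∀ w : Fin 4 → F, S.f₂ w w ≠ 0 → (∀ p, S.f₂ w₁ p = 0 → S.f₂ w₂ p = 0 → ∀ x,
      S.pi p (act h (emb w x)) = 0) → ∃ c', LineTo h w c' := by
    intro w hw hwp
    obtain ⟨c', -, hl⟩ := exists_line O hε (by norm_num) (by norm_num) le_rfl hh hw
      (kron_of_fix_plane O hε hR (mul_mem (mul_mem hh (xr_mem O hε hw)) (inv_mem hh)) he₃ he₄ h34
        (hfix w hwp e₃ h13 h23) (hfix w hwp e₄ h14 h24))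
    exact ⟨c', hl⟩
  obtain ⟨c₁, l₁⟩ := hline w₁ h₁ fun p e1 e2 x => (hp p e1 e2 x).1
  obtain ⟨c₂, l₂⟩ := hline w₂ h₂ fun p e1 e2 x => (hp p e1 e2 x).2
  have hother : ∀ v, S.f₂ v v ≠ 0 → S.f₂ w₁ v = 0 → S.f₂ w₂ v = 0 → ∃ c', LineTo h v c' := by
    intro v hv e1 e2
    obtain ⟨c', -, hl⟩ := exists_line O hε (by norm_num) (by norm_num) le_rfl hh hv
      (conj_of_two O hε hR hh hv h₁ h₂ h₁₂ (by rw [hf.symm, e1]) (by rw [hf.symm, e2]) l₁ l₂)
    exact ⟨c', hl⟩
  refine kron_of_four_lines O hε hR hh hB (Fin.cases (hother e₄ he₄ h14 h24) fun i => ?_)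
  fin_cases i
  · exact ⟨c₁, l₁⟩
  · exact ⟨c₂, l₂⟩
  · exact hother e₃ he₃ h13 h23

end Four

end Cfsg.Agent.TensorInv
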