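import Cfsg.Agent.TensorInv.FourBase

/-!
For two factors of dimension four: elements mapping an anisotropic line to a line (helper19).
-/

set_option autoImplicit false
set_option linter.unusedSectionVars false
set_option linter.unusedSimpArgs false

namespace Cfsg.Agent.TensorInv

open Matrix Cfsg.Agent.MaxSub Cfsg.Agent.TensorMax Module

variable {F : Type*} [Field F]

theorem pow_fix {n : ℕ} {g : GL (Fin n × Fin n) F} {z : V F n n} (h : act g z = z) :
    ∀ k : ℕ, act (g ^ k) z = z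
  | 0 => by rw [pow_zero, act_one]
  | k + 1 => by rw [pow_succ, act_mul, h, pow_fix h k]

theorem exists_other : ∀ i : Fin 4, ∃ j k l : Fin 4,
    i ≠ j ∧ i ≠ k ∧ i ≠ l ∧ j ≠ k ∧ j ≠ l ∧ k ≠ l := by decide

theorem eq_of_four {i j k l m : Fin 4} (hij : i ≠ j) (hik : i ≠ k) (hil : i ≠ l) (hjk : j ≠ k)
    (hjl : j ≠ l) (hkl : k ≠ l) (h₁ : m ≠ i) (h₂ : m ≠ j) : m = k ∨ m = l := by
  omega

variable {S : TForm F 4 4} {H : Subgroup (GL (Fin 4 × Fin 4) F)}

/-- A column-free criterion for an image to lie in a line. -/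
theorem eq_emb_of_basis (hε : S.ε = -1) {e : Fin 4 → (Fin 4 → F)} (he : Fam S.f₂ e) (m : Fin 4)
    {z : V F 4 4} (h : ∀ k, k ≠ m → S.pi (e k) z = 0) :
    z = emb (e m) ((S.f₂ (e m) (e m))⁻¹ • S.pi (e m) z) := by
  refine S.eq_of_pi fun d => sub_eq_zero.1 ?_
  refine (S.sym₂ hε).eq_zero_on_basis he
    (piL S z - piL S (emb (e m) ((S.f₂ (e m) (e m))⁻¹ • S.pi (e m) z))) (fun k => ?_) d
  show S.pi (e k) z - S.pi (e k) _ = 0
  rw [S.pi_emb]
  rcases eq_or_ne k m with rfl | hk
  · rw [smul_inv_smul₀ (he.aniso k), sub_self]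
  · rw [h k hk, he.orth k m hk, zero_smul, sub_zero]

variable [Finite F] (O : Over S H) (hε : S.ε = -1) (hR : ¬ Root S H)

include O hε hR in
/-- An element whose restriction to a pair of basis lines stays in that plane. -/
theorem kron_of_pres_basis {h : GL (Fin 4 × Fin 4) F} (hh : h ∈ H) {e : Fin 4 → (Fin 4 → F)}
    (he : Fam S.f₂ e) {i j : Fin 4} (hij : i ≠ j)
    (hi : ∀ k, k ≠ i → k ≠ j → ∀ x, S.pi (e k) (act h (emb (e i) x)) = 0)
    (hj : ∀ k, k ≠ i → k ≠ j → ∀ x, S.pi (e k) (act h (emb (e j) x)) = 0) :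
    h ∈ Cfsg.Geo.kroneckerSubgroup 4 4 F := by
  refine kron_of_pres O hε hR hh (he.aniso i) (he.aniso j) (he.orth i j hij) fun p hpi hpj x => ?_
  have key : ∀ z : V F 4 4, (∀ k, k ≠ i → k ≠ j → S.pi (e k) z = 0) → S.pi p z = 0 := by
    intro z hz
    show piL S z p = 0
    rw [(S.sym₂ hε).eq_sum_basis he p, map_sum]
    refine Finset.sum_eq_zero fun k _ => ?_
    rw [map_smul]
    rcases eq_or_ne k i with rfl | hki
    · rw [hpi, zero_div, zero_smul]
    rcases eq_or_ne k j with rfl | hkj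
    · rw [hpj, zero_div, zero_smul]
    · rw [show piL S z (e k) = 0 from hz k hki hkj, smul_zero]
  exact ⟨key _ fun k a b => hi k a b x, key _ fun k a b => hj k a b x⟩

omit [Finite F] in
include O hε in
/-- The central involution preserves the plane of the pair. -/
theorem involution_pres {z : GL (Fin 4 × Fin 4) F} {v₁ v₂ : Fin 4 → F} (P : HPair S v₁ v₂)
    (hz : z * kr 1 (refl₂ S v₁ v₂) = kr 1 (refl₂ S v₁ v₂) * z) (p : Fin 4 → F)
    (h₁ : S.f₂ v₁ p = 0) (h₂ : S.f₂ v₂ p = 0) (x : Fin 4 → F) :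
    S.pi p (act z (emb v₁ x)) = 0 ∧ S.pi p (act z (emb v₂ x)) = 0 := by
  have hsymm := S.symm₂ hε
  have k1 : act (refl₂ S v₁ v₂) v₁ = (-1 : F) • v₁ := by
    have := P.h₁
    rw [P.refl₂_apply, hsymm v₁ v₂, P.h₁₂]
    match_scalars <;> field_simp <;> ring
  have k2 : act (refl₂ S v₁ v₂) v₂ = (-1 : F) • v₂ := by
    have := P.h₂
    rw [P.refl₂_apply, P.h₁₂]
    match_scalars <;> field_simp <;> ring
  have kp : act (refl₂ S v₁ v₂) p = (1 : F) • p := by rw [P.refl₂_perp h₁ h₂, one_smul]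
  have hne : (-1 : F) ≠ 1 := fun h => S.two (by linear_combination -h)
  exact ⟨pi_of_comm (P.refl₂_form hε) hz k1 kp (one_mul 1) hne x,
    pi_of_comm (P.refl₂_form hε) hz k2 kp (one_mul 1) hne x⟩

include O hε hR in
/-- The central involution is in the tensor stabiliser. -/
theorem involution_kron {z : GL (Fin 4 × Fin 4) F} (hzH : z ∈ H) {v₁ v₂ : Fin 4 → F}
    (P : HPair S v₁ v₂) (hz : z * kr 1 (refl₂ S v₁ v₂) = kr 1 (refl₂ S v₁ v₂) * z) :
    z ∈ Cfsg.Geo.kroneckerSubgroup 4 4 F :=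
  kron_of_pres O hε hR hzH P.h₁ P.h₂ P.h₁₂ fun p a b x =>
    involution_pres O hε P hz p a b x

omit [Finite F] in
include O in
/-- The first factor of an isometric Kronecker product is scalar: then it is the identity. -/
theorem exists_right {z : GL (Fin 4 × Fin 4) F} (hz : z ∈ H) {g : GL (Fin 4) F} {k : GL (Fin 4) F}
    (hzk : z = kr g k) {c : F} (hc : ∀ x, act g x = c • x) (hzz : z * z = 1) :
    ∃ K : GL (Fin 4) F, z = kr 1 K ∧ (∀ v w, S.f₂ (act K v) (act K w) = S.f₂ v w) ∧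
      ∀ w, act K (act K w) = w := by
  set d₀ : Fin 4 → F := fun _ => 1
  have hd₀ : d₀ ≠ 0 := fun h => one_ne_zero (congrFun h 0)
  have hc0 : c ≠ 0 := fun h0 => hd₀ (act_injective g (by rw [hc, h0, zero_smul, map_zero]))
  let K : GL (Fin 4) F := mkGL (c • act k) (c⁻¹ • act k⁻¹)
    (fun x => by simp [act_act_inv, hc0, smul_smul, -Units.val_smul])
    (fun x => by simp [act_inv_act, hc0, smul_smul, -Units.val_smul])
  have hKap : ∀ w, act K w = c • act k w := fun w => mkGL_mulVec _ _ _ _ w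
  have hzK : z = kr 1 K := gl_ext_emb fun v x => by
    rw [hzk, act_kr, act_kr, act_one, hc, hKap, map_smul, emb_smul_left]
  obtain ⟨p, q, hpq⟩ : ∃ p q, S.f₁ p q ≠ 0 := by
    by_contra hn
    push Not at hn
    exact hd₀ (S.nd₁ d₀ (hn d₀))
  refine ⟨K, hzK, fun v w => ?_, fun w => ?_⟩
  · have e := S.om_act (O.isom hz) (emb v p) (emb w q)
    rw [hzK, act_kr, act_kr, act_one, act_one, S.om_emb_emb, S.om_emb_emb] at e
    exact mul_left_cancel₀ hpq e
  · refine emb_right_inj hd₀ ?_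
    have e := congrArg (fun M : GL (Fin 4 × Fin 4) F => act M (emb w d₀)) hzz
    simpa only [act_mul, hzK, act_kr, act_one] using e

include O hε hR in
/-- A conjugate of a reflection fixing a line: the tensor stabiliser or a full moved image. -/
theorem kron_or_full {y : GL (Fin 4 × Fin 4) F} (hy : IsX S H y) {w : Fin 4 → F}
    (hw : S.f₂ w w ≠ 0) (fw : Fix y w) {v₁ v₂ : Fin 4 → F} (P : HPair S v₁ v₂)
    (h₁ : S.f₂ v₁ w = 0) (h₂ : S.f₂ v₂ w = 0) :
    y ∈ Cfsg.Geo.kroneckerSubgroup 4 4 F ∨ 4 ≤ finrank F (movedImage y v₁ v₂ (S := S)) := by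
  have hf := S.sym₂ hε
  obtain ⟨z, k₂, hzH, hzz, hz1, hzp, hzx, hzy, hQ⟩ := exists_involution O hε (by norm_num) hy P
  obtain ⟨g, k, hgk⟩ := involution_kron O hε hR hzH P hzx.symm
  have hgk' : z = kr g k := Units.ext hgk
  have hw0 : w ≠ 0 := fun h => by simp [h] at hw
  have hzw : ∀ x, act z (emb w x) = emb w x := fun x => by
    rw [hzp]
    refine pow_fix ?_ k₂
    rw [act_mul, fw, act_kr, act_one, P.refl₂_perp h₁ h₂]
  obtain ⟨c, hc⟩ : ∃ c : F, ∀ x, act g x = c • x := by
    obtain ⟨d, hd, -⟩ := exists_both S.nd₂ (u := act k w) (v := act k w)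
      (fun h => hw0 (act_injective k (by rw [h, map_zero])))
      (fun h => hw0 (act_injective k (by rw [h, map_zero])))
    refine ⟨(S.f₂ d (act k w))⁻¹ * S.f₂ d w, fun x => ?_⟩
    have e := congrArg (S.pi d) (hzw x)
    rw [hgk', act_kr, S.pi_emb, S.pi_emb] at e
    rw [← smul_smul, ← e, inv_smul_smul₀ (by rwa [hf.symm])]
  obtain ⟨K, hzK, hKf, hKK⟩ := exists_right O hzH hgk' hc hzz
  have hcomm : y * kr 1 K = kr 1 K * y := hzK ▸ hzy
  have hKw : act K w = w := by
    refine emb_right_inj (d := fun _ => 1) (fun h => one_ne_zero (congrFun h (0 : Fin 4))) ?_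
    have := hzw (fun _ => 1)
    rwa [hzK, act_kr, act_one] at this
  obtain ⟨e, s, ι, he, hs, hs', hι, hι', -⟩ := hf.exists_eigen_basis (fam_one hw) (by norm_num)
    (act K) hKf hKK ![1] (fun i => by fin_cases i; simp [hKw]) (fun i => by fin_cases i; simp)
  have hi : e (ι 0) = w := hι 0
  have hsi : s (ι 0) = 1 := hι' 0
  set i := ι 0
  have hfixi : ∀ k, k ≠ i → ∀ x, S.pi (e k) (act y (emb (e i) x)) = 0 := fun k hk x => by
    rw [hi, fw, S.pi_emb, ← hi, he.orth k i hk, zero_smul]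
  have hcom : ∀ k l, s k ≠ s l → ∀ x, S.pi (e k) (act y (emb (e l) x)) = 0 := fun k l hkl x =>
    pi_of_comm hKf hcomm (hs l) (hs k) (hs' k) (Ne.symm hkl) x
  obtain ⟨j, k', l, hij, hik, hil, hjk, hjl, hkl⟩ := exists_other i
  have two : ∀ j k l : Fin 4, i ≠ j → i ≠ k → i ≠ l → j ≠ k → j ≠ l → k ≠ l →
      s j ≠ s k → s j ≠ s l → y ∈ Cfsg.Geo.kroneckerSubgroup 4 4 F := by
    intro j k l hij hik hil hjk hjl hkl hsk hsl
    refine kron_of_pres_basis O hε hR (hy.mem O hε) he hij (fun m hm _ => hfixi m hm)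
      fun m hmi hmj => ?_
    rcases eq_of_four hij hik hil hjk hjl hkl hmi hmj with rfl | rfl
    · exact hcom _ _ (Ne.symm hsk)
    · exact hcom _ _ (Ne.symm hsl)
  by_cases c1 : s j = s k'
  · by_cases c2 : s j = s l
    · rcases mul_self_eq_one_iff.1 (hs' j) with hτ | hτ
      · refine absurd ?_ hz1
        rw [hzK]
        refine gl_ext_emb fun v x => ?_
        rw [act_kr, act_one, act_one, hf.eigen_of_perp he hKf hKK hs (τ := 1) (x := v), one_smul]
        intro m hm
        refine absurd ?_ hm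
        rcases eq_or_ne m i with rfl | hmi
        · exact hsi
        rcases eq_or_ne m j with rfl | hmj
        · exact hτ
        rcases eq_of_four hij hik hil hjk hjl hkl hmi hmj with rfl | rfl
        · exact c1.symm.trans hτ
        · exact c2.symm.trans hτ
      · right
        have hF := hf.fam_three P.h₁ P.h₂ hw P.h₁₂ h₁ h₂
        obtain ⟨t, ht, et⟩ := hf.exists_aniso_fam hF (by norm_num)
        have t1 : S.f₂ v₁ t = 0 := by simpa using et 0
        have t2 : S.f₂ v₂ t = 0 := by simpa using et 1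
        have tw : S.f₂ w t = 0 := by simpa using et 2
        have hKt : act K t = -t := by
          rw [hf.eigen_of_perp he hKf hKK hs (τ := -1) (x := t), neg_one_smul]
          intro m hm
          rcases eq_or_ne m i with rfl | hmi
          · rwa [hi]
          refine absurd ?_ hm
          rcases eq_or_ne m j with rfl | hmj
          · exact hτ
          rcases eq_of_four hij hik hil hjk hjl hkl hmi hmj with rfl | rfl
          · exact c1.symm.trans hτ
          · exact c2.symm.trans hτ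
        have hle : LinearMap.range (emb (a := 4) t) ≤ movedImage y v₁ v₂ (S := S) := by
          rintro _ ⟨x, rfl⟩
          have e1 := hQ (emb t (-(4 : F)⁻¹ • x))
          rw [hzK, act_kr, act_one, hKt, emb_neg_left, LinearMap.add_apply, LinearMap.id_apply,
            map_sub, map_neg, act_kr, act_one, P.refl₂_perp t1 t2, map_smul] at e1
          have h4 : (4 : F) ≠ 0 := fun h => mul_ne_zero S.two S.two (by linear_combination h)
          convert e1 using 1
          match_scalars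
          field_simp
          ring
        have := Submodule.finrank_mono hle
        rwa [LinearMap.finrank_range_of_inj (emb_injective fun h => ht (by simp [h])),
          finrank_fin_fun] at this
    · exact Or.inl (two l j k' hil hij hik hjl.symm hkl.symm hjk (Ne.symm c2)
        fun h => c2 (c1.trans h.symm))
  · by_cases c2 : s j = s l
    · exact Or.inl (two k' j l hik hij hil hjk.symm hkl hjl (Ne.symm c1)
        fun h => c1 (c2.trans h.symm))
    · exact Or.inl (two j k' l hij hik hil hjk hjl hkl c1 c2)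

include O hε hR in
/-- A conjugate of a reflection fixing an anisotropic line. -/
theorem kron_of_fix_line {y : GL (Fin 4 × Fin 4) F} (hy : IsX S H y) {w : Fin 4 → F}
    (hw : S.f₂ w w ≠ 0) (fw : Fix y w) : y ∈ Cfsg.Geo.kroneckerSubgroup 4 4 F := by
  have hf := S.sym₂ hε
  have hyH := hy.mem O hε
  by_contra hK
  obtain ⟨T, hT, hwT⟩ := hf.exists_three_fam (fam_one hw) (by norm_num)
  obtain ⟨p, q, hpq⟩ := hf.exists_singular_three (hT.aniso 0)
    (hT.aniso 1) (hT.orth 0 1 (by decide)) (hT.orth 0 2 (by decide)) (hT.orth 1 2 (by decide))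
  set v₁ := T 2
  set v₂ := p • T 0 + q • T 1 with hv₂
  have h21 : S.f₂ v₂ v₁ = 0 := by
    rw [hv₂]
    simp [v₁, hT.orth 0 2 (by decide), hT.orth 1 2 (by decide)]
  have hsum : S.f₂ v₁ v₁ + S.f₂ v₂ v₂ = 0 := by
    rw [hf.add_self h21] at hpq
    linear_combination hpq
  have P : HPair S v₁ v₂ := ⟨hT.aniso 2,
    fun h0 => hT.aniso 2 (by rwa [h0, add_zero] at hsum), by rw [hf.symm, h21], hsum⟩
  have hw1 : S.f₂ w v₁ = 0 := by simpa using hwT 0 2
  have hw2 : S.f₂ w v₂ = 0 := by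
    rw [hv₂]
    simp [show S.f₂ w (T 0) = 0 by simpa using hwT 0 0, show S.f₂ w (T 1) = 0 by simpa using hwT 0 1]
  have hF := hf.fam_three P.h₁ P.h₂ hw P.h₁₂ (by rw [hf.symm, hw1]) (by rw [hf.symm, hw2])
  obtain ⟨t, ht, et⟩ := hf.exists_aniso_fam hF (by norm_num)
  have hB : Fam S.f₂ (Fin.cons t ![v₁, v₂, w] : Fin 4 → (Fin 4 → F)) :=
    hF.cons ht et fun i => by rw [hf.symm, et]
  set x : Fin 4 → F := fun _ => 1
  have hx : x ≠ 0 := fun h => one_ne_zero (congrFun h 0)
  set z₀ := act y (emb v₁ x)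
  let M : (Fin 4 → F) →ₗ[F] (Fin 3 → F) :=
    LinearMap.pi ![S.f₂ t ∘ₗ rhoL S z₀, S.f₂ v₁ ∘ₗ rhoL S z₀, S.f₂ v₂ ∘ₗ rhoL S z₀]
  obtain ⟨φ, hφM, hφ⟩ := Submodule.exists_mem_ne_zero_of_ne_bot
    (LinearMap.ker_ne_bot_of_finrank_lt (f := M) (by rw [finrank_fin_fun, finrank_fin_fun]; norm_num))
  have hM := LinearMap.mem_ker.1 hφM
  have hρ : rho S φ z₀ = 0 := by
    refine hf.eq_zero_of_basis hB (Fin.cases ?_ fun i => ?_)
    · exact congrFun hM 0
    fin_cases i
    · exact congrFun hM 1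
    · exact congrFun hM 2
    · show S.f₂ w (rho S φ z₀) = 0
      rw [← om_rho, ← fw φ, S.om_act (O.isom hyH), S.om_emb_emb, hw1, mul_zero]
  set s := y * ux S hε φ * y⁻¹ with hs
  have hsH : s ∈ H := mul_mem (mul_mem hyH (ux_mem O hε φ)) (inv_mem hyH)
  have hsK : s ∉ Cfsg.Geo.kroneckerSubgroup 4 4 F := fun h =>
    hK (kron_of_ux_conj O hε hR hyH hφ h)
  have hsw : ∀ x', act s (emb w x') = emb w (act (trans S.f₁ (S.alt₁ hε) φ 1) x') := fun x' => by
    rw [hs, hy.inv_eq, act_mul, act_mul, fw, ux, act_kr, act_one, fw]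
  have hsp : act s (emb v₁ x) = emb v₁ x := by
    rw [hs, hy.inv_eq, act_mul, act_mul, act_ux, hρ, emb_zero_left, add_zero, hy.invo]
  set y' := s * xr S v₁ * s⁻¹
  have hy' : IsX S H y' := isX_conj hsH P.h₁
  have fy' : Fix y' w := by
    intro x'
    obtain ⟨x'', rfl⟩ : ∃ x'', act (trans S.f₁ (S.alt₁ hε) φ 1) x'' = x' :=
      ⟨_, act_act_inv _ x'⟩
    rw [← hsw]
    show act (s * xr S v₁ * s⁻¹) _ = _
    rw [act_mul, act_mul, act_inv_act, xr_fix (by rw [S.pi_emb, hf.symm, hw1, zero_smul])]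
  have hp0 : act y' (emb v₁ x) = -emb v₁ x := by
    show act (s * xr S v₁ * s⁻¹) _ = _
    rw [act_mul, act_mul]
    conv_lhs => arg 2; arg 2; arg 2; rw [← hsp]
    rw [act_inv_act, act_kr, act_one, refl_apply, mul_div_assoc, div_self P.h₁, mul_one]
    conv_rhs => rw [← hsp]
    rw [← map_neg (act s)]
    congr 1
    rw [two_smul, emb_sub_left, emb_add_left]
    abel
  rcases kron_or_full O hε hR hy' hw fy' P (by rw [hf.symm, hw1]) (by rw [hf.symm, hw2]) with
    hy'K | hfull
  · obtain ⟨c, -, hl⟩ := exists_line O hε (by norm_num) (by norm_num) le_rfl hsH P.h₁ hy'K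
    refine hsK (kron_of_pres O hε hR hsH hw P.h₁ hw1 fun d d1 d2 x' => ⟨?_, ?_⟩)
    · rw [hsw, S.pi_emb, hf.symm, d1, zero_smul]
    · obtain ⟨Y, hY⟩ := hl x
      rw [← act_apply, hsp] at hY
      obtain ⟨Y', hY'⟩ := hl x'
      rw [← act_apply] at hY'
      have e1 := congrArg (S.pi d) hY
      rw [S.pi_emb, S.pi_emb, hf.symm, d2, zero_smul, eq_comm, smul_eq_zero] at e1
      rcases e1 with e1 | e1
      · rw [hY', S.pi_emb, e1, zero_smul]
      · rw [e1, map_zero] at hY
        refine absurd (emb_injective (fun h => P.h₁ ?_) (hY.trans (map_zero _).symm)) hx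
        rw [show v₁ = 0 from h, map_zero]
  · set R := LinearMap.range (act y' - LinearMap.id)
    set Q : V F 4 4 →ₗ[F] V F 4 4 :=
      act (kr (1 : GL (Fin 4) F) (refl₂ S v₁ v₂)) + LinearMap.id with hQdef
    have h1 := LinearMap.finrank_range_add_finrank_ker (Q.domRestrict R)
    have h2 : LinearMap.range (Q.domRestrict R) = movedImage y' v₁ v₂ (S := S) := by
      show LinearMap.range (Q ∘ₗ R.subtype) = Submodule.map Q R
      rw [LinearMap.range_comp, Submodule.range_subtype]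
    have hmem : emb v₁ x ∈ R := ⟨-(2 : F)⁻¹ • emb v₁ x, by
      rw [map_smul, LinearMap.sub_apply, LinearMap.id_apply, hp0]
      match_scalars
      field_simp [S.two]
      ring⟩
    have hQ0 : Q (emb v₁ x) = 0 := by
      rw [hQdef, LinearMap.add_apply, LinearMap.id_apply, act_kr, act_one, P.refl₂_apply, hf.symm v₁ v₂, P.h₁₂]
      have := P.h₁
      rw [mul_zero, zero_div, zero_smul, sub_zero, mul_div_assoc, div_self P.h₁, mul_one,
        ← emb_add_left, show v₁ - (2 : F) • v₁ + v₁ = 0 by module, emb_zero_left]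
    have h3 : 0 < finrank F (LinearMap.ker (Q.domRestrict R)) := by
      refine Submodule.one_le_finrank_iff.2 fun hbot => hx ?_
      have hk : (⟨emb v₁ x, hmem⟩ : R) ∈ LinearMap.ker (Q.domRestrict R) :=
        LinearMap.mem_ker.2 hQ0
      rw [hbot, Submodule.mem_bot] at hk
      exact emb_injective (fun h0 => P.h₁ (by simp [h0]))
        ((congrArg Subtype.val hk).trans (map_zero (emb v₁)).symm)
    rw [h2] at h1
    have h4 : finrank F (movedImage y' v₁ v₂ (S := S)) +
        finrank F (LinearMap.ker (Q.domRestrict R)) ≤ 4 := h1.trans_le hy'.moved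
    omega

include O hε hR in
/-- An element mapping an anisotropic line to a line. -/
theorem kron_of_line {h : GL (Fin 4 × Fin 4) F} (hh : h ∈ H) {v v' : Fin 4 → F}
    (hv : S.f₂ v v ≠ 0) (hl : LineTo h v v') : h ∈ Cfsg.Geo.kroneckerSubgroup 4 4 F := by
  have hf := S.sym₂ hε
  obtain ⟨T, hT, hvT⟩ := hf.exists_three_fam (fam_one hv) (by norm_num)
  have hv0 : v ≠ 0 := fun h0 => by simp [h0] at hv
  have hv' : S.f₂ v' v' ≠ 0 := fun h0 => by
    obtain ⟨p, q, hpq⟩ : ∃ p q, S.f₁ p q ≠ 0 := by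
      by_contra hn
      push Not at hn
      exact one_ne_zero (congrFun (S.nd₁ (fun _ => (1 : F)) (hn _)) 0)
    obtain ⟨Y, hY⟩ := hl p
    obtain ⟨Y', hY'⟩ := hl q
    have e := S.om_act (O.isom hh) (emb v p) (emb v q)
    rw [act_apply, act_apply, hY, hY', S.om_emb_emb, S.om_emb_emb, h0, mul_zero] at e
    exact hv ((mul_eq_zero.1 e.symm).resolve_left hpq)
  refine kron_of_side_four O hε hR hh hT fun u hu hperp => ?_
  have hvu : S.f₂ v u = 0 := hperp v fun j => by simpa using hvT 0 j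
  exact kron_of_fix_line O hε hR (isX_conj hh hu) hv'
    (fix_image (by norm_num) hv0 hl (by rw [hf.symm, hvu]))

include O hε hR in
/-- A conjugate of a reflection in the tensor stabiliser. -/
theorem kron_of_xr_conj {h : GL (Fin 4 × Fin 4) F} (hh : h ∈ H) {v : Fin 4 → F}
    (hv : S.f₂ v v ≠ 0) (hm : h * xr S v * h⁻¹ ∈ Cfsg.Geo.kroneckerSubgroup 4 4 F) :
    h ∈ Cfsg.Geo.kroneckerSubgroup 4 4 F := by
  obtain ⟨v', -, hl⟩ := exists_line O hε (by norm_num) (by norm_num) le_rfl hh hv hm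
  exact kron_of_line O hε hR hh hv hl

end Cfsg.Agent.TensorInv
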