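import Cfsg.Agent.TensorInv.QLemma
import Cfsg.Agent.TensorInv.Central
import Cfsg.Agent.TensorInv.Frame
import Cfsg.Agent.SpTensor.Basic

/-!
Conjugates of rank-one elements of the second factor inside the tensor stabiliser (helper19).
-/

set_option autoImplicit false
set_option linter.unusedSectionVars false
set_option linter.unusedSimpArgs false

namespace Cfsg.Agent.TensorInv

open Matrix Cfsg.Agent.MaxSub Cfsg.Agent.TensorMax Module Cfsg.Agent.ClMax99.TensorRank
open scoped Kronecker

variable {F : Type*} [Field F] {a b : ℕ} {S : TForm F a b}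
  {H : Subgroup (GL (Fin a × Fin b) F)}

/-- A conjugate in the tensor stabiliser of an element `1 ⊗ (1 + φ v)` maps the line of `v` to a line. -/
theorem lineTo_of_conj [Finite F] {h : GL (Fin a × Fin b) F} {k : GL (Fin b) F} {v : Fin b → F}
    {φ : (Fin b → F) →ₗ[F] F} (hh : h ∈ isom S.om) (hk : kr (1 : GL (Fin a) F) k ∈ isom S.om)
    (ha : 1 ≤ a) (hk1 : ∀ w, act k w = w + φ w • v) (hv : v ≠ 0) (hφ : φ ≠ 0)
    (hab : a < b ∨ (a = b + 1 ∧ 3 ≤ b) ∨ (a = b ∧ 3 ≤ a ∧ ∀ (e : Fin a → F) (ψ : (Fin a → F) →ₗ[F] F), ψ e = φ v →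
      (∀ x y, S.f₁ (x + ψ x • e) (y + ψ y • e) = S.f₁ x y) → ∀ x, ψ x • e = 0))
    (hm : h * kr 1 k * h⁻¹ ∈ Cfsg.Geo.kroneckerSubgroup a b F) :
    ∃ v', v' ≠ 0 ∧ LineTo h v v' := by
  classical
  have := Fintype.ofFinite F
  set X := kr (1 : GL (Fin a) F) k with hX
  set Y := h * X * h⁻¹ with hY
  have hYi : Y ∈ isom S.om := mul_mem (mul_mem hh hk) (inv_mem hh)
  obtain ⟨g, k', hgk⟩ := hm
  have hgk' : Y = kr g k' := Units.ext hgk
  have hvm : ∀ w, (vecMulVec v (fun j => φ (Pi.single j 1))) *ᵥ w = φ w • v := fun w => by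
    rw [vecMulVec_mulVec, op_smul_eq_smul]
    congr 1
    conv_rhs => rw [pi_eq_sum_univ' w]
    simp [dotProduct, mul_comm, map_sum]
  have hk2 : (k : Matrix (Fin b) (Fin b) F) = 1 + vecMulVec v (fun j => φ (Pi.single j 1)) :=
    Matrix.toLin'.injective (LinearMap.ext fun w => by
      rw [Matrix.toLin'_apply, Matrix.toLin'_apply, add_mulVec, one_mulVec, hvm]
      exact hk1 w)
  have hrank : ((Y : Matrix (Fin a × Fin b) (Fin a × Fin b) F) - (1 : F) • 1).rank = a := by
    rw [hY, Units.val_mul, Units.val_mul, rank_conj, hX, kr_coe, Units.val_one, hk2, one_smul,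
      show (1 : Matrix (Fin a) (Fin a) F) ⊗ₖ (1 + vecMulVec v (fun j => φ (Pi.single j 1))) - 1 =
        (1 : Matrix (Fin a) (Fin a) F) ⊗ₖ vecMulVec v (fun j => φ (Pi.single j 1)) from by
          rw [Matrix.kronecker_add, Matrix.one_kronecker_one, add_sub_cancel_left],
      rank_one_kronecker]
    have h1 : (vecMulVec v (fun j => φ (Pi.single j 1))).rank = 1 := by
      refine le_antisymm (rank_vecMulVec_le _ _) (Nat.pos_of_ne_zero fun h0 => hφ ?_)
      rw [rank_eq, Submodule.finrank_eq_zero, LinearMap.range_eq_bot] at h0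
      refine LinearMap.ext fun w => ?_
      have := LinearMap.congr_fun h0 w
      rw [Matrix.toLin'_apply, hvm, LinearMap.zero_apply, smul_eq_zero] at this
      exact this.resolve_right hv
    rw [h1, mul_one]
  have hsq : ∀ z, act Y (act Y z - z) - (act Y z - z) = φ v • (act Y z - z) := by
    intro z
    obtain ⟨z, rfl⟩ : ∃ w, act h w = z := ⟨_, act_act_inv h z⟩
    have e : ∀ z, act X (act X z - z) - (act X z - z) = φ v • (act X z - z) := fun z => by
      refine ext_emb (f := act X ∘ₗ (act X - LinearMap.id) - (act X - LinearMap.id))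
        (g := φ v • (act X - LinearMap.id)) (fun w x => ?_) z
      simp only [LinearMap.sub_apply, LinearMap.comp_apply, LinearMap.id_apply,
        LinearMap.smul_apply, hX, act_kr, act_one, hk1, emb_add_left, emb_smul_left, map_add,
        map_sub, map_smul, smul_smul]
      module
    have e2 : ∀ w, act Y (act h w) = act h (act X w) := fun w => by
      rw [hY, act_mul, act_mul, act_inv_act]
    rw [e2, ← map_sub, e2, ← map_sub, e, map_smul]
  obtain ⟨c, hc⟩ : ∃ c : F, (g : Matrix (Fin a) (Fin a) F) = c • 1 := by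
    by_contra hg
    push Not at hg
    rcases hab with hab | ⟨hab, hb3⟩ | ⟨hab, ha3, hex⟩
    · have := le_rank_of_nonscalar hg k' 1
      rw [← hgk] at this
      omega
    · by_cases hk' : ∃ c : F, (k' : Matrix (Fin b) (Fin b) F) = c • 1
      · obtain ⟨c, hc⟩ := hk'
        have hr := SpTensor.rank_kronecker_smul (b := b) c (g : Matrix (Fin a) (Fin a) F)
        rw [← hc, ← hgk, hrank] at hr
        set r := (c • (g : Matrix (Fin a) (Fin a) F) - (1 : F) • 1).rank
        rcases Nat.lt_or_ge r 2 with h2 | h2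
        · interval_cases r <;> omega
        · have := Nat.mul_le_mul_left b h2
          omega
      · push Not at hk'
        have h1 := SpTensor.lt_rank_of_nonscalar hb3 hk' g hg (one_ne_zero (α := F))
        have h2 : ((k' : Matrix (Fin b) (Fin b) F) ⊗ₖ (g : Matrix (Fin a) (Fin a) F) -
            (1 : F) • 1).rank =
              ((Y : Matrix (Fin a × Fin b) (Fin a × Fin b) F) - (1 : F) • 1).rank := by
          rw [← rank_reindex_sub (Equiv.prodComm (Fin a) (Fin b))
            (Y : Matrix (Fin a × Fin b) (Fin a × Fin b) F) 1]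
          congr 2
          rw [hgk]
          ext p q
          simp [mul_comm]
        omega
    by_cases hk' : ∃ c : F, (k' : Matrix (Fin b) (Fin b) F) = c • 1
    swap
    · push Not at hk'
      have := SpTensor.lt_rank_of_nonscalar ha3 hg k' hk' (one_ne_zero (α := F))
      rw [← hgk] at this
      omega
    obtain ⟨c, hc⟩ := hk'
    have hr := SpTensor.rank_kronecker_smul (b := b) c (g : Matrix (Fin a) (Fin a) F)
    rw [← hc, ← hgk, hrank, one_smul] at hr
    have hr1 : (c • (g : Matrix (Fin a) (Fin a) F) - 1).rank ≤ 1 :=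
      Nat.le_of_mul_le_mul_left (show b * _ ≤ b * 1 by omega) (by omega)
    rw [rank_eq] at hr1
    obtain ⟨⟨e, he⟩, hspan⟩ := finrank_le_one_iff.mp hr1
    obtain ⟨v₀, v₁, hv01⟩ : ∃ v₀ v₁, S.f₂ v₀ v₁ = 1 := by
      obtain ⟨z, hz, -⟩ := exists_both S.nd₂ hv hv
      exact ⟨v, (S.f₂ v z)⁻¹ • z, by rw [map_smul, smul_eq_mul, inv_mul_cancel₀ hz]⟩
    have hv0 : v₀ ≠ 0 := fun h0 => zero_ne_one (by
      rw [← hv01, h0, map_zero, LinearMap.zero_apply])
    choose ψ hψ using fun x => hspan ⟨_, LinearMap.mem_range_self _ x⟩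
    have hψ' : ∀ x, c • act g x = x + ψ x • e := fun x => by
      have := congrArg Subtype.val (hψ x)
      simp only [SetLike.val_smul, Matrix.toLin'_apply, Matrix.sub_mulVec, Matrix.smul_mulVec,
        one_mulVec] at this
      rw [this, act_apply]
      abel
    have hYe : ∀ (w : Fin b → F) x, act Y (emb w x) = emb w (x + ψ x • e) := fun w x => by
      rw [hgk', act_kr, ← hψ', show act k' w = c • w from by
        rw [act_apply, hc, Matrix.smul_mulVec, one_mulVec], emb_smul_left, map_smul]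
    by_cases he0 : e = 0
    · refine hg c⁻¹ (Matrix.toLin'.injective (LinearMap.ext fun x => ?_))
      have hc0 : c ≠ 0 := fun h0 => by
        have e1 := congrArg (fun M : Matrix (Fin b) (Fin b) F => M *ᵥ v) hc
        simp only [h0, zero_smul, zero_mulVec] at e1
        exact hv (act_injective k' (by rw [map_zero]; exact e1))
      have := hψ' x
      rw [he0, smul_zero, add_zero] at this
      rw [Matrix.toLin'_apply, map_smul, Matrix.toLin'_one, LinearMap.smul_apply,
        LinearMap.id_apply, eq_inv_smul_iff₀ hc0]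
      exact this
    let Ψ : (Fin a → F) →ₗ[F] F :=
      { toFun := ψ
        map_add' := fun x y => smul_left_injective F he0 (by
          have h1 := hψ' (x + y)
          rw [map_add, smul_add, hψ', hψ'] at h1
          show ψ (x + y) • e = (ψ x + ψ y) • e
          linear_combination (norm := module) -h1)
        map_smul' := fun r x => smul_left_injective F he0 (by
          have h1 := hψ' (r • x)
          rw [map_smul, smul_comm, hψ'] at h1
          show ψ (r • x) • e = (r * ψ x) • e
          linear_combination (norm := module) -h1) }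
    have hiso : ∀ x y, S.f₁ (x + Ψ x • e) (y + Ψ y • e) = S.f₁ x y := fun x y => by
      have := S.om_act hYi (emb v₀ x) (emb v₁ y)
      rw [hYe, hYe, S.om_emb_emb, S.om_emb_emb, hv01, mul_one, mul_one] at this
      exact this
    refine he0 ?_
    by_contra _
    obtain ⟨x, hx⟩ : ∃ x, ψ x ≠ 0 := by
      by_contra hn
      push Not at hn
      have hone : Y = 1 := gl_ext_emb fun w x => by
        rw [hYe, hn, zero_smul, add_zero, act_one]
      rw [hone, Units.val_one, one_smul, sub_self, Matrix.rank_zero] at hrank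
      omega
    have hce : ψ e = φ v := by
      have h1 := hsq (emb v₀ x)
      rw [hYe, ← map_sub, add_sub_cancel_left, hYe, ← map_sub, add_sub_cancel_left,
        ← map_smul] at h1
      have h3 : ψ (ψ x • e) • e = φ v • (ψ x • e) := emb_injective hv0 h1
      have h4 : ψ (ψ x • e) = ψ x * ψ e := by
        show Ψ (ψ x • e) = ψ x * Ψ e
        rw [map_smul, smul_eq_mul]
      rw [h4, smul_smul] at h3
      have h5 := smul_left_injective F he0 h3
      exact mul_left_cancel₀ hx (h5.trans (mul_comm _ _))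
    exact smul_ne_zero hx he0 (hex e Ψ hce hiso x)
  set N := c • (k' : Matrix (Fin b) (Fin b) F) - 1 with hN
  have hSN : (Y : Matrix (Fin a × Fin b) (Fin a × Fin b) F) - 1 =
      (1 : Matrix (Fin a) (Fin a) F) ⊗ₖ N := by
    rw [hgk, hc, Matrix.smul_kronecker, ← Matrix.kronecker_smul, hN]
    ext p q
    by_cases h1 : p.1 = q.1 <;> by_cases h2 : p.2 = q.2 <;>
      simp [Matrix.one_apply, Prod.ext_iff, h1, h2]
  have hNr : finrank F (LinearMap.range (Matrix.toLin' N)) ≤ 1 := by
    rw [← rank_eq]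
    rw [one_smul, hSN, rank_one_kronecker] at hrank
    exact Nat.le_of_mul_le_mul_left (hrank.le.trans_eq (mul_one a).symm) (by omega)
  obtain ⟨⟨w', hw'⟩, hspan⟩ := finrank_le_one_iff.mp hNr
  obtain ⟨y₀, hy₀⟩ : ∃ y₀, φ y₀ ≠ 0 := by
    by_contra hn
    push Not at hn
    exact hφ (LinearMap.ext hn)
  have hkey : LineTo h v w' := fun x => by
    set z := act h (emb y₀ ((φ y₀)⁻¹ • x))
    have h1 : act Y z - z = act h (emb v x) := by
      rw [hY, act_mul, act_mul, act_inv_act, ← map_sub, hX, act_kr, act_one, hk1, emb_add_left,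
        emb_smul_left, add_sub_cancel_left, map_smul (emb v), smul_smul, mul_inv_cancel₀ hy₀,
        one_smul]
    have h2 : act Y z - z = ((1 : Matrix (Fin a) (Fin a) F) ⊗ₖ N) *ᵥ z := by
      rw [← hSN, sub_mulVec, one_mulVec, act_apply]
    choose y hy using fun i : Fin a => hspan ⟨N *ᵥ fun j => z (i, j), _, Matrix.toLin'_apply _ _⟩
    refine ⟨y, ?_⟩
    show act h (emb v x) = _
    rw [← h1, h2]
    funext p
    have h3 := congrFun (congrArg Subtype.val (hy p.1)) p.2
    simp only [SetLike.val_smul, Pi.smul_apply, smul_eq_mul] at h3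
    show _ = y p.1 * w' p.2
    rw [h3]
    simp [Matrix.mulVec, dotProduct, Fintype.sum_prod_type, Matrix.one_apply]
  refine ⟨w', fun h0 => ?_, hkey⟩
  obtain ⟨y, hy⟩ := hkey (fun _ => 1)
  have : emb (a := a) v (fun _ => 1) = 0 := act_injective h (by
    rw [map_zero, act_apply, hy, h0, emb_zero_left])
  exact one_ne_zero (congrFun (emb_injective hv (this.trans (map_zero _).symm)) ⟨0, ha⟩)

/-- `h` stabilising a line sends it into a line of the same kind. -/
theorem kron_of_lineTo_singular [Finite F] (O : Over S H) (hε : S.ε = -1) (hR : ¬ Root S H)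
    (ha : 1 ≤ a) (hb : 3 ≤ b) {h : GL (Fin a × Fin b) F} (hh : h ∈ H) {n m : Fin b → F}
    (hn : n ≠ 0) (hnn : S.f₂ n n = 0) (hmm : S.f₂ m m = 0) (hm : m ≠ 0) (hl : LineTo h n m) :
    h ∈ Cfsg.Geo.kroneckerSubgroup a b F := by
  obtain ⟨n', hn'n', hnn'⟩ := exists_partner S.two (S.symm₂ hε) S.nd₂ hn hnn
  have P : Pair S n n' := ⟨hnn, hn'n', hnn'⟩
  obtain ⟨k, hk, hkm⟩ := exists_symm_move S.two (S.symm₂ hε) S.nd₂ hm hn hmm hnn
  have hC := cent_alt O hε P hR
  have h1 := kron_of_stable O P hC (scalar_alt O hε P hC) ha hb (mul_mem (O.right hk) hh)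
    fun x => by
      obtain ⟨y, hy⟩ := hl x
      exact ⟨y, by rw [act_mul, act_apply h, hy, act_kr, act_one, hkm]⟩
  have := mul_mem (inv_mem (kr_mem (1 : GL (Fin a) F) k)) h1
  rwa [inv_mul_cancel_left] at this

/-- The same for an orthogonal first factor. -/
theorem kron_of_lineTo_alt [Finite F] (O : Over S H) (hε : S.ε = 1) (hR : ¬ Root S H)
    (ha : 3 ≤ a) (hbig : 4 ≤ a ∨ ∃ t : F, t ≠ 0 ∧ t ^ 2 ≠ 1) (hb : 3 ≤ b)
    {h : GL (Fin a × Fin b) F} (hh : h ∈ H) {n m : Fin b → F}
    (hn : n ≠ 0) (hm : m ≠ 0) (hl : LineTo h n m) :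
    h ∈ Cfsg.Geo.kroneckerSubgroup a b F := by
  have halt := S.alt₂ hε
  obtain ⟨z, hz, -⟩ := exists_both S.nd₂ hn hn
  have P : Pair S n ((S.f₂ n z)⁻¹ • z) := ⟨halt n, halt _, by
    rw [map_smul, smul_eq_mul, inv_mul_cancel₀ hz]⟩
  obtain ⟨k, hk, hkm⟩ := exists_alt_move halt (S.skew₂ hε) S.nd₂ hm hn
  have hC := cent_symm O hε ha hbig P hR
  have h1 := kron_of_stable O P hC (scalar_symm O hε ha P hC) (by omega) hb
    (mul_mem (O.right hk) hh) fun x => by
      obtain ⟨y, hy⟩ := hl x
      exact ⟨y, by rw [act_mul, act_apply h, hy, act_kr, act_one, hkm]⟩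
  have := mul_mem (inv_mem (kr_mem (1 : GL (Fin a) F) k)) h1
  rwa [inv_mul_cancel_left] at this

end Cfsg.Agent.TensorInv
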