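import Cfsg.Agent.TensorInv.Scalar

/-!
An element stabilising a singular line lies in the tensor stabiliser (helper19).
-/

set_option autoImplicit false
set_option linter.unusedSectionVars false
set_option linter.unusedSimpArgs false

namespace Cfsg.Agent.TensorInv

open Matrix Cfsg.Agent.MaxSub Cfsg.Agent.TensorMax Module

variable {F : Type*} [Field F] {a b : ℕ} {S : TForm F a b}
  {H : Subgroup (GL (Fin a × Fin b) F)} {n n' : Fin b → F}

/-- The action of an Eichler element. -/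
theorem act_eich (P : Pair S n n') {t : Fin b → F} (ht : S.f₂ n t = 0) (z : V F a b) :
    act (kr (1 : GL (Fin a) F) (eich S n t)) z =
      z + emb t (S.pi n z) + emb n (S.ε • S.pi t z - (S.f₂ t t / 2) • S.pi n z) := by
  refine ext_emb (f := act (kr (1 : GL (Fin a) F) (eich S n t)))
    (g := LinearMap.id + emb t ∘ₗ S.pi n +
      emb n ∘ₗ (S.ε • S.pi t - (S.f₂ t t / 2) • S.pi n)) (fun v x => ?_) z
  simp only [LinearMap.add_apply, LinearMap.id_apply, LinearMap.comp_apply, LinearMap.sub_apply,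
    LinearMap.smul_apply, act_kr, act_one, eich_apply S P.nn ht, TForm.pi_emb, emb_sub_left,
    emb_add_left, emb_smul_left, map_sub, map_smul, smul_smul, sub_smul]
  abel

/-- The projection away from a singular pair. -/
def proj (S : TForm F a b) (n n' : Fin b → F) : (Fin b → F) →ₗ[F] (Fin b → F) :=
  LinearMap.id + (S.ε • S.f₂ n').smulRight n - (S.f₂ n).smulRight n'

theorem proj_apply (d : Fin b → F) :
    proj S n n' d = d + (S.ε * S.f₂ n' d) • n - S.f₂ n d • n' := rfl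

theorem proj_mem (P : Pair S n n') (d : Fin b → F) :
    S.f₂ n (proj S n n' d) = 0 ∧ S.f₂ n' (proj S n n' d) = 0 := by
  simp only [proj_apply, map_add, map_sub, map_smul, smul_eq_mul, P.nn, P.nn', P.n'n, P.n'n',
    mul_zero, add_zero, mul_one, sub_zero, sub_self, true_and]
  linear_combination (-S.f₂ n' d) * S.hε

theorem proj_eq {t : Fin b → F} (ht : S.f₂ n t = 0) (ht' : S.f₂ n' t = 0) :
    proj S n n' t = t := by simp [proj_apply, ht, ht']

theorem pi_decomp (d : Fin b → F) (z : V F a b) :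
    S.pi d z = S.pi (proj S n n' d) z - (S.ε * S.f₂ n' d) • S.pi n z + S.f₂ n d • S.pi n' z := by
  rw [proj_apply, S.pi_sub, S.pi_add, S.pi_smul, S.pi_smul]
  abel

theorem decomp (z : V F a b) : z = (∑ j, emb (proj S n n' (Pi.single j 1)) (col j z)) +
    emb n (-S.ε • S.pi n' z) + emb n' (S.pi n z) := by
  have e : ∀ d, (∑ j, S.f₂ d (Pi.single j 1) • col j z) = S.pi d z := fun d => by
    conv_rhs => rw [eq_sum_emb z, map_sum]
    simp [TForm.pi_emb]
  simp only [proj_apply, emb_sub_left, emb_add_left, emb_smul_left, Finset.sum_sub_distrib,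
    Finset.sum_add_distrib, ← eq_sum_emb, ← e n, ← e n', map_smul, map_sum, map_neg, neg_smul,
    mul_smul, ← Finset.smul_sum]
  abel

/-- An element stabilising a singular line lies in the tensor stabiliser. -/
theorem kron_of_stable (O : Over S H) (P : Pair S n n') (hC : Cent S H n)
    (hS : Scalar S H n n') (ha : 1 ≤ a) (hb : 3 ≤ b) {h : GL (Fin a × Fin b) F} (hh : h ∈ H)
    (hline : ∀ x, ∃ y, act h (emb n x) = emb n y) :
    h ∈ Cfsg.Geo.kroneckerSubgroup a b F := by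
  classical
  set L := proj S n n' with hLdef
  have hL := proj_mem (S := S) P
  have hhi := O.isom hh
  -- the map on the line
  let α : (Fin a → F) →ₗ[F] (Fin a → F) := -S.ε • (S.pi n' ∘ₗ act h ∘ₗ emb n)
  have hα : ∀ x, act h (emb n x) = emb n (α x) := fun x => by
    obtain ⟨y, hy⟩ := hline x
    rw [hy]
    congr 1
    simp only [α, LinearMap.smul_apply, LinearMap.comp_apply, hy, S.pi_emb, P.n'n, smul_smul,
      neg_mul_neg, S.hε, one_smul]
  have hαs : Function.Surjective α := LinearMap.injective_iff_surjective.1 fun x y hxy =>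
    emb_injective P.ne (act_injective h (by rw [hα, hα, hxy]))
  have hker : ∀ z, S.pi n z = 0 → S.pi n (act h z) = 0 := fun z hz => by
    refine S.eq₁ fun y => ?_
    obtain ⟨x, rfl⟩ := hαs y
    rw [← S.om_emb, ← hα, S.om_act hhi, S.om_emb, hz]
    simp
  have hker' : ∀ z, S.pi n z = 0 → S.pi n (act h⁻¹ z) = 0 := fun z hz => by
    refine S.eq₁ fun y => ?_
    rw [← S.om_emb, ← S.om_act hhi, act_act_inv, hα, S.om_emb, hz]
    simp
  have hline' : ∀ x, ∃ y, act h⁻¹ (emb n x) = emb n y := fun x => by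
    obtain ⟨y, rfl⟩ := hαs x
    exact ⟨y, by rw [← hα, act_inv_act]⟩
  let γ : (Fin a → F) →ₗ[F] (Fin a → F) := S.pi n ∘ₗ act h⁻¹ ∘ₗ emb n'
  have hαγ : ∀ y x, S.f₁ (α y) x = S.f₁ y (γ x) := fun y x => by
    have := S.om_act_left hhi (emb n y) (emb n' x)
    rw [hα, S.om_emb, P.pi_n', S.om_emb] at this
    exact this
  have hγi : Function.Injective γ := (injective_iff_map_eq_zero _).2 fun x hx => S.nd₁' fun y => by
    obtain ⟨w, rfl⟩ := hαs y
    rw [hαγ, hx, map_zero]
  let δe := LinearEquiv.ofBijective γ ⟨hγi, LinearMap.injective_iff_surjective.1 hγi⟩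
  let δ : (Fin a → F) →ₗ[F] (Fin a → F) := δe.symm.toLinearMap
  have hδγ : ∀ x, δ (γ x) = x := fun x => δe.symm_apply_apply x
  have hγδ : ∀ x, γ (δ x) = x := fun x => δe.apply_symm_apply x
  -- a unit pair in the first factor
  obtain ⟨x₁, x₀, hx⟩ : ∃ x₁ x₀, S.f₁ x₁ x₀ = 1 := by
    set e : Fin a → F := Pi.single ⟨0, ha⟩ 1
    have he : e ≠ 0 := by simp [e]
    obtain ⟨z, hz, -⟩ := exists_both S.nd₁ he he
    exact ⟨e, (S.f₁ e z)⁻¹ • z, by rw [map_smul, smul_eq_mul, inv_mul_cancel₀ hz]⟩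
  -- images of the lines
  have himg : ∀ s, S.f₂ n s = 0 → S.f₂ n' s = 0 → ∀ t, S.f₂ n t = 0 → S.f₂ n' t = 0 → ∀ x,
      S.pi t (act h (emb s (γ x))) = S.f₁ x₁ (S.pi t (act h (emb s (γ x₀)))) • x := by
    intro s hs hs' t ht ht' x
    set u := h * kr 1 (eich S n s) * h⁻¹ with hu
    have hE := inQ_eich O P hs
    have huQ : InQ S H n u := by
      refine ⟨mul_mem (mul_mem hh hE.1) (inv_mem hh), fun x => ?_, fun z hz => ?_⟩
      · obtain ⟨y, hy⟩ := hline' x
        rw [hu, act_mul, act_mul, hy, hE.2.1, ← hy, act_act_inv]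
      · obtain ⟨y, hy⟩ := hE.2.2 _ (hker' z hz)
        refine ⟨α y, ?_⟩
        rw [hu, act_mul, act_mul]
        conv_lhs => arg 2; rw [← act_act_inv h z]
        rw [← map_sub, hy, hα]
    have hb : ∀ x, block S n' u t x = S.pi t (act h (emb s (γ x))) := fun x => by
      have hw : S.pi n (act h⁻¹ (emb n' x)) = γ x := rfl
      show S.pi t (nMap n' u x) = _
      rw [nMap_apply, hu, act_mul, act_mul, act_eich P hs, hw, map_add (act h), map_add (act h),
        act_act_inv, hα]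
      simp only [map_sub (S.pi t), map_add (S.pi t), S.pi_emb t n, S.f₂_zero_comm ht, zero_smul,
        add_zero]
      abel
    obtain ⟨l, hl⟩ := exists_scalar_of_eigen (block S n' u t) (hS u huQ t ht ht')
    rw [← hb, ← hb, hl, hl, map_smul, hx, smul_eq_mul, mul_one]
  let lam : (Fin b → F) → (Fin b → F) →ₗ[F] F := fun s =>
    { toFun := fun d => S.f₁ x₁ (S.pi (L d) (act h (emb (L s) (γ x₀))))
      map_add' := fun d d' => by simp [TForm.pi_add]
      map_smul' := fun c d => by simp [TForm.pi_smul] }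
  choose r hr using fun s => S.exists_rep₂ (lam s)
  have hTs : ∀ s d, S.f₂ d (-S.ε • r s) = lam s d := fun s d => by
    rw [map_smul, smul_eq_mul, S.flip₂ (r s) d, hr, neg_mul_neg, ← mul_assoc, S.hε, one_mul]
  let T : (Fin b → F) →ₗ[F] (Fin b → F) :=
    { toFun := fun s => -S.ε • r s
      map_add' := fun s s' => S.eq₂ fun d => by
        rw [map_add, hTs, hTs, hTs]
        show S.f₁ x₁ (S.pi (L d) (act h (emb (L (s + s')) (γ x₀)))) = _
        rw [map_add L, emb_add_left, map_add, map_add, map_add]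
        rfl
      map_smul' := fun c s => S.eq₂ fun d => by
        rw [RingHom.id_apply, hTs, map_smul, smul_eq_mul, hTs]
        show S.f₁ x₁ (S.pi (L d) (act h (emb (L (c • s)) (γ x₀)))) = _
        rw [map_smul L, emb_smul_left, map_smul, map_smul, map_smul, smul_eq_mul]
        rfl }
  have hT : ∀ s d, S.f₂ d (T s) = lam s d := hTs
  have hLn : L n = 0 := by
    simp only [hLdef, proj_apply, P.nn, P.n'n, mul_neg, S.hε]
    module
  have hLn' : L n' = 0 := by simp [hLdef, proj_apply, P.n'n', P.nn']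
  have hTn : ∀ s, S.f₂ n (T s) = 0 := fun s => by
    rw [hT]
    show S.f₁ x₁ (S.pi (L n) _) = 0
    rw [hLn, ← zero_smul F (0 : Fin b → F), S.pi_smul, zero_smul, map_zero]
  have hTn' : ∀ s, S.f₂ n' (T s) = 0 := fun s => by
    rw [hT]
    show S.f₁ x₁ (S.pi (L n') _) = 0
    rw [hLn', ← zero_smul F (0 : Fin b → F), S.pi_smul, zero_smul, map_zero]
  have himg' : ∀ s, S.f₂ n s = 0 → S.f₂ n' s = 0 → ∀ y,
      ∃ c, act h (emb s y) = emb (T s) (δ y) + emb n c := by
    intro s hs hs' y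
    set z := act h (emb s y) with hz
    have hzn : S.pi n z = 0 := hker _ (by rw [S.pi_emb, hs, zero_smul])
    refine ⟨-S.ε • S.pi n' z, S.eq_of_pi fun d => ?_⟩
    rw [pi_decomp (n := n) (n' := n') d z, hzn, smul_zero, sub_zero, map_add, S.pi_emb,
      S.pi_emb, hT, smul_smul]
    congr 1
    · conv_lhs => rw [hz, ← hγδ y, himg s hs hs' _ (hL d).1 (hL d).2]
      show _ = S.f₁ x₁ (S.pi (L d) (act h (emb (L s) (γ x₀)))) • δ y
      rw [hLdef, proj_eq hs hs']
    · congr 1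
      rw [S.flip₂ n d]
      linear_combination (-S.f₂ n d) * S.hε
  -- the similitude factor
  obtain ⟨s₀, s₁, hs₀, hs₀', hs₁, hs₁', hss⟩ : ∃ s₀ s₁, S.f₂ n s₀ = 0 ∧ S.f₂ n' s₀ = 0 ∧
      S.f₂ n s₁ = 0 ∧ S.f₂ n' s₁ = 0 ∧ S.f₂ s₀ s₁ = 1 := by
    obtain ⟨x, hx0, hx⟩ := exists_perp S.f₂ ![n, n'] (by omega)
    obtain ⟨z, hz, -⟩ := exists_both S.nd₂ hx0 hx0
    have e : S.f₂ x (L z) = S.f₂ x z := by
      have e1 : S.f₂ x n = 0 := S.f₂_zero_comm (hx 0)
      have e2 : S.f₂ x n' = 0 := S.f₂_zero_comm (hx 1)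
      simp [hLdef, proj_apply, e1, e2]
    refine ⟨x, (S.f₂ x z)⁻¹ • L z, hx 0, hx 1, ?_, ?_, ?_⟩
    · rw [map_smul, hLdef, (hL z).1, smul_zero]
    · rw [map_smul, hLdef, (hL z).2, smul_zero]
    · rw [map_smul, smul_eq_mul, e, inv_mul_cancel₀ hz]
  have hprod : ∀ s s', S.f₂ n s = 0 → S.f₂ n' s = 0 → S.f₂ n s' = 0 → S.f₂ n' s' = 0 → ∀ y y',
      S.f₁ (δ y) (δ y') * S.f₂ (T s) (T s') = S.f₁ y y' * S.f₂ s s' := by
    intro s s' hs hs' hs2 hs2' y y'
    obtain ⟨c, hc⟩ := himg' s hs hs' y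
    obtain ⟨c', hc'⟩ := himg' s' hs2 hs2' y'
    have := S.om_act hhi (emb s y) (emb s' y')
    rw [hc, hc'] at this
    simp only [TForm.om_add_left, TForm.om_add_right, TForm.om_emb_emb, hTn, P.nn,
      S.f₂_zero_comm (hTn s), mul_zero, add_zero] at this
    exact this
  set ν := S.f₂ (T s₀) (T s₁)
  have hν : ν ≠ 0 := fun h0 => by
    have := hprod s₀ s₁ hs₀ hs₀' hs₁ hs₁' x₁ x₀
    rw [hx, hss, show S.f₂ (T s₀) (T s₁) = 0 from h0, mul_zero, mul_one] at this
    exact zero_ne_one this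
  have hδ : ∀ y y', S.f₁ (δ y) (δ y') = ν⁻¹ * S.f₁ y y' := fun y y' => by
    have := hprod s₀ s₁ hs₀ hs₀' hs₁ hs₁' y y'
    rw [hss, mul_one] at this
    rw [← this]
    field_simp
    ring
  have hTf : ∀ s s', S.f₂ n s = 0 → S.f₂ n' s = 0 → S.f₂ n s' = 0 → S.f₂ n' s' = 0 →
      S.f₂ (T s) (T s') = ν * S.f₂ s s' := by
    intro s s' h1 h2 h3 h4
    have := hprod s s' h1 h2 h3 h4 x₁ x₀
    rw [hδ, hx] at this
    field_simp at this
    linear_combination this
  have hαδ : ∀ y, α y = ν • δ y := fun y => sub_eq_zero.1 (S.nd₁ _ fun x => by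
    obtain ⟨w, rfl⟩ : ∃ w, δ w = x := ⟨γ x, hδγ x⟩
    rw [map_sub, LinearMap.sub_apply, hαγ, hγδ, map_smul, LinearMap.smul_apply, smul_eq_mul, hδ,
      ← mul_assoc, mul_inv_cancel₀ hν, one_mul, sub_self])
  -- the Kronecker product
  let κ : (Fin b → F) →ₗ[F] (Fin b → F) :=
    T ∘ₗ L + ((-S.ε * ν) • S.f₂ n').smulRight n + (S.f₂ n).smulRight n'
  have hκ : ∀ w, κ w = T (L w) + (-S.ε * ν * S.f₂ n' w) • n + S.f₂ n w • n' := fun w => rfl
  have hκf : ∀ v w, S.f₂ (κ v) (κ w) = ν * S.f₂ v w := by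
    intro v w
    have e0 : ∀ v w, S.f₂ (L v) (L w) = S.f₂ v w + S.ε * S.f₂ n' v * S.f₂ n w +
        S.f₂ n' w * S.f₂ n v * -1 * 1 := by
      intro v w
      simp only [hLdef, proj_apply, map_add, map_sub, map_smul, LinearMap.add_apply,
        LinearMap.sub_apply, LinearMap.smul_apply, smul_eq_mul, P.nn, P.nn', P.n'n, P.n'n',
        S.flip₂ n v, S.flip₂ n' v]
      ring
    simp only [hκ, map_add, map_smul, LinearMap.add_apply, LinearMap.smul_apply, smul_eq_mul,
      hTn, hTn', S.f₂_zero_comm (hTn _), S.f₂_zero_comm (hTn' _), P.nn, P.nn', P.n'n, P.n'n',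
      ← hLdef]
    rw [hTf (L v) (L w) (hL v).1 (hL v).2 (hL w).1 (hL w).2, e0]
    linear_combination (ν * S.f₂ n v * S.f₂ n' w) * S.hε
  have hκi : Function.Injective κ := (injective_iff_map_eq_zero _).2 fun w hw => S.nd₂' fun v => by
    have := hκf v w
    rw [hw, map_zero] at this
    exact (mul_eq_zero.1 this.symm).resolve_left hν
  let κe := LinearEquiv.ofBijective κ ⟨hκi, LinearMap.injective_iff_surjective.1 hκi⟩
  let g₁ : GL (Fin a) F := mkGL δ γ hδγ hγδ
  have hk1 : ∀ x, κ (κe.symm.toLinearMap x) = x := κe.apply_symm_apply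
  have hk2 : ∀ x, κe.symm.toLinearMap (κ x) = x := κe.symm_apply_apply
  let g₂ : GL (Fin b) F := mkGL κ κe.symm.toLinearMap hk1 hk2
  have hτi : kr g₁ g₂ ∈ isom S.om := S.kr_mem_isom (μ := ν⁻¹) (ν := ν) (inv_mul_cancel₀ hν)
    (fun x y => by simp only [g₁, act_apply, mkGL_mulVec, hδ])
    (fun v w => by simp only [g₂, act_apply]; rw [mkGL_mulVec, mkGL_mulVec, hκf])
  set τ := kr g₁ g₂ with hτdef
  have hτ : ∀ v x, act τ (emb v x) = emb (κ v) (δ x) := fun v x => by
    rw [hτdef, act_kr, show act g₂ v = κ v from mkGL_mulVec _ _ _ _ _,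
      show act g₁ x = δ x from mkGL_mulVec _ _ _ _ _]
  have hκn : κ n = ν • n := by
    rw [hκ, hLn, map_zero, P.nn, P.n'n]
    match_scalars
    · linear_combination ν * S.hε
    all_goals ring
  have hτn : ∀ x, act τ (emb n x) = emb n (α x) := fun x => by
    rw [hτ, hκn, emb_smul_left, hαδ, map_smul]
  set h' := τ⁻¹ * h with hh'
  have hh'H : h' ∈ H := mul_mem (inv_mem (O.kr_mem _ _ hτi)) hh
  have hh'n : ∀ x, act h' (emb n x) = emb n x := fun x => by
    rw [hh', act_mul, hα, ← hτn, act_inv_act]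
  have hD : ∀ z, S.pi n z = 0 → ∃ y, act h z - act τ z = emb n y := by
    intro z hz
    have hjs : ∀ j, ∃ y, act h (emb (L (Pi.single j 1)) (col j z)) -
        act τ (emb (L (Pi.single j 1)) (col j z)) = emb n y := fun j => by
      obtain ⟨c, hc⟩ := himg' _ (hL (Pi.single j 1)).1 (hL (Pi.single j 1)).2 (col j z)
      refine ⟨c, ?_⟩
      rw [hLdef, hc, hτ, hκ, proj_eq (hL _).1 (hL _).2, (hL (Pi.single j 1)).1,
        (hL (Pi.single j 1)).2, mul_zero, zero_smul, zero_smul, add_zero, add_zero,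
        add_sub_cancel_left]
    choose y hy using hjs
    refine ⟨∑ j, y j, ?_⟩
    conv_lhs => rw [decomp (S := S) (n := n) (n' := n') z, hz, map_zero, add_zero]
    rw [map_add, map_add, map_sum, map_sum, hα, hτn, add_sub_add_right_eq_sub,
      ← Finset.sum_sub_distrib, ← hLdef, Finset.sum_congr rfl fun j _ => hy j, map_sum]
  have hh'Q : InQ S H n h' := by
    refine ⟨hh'H, hh'n, fun z hz => ?_⟩
    obtain ⟨y, hy⟩ := hD z hz
    obtain ⟨w, hw⟩ := hαs y
    refine ⟨w, act_injective τ ?_⟩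
    rw [map_sub, hh', act_mul, act_act_inv, hy, hτn, hw]
  -- remove the translation
  let lam' : (Fin b → F) →ₗ[F] F :=
    { toFun := fun d => S.f₁ x₁ (block S n' h' (L d) x₀)
      map_add' := fun d d' => by rw [map_add, block_add, map_add]
      map_smul' := fun c d => by rw [map_smul, block_smul, map_smul, RingHom.id_apply] }
  obtain ⟨r', hr'⟩ := S.exists_rep₂ lam'
  set t₀ := S.ε • r'
  have ht₀ : ∀ d, S.f₂ d t₀ = -lam' d := fun d => by
    rw [map_smul, smul_eq_mul, S.flip₂ r' d, hr', mul_neg, ← mul_assoc, S.hε, one_mul]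
  have hl0 : ∀ d, L d = 0 → lam' d = 0 := fun d hd => by
    show S.f₁ x₁ (block S n' h' (L d) x₀) = 0
    rw [hd, ← zero_smul F (0 : Fin b → F), block_smul, zero_smul, map_zero]
  have ht₀n : S.f₂ n t₀ = 0 := by rw [ht₀, hl0 n hLn, neg_zero]
  have ht₀n' : S.f₂ n' t₀ = 0 := by rw [ht₀, hl0 n' hLn', neg_zero]
  set h'' := kr 1 (eich S n t₀) * h' with hh''
  have hQ'' : InQ S H n h'' := (inQ_eich O P ht₀n).mul hh'Q
  have hblk : ∀ t, S.f₂ n t = 0 → S.f₂ n' t = 0 → ∀ x, S.pi t (nMap n' h'' x) = 0 := by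
    intro t ht ht' x
    show block S n' h'' t x = 0
    obtain ⟨l, hl⟩ := exists_scalar_of_eigen (block S n' h' t) (hS h' hh'Q t ht ht')
    have hlam : lam' t = l := by
      show S.f₁ x₁ (block S n' h' (L t) x₀) = l
      rw [hLdef, proj_eq ht ht', hl, map_smul, hx, smul_eq_mul, mul_one]
    rw [hh'', block_eich_mul O P hh'Q ht₀n ht₀n' ht, ht₀, hlam, hl, ← add_smul, neg_add_cancel,
      zero_smul]
  let ψ : (Fin a → F) →ₗ[F] (Fin a → F) := -S.ε • (S.pi n' ∘ₗ nMap n' h'')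
  have hN : ∀ x, nMap n' h'' x = emb n (ψ x) := fun x => S.eq_of_pi fun d => by
    rw [pi_decomp (n := n) (n' := n') d, hQ''.pi_nMap O, hblk _ (hL d).1 (hL d).2]
    simp only [ψ, LinearMap.smul_apply, LinearMap.comp_apply, S.pi_emb, smul_smul, smul_zero,
      sub_zero, zero_add]
    congr 1
    rw [S.flip₂ n d]
    linear_combination (-S.f₂ n d) * S.hε
  have hfix : ∀ z, S.pi n z = 0 → act h'' z = z := by
    intro z hz
    obtain ⟨y, hy, hy'⟩ := hQ''.exists_phi (n' := n') O P hz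
    have : y = 0 := S.nd₁ y fun x => by
      rw [hy', hN, S.om_emb_right, hz, map_zero, neg_zero, neg_zero]
    rw [hy, this, map_zero, add_zero]
  have hcen : ∀ z, act h'' z = z + emb n (ψ (S.pi n z)) := fun z => by
    conv_lhs => rw [← sub_add_cancel z (emb n' (S.pi n z)), map_add, hfix _ (P.pi_sub_self z)]
    rw [← hN, nMap_apply]
    abel
  obtain ⟨c, hc⟩ := hC h'' hQ''.1 ψ hcen
  let k : GL (Fin b) F := mkGL (LinearMap.id + (c • S.f₂ n).smulRight n)
    (LinearMap.id - (c • S.f₂ n).smulRight n) (fun x => by simp [P.nn])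
    (fun x => by simp [P.nn])
  have hk : h'' = kr 1 k := gl_ext_emb fun v x => by
    rw [hcen, act_kr, act_one, S.pi_emb, hc, smul_smul,
      show act k v = v + (c * S.f₂ n v) • n from (mkGL_mulVec _ _ _ _ _).trans (by simp),
      emb_add_left, emb_smul_left, map_smul]
  have e : h = kr g₁ g₂ * ((kr 1 (eich S n t₀))⁻¹ * kr 1 k) := by
    rw [← hk, hh'', inv_mul_cancel_left, hh', ← hτdef, mul_inv_cancel_left]
  rw [e]
  exact mul_mem (kr_mem _ _) (mul_mem (inv_mem (kr_mem _ _)) (kr_mem _ _))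

end Cfsg.Agent.TensorInv
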