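import Cfsg.Agent.TensorInv.Lines

/-!
Conjugates of reflections of the orthogonal factor inside a group over the tensor stabiliser
(helper19).
-/

set_option autoImplicit false
set_option linter.unusedSectionVars false
set_option linter.unusedSimpArgs false

namespace Cfsg.Agent.TensorInv

open Matrix Cfsg.Agent.MaxSub Cfsg.Agent.TensorMax Module

variable {F : Type*} [Field F] {a b m : ℕ}

theorem fam_nil (f : (Fin m → F) →ₗ[F] (Fin m → F) →ₗ[F] F) :
    Fam f (![] : Fin 0 → (Fin m → F)) := ⟨fun i => i.elim0, fun i => i.elim0⟩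

theorem fam_one {f : (Fin m → F) →ₗ[F] (Fin m → F) →ₗ[F] F} {u : Fin m → F} (hu : f u u ≠ 0) :
    Fam f ![u] := (fam_nil f).cons hu (fun i => i.elim0) (fun i => i.elim0)

theorem Sym.fam_two {f : (Fin m → F) →ₗ[F] (Fin m → F) →ₗ[F] F} (hf : Sym f) {u v : Fin m → F}
    (hu : f u u ≠ 0) (hv : f v v ≠ 0) (huv : f u v = 0) : Fam f ![u, v] :=
  (fam_one hv).cons hu (fun i => by fin_cases i; simpa [hf.symm u v] using huv)
    (fun i => by fin_cases i; simpa using huv)

theorem Sym.fam_three {f : (Fin m → F) →ₗ[F] (Fin m → F) →ₗ[F] F} (hf : Sym f) {u v w : Fin m → F}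
    (hu : f u u ≠ 0) (hv : f v v ≠ 0) (hw : f w w ≠ 0) (huv : f u v = 0) (huw : f u w = 0)
    (hvw : f v w = 0) : Fam f ![u, v, w] :=
  (hf.fam_two hv hw hvw).cons hu
    (fun i => by fin_cases i <;> simp [hf.symm u v, hf.symm u w, huv, huw])
    (fun i => by fin_cases i <;> simp [huv, huw])

/-- `1 ⊗` a reflection. -/
noncomputable abbrev xr (S : TForm F a b) (v : Fin b → F) : GL (Fin a × Fin b) F :=
  kr 1 (refl S.f₂ v)

/-- The conjugates of the reflections. -/
def IsX (S : TForm F a b) (H : Subgroup (GL (Fin a × Fin b) F)) (y : GL (Fin a × Fin b) F) : Prop :=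
  ∃ h ∈ H, ∃ v, S.f₂ v v ≠ 0 ∧ y = h * xr S v * h⁻¹

/-- `y` fixes the line of `w` pointwise. -/
def Fix (y : GL (Fin a × Fin b) F) (w : Fin b → F) : Prop := ∀ x, act y (emb w x) = emb w x

variable {S : TForm F a b} {H : Subgroup (GL (Fin a × Fin b) F)}

theorem Fix.add {y : GL (Fin a × Fin b) F} {v w : Fin b → F} (hv : Fix y v) (hw : Fix y w) :
    Fix y (v + w) := fun x => by rw [emb_add_left, map_add, hv, hw]

theorem Fix.smul {y : GL (Fin a × Fin b) F} {w : Fin b → F} (c : F) (hw : Fix y w) :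
    Fix y (c • w) := fun x => by rw [emb_smul_left, map_smul, hw]

theorem Fix.sub {y : GL (Fin a × Fin b) F} {v w : Fin b → F} (hv : Fix y v) (hw : Fix y w) :
    Fix y (v - w) := fun x => by rw [emb_sub_left, map_sub, hv, hw]

theorem xr_act (v : Fin b → F) (z : V F a b) :
    act (xr S v) z = z - (2 / S.f₂ v v) • emb v (S.pi v z) := by
  refine ext_emb (f := act (xr S v)) (g := LinearMap.id - (2 / S.f₂ v v) • (emb v ∘ₗ S.pi v))
    (fun w x => ?_) z
  simp only [LinearMap.sub_apply, LinearMap.id_apply, LinearMap.smul_apply, LinearMap.comp_apply,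
    act_kr, act_one, refl_apply, S.pi_emb, map_smul, emb_sub_left, emb_smul_left, smul_smul]
  rw [div_mul_eq_mul_div]

theorem xr_fix {v : Fin b → F} {z : V F a b} (hz : S.pi v z = 0) : act (xr S v) z = z := by
  rw [xr_act, hz, map_zero, smul_zero, sub_zero]

theorem xr_sq (v : Fin b → F) : xr S v * xr S v = 1 := by
  rw [kr_mul, one_mul, refl_refl, kr_one]

theorem xr_mem (O : Over S H) (hε : S.ε = -1) {v : Fin b → F} (hv : S.f₂ v v ≠ 0) :
    xr S v ∈ H := O.right (refl_form (S.symm₂ hε) hv)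

theorem isX_conj {h : GL (Fin a × Fin b) F} (hh : h ∈ H) {v : Fin b → F} (hv : S.f₂ v v ≠ 0) :
    IsX S H (h * xr S v * h⁻¹) := ⟨h, hh, v, hv, rfl⟩

theorem IsX.mem {y : GL (Fin a × Fin b) F} (hy : IsX S H y) (O : Over S H) (hε : S.ε = -1) :
    y ∈ H := by
  obtain ⟨h, hh, v, hv, rfl⟩ := hy
  exact mul_mem (mul_mem hh (xr_mem O hε hv)) (inv_mem hh)

theorem IsX.sq {y : GL (Fin a × Fin b) F} (hy : IsX S H y) : y * y = 1 := by
  obtain ⟨h, hh, v, hv, rfl⟩ := hy
  rw [show h * xr S v * h⁻¹ * (h * xr S v * h⁻¹) = h * (xr S v * xr S v) * h⁻¹ from by group,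
    xr_sq, mul_one, mul_inv_cancel]

theorem IsX.invo {y : GL (Fin a × Fin b) F} (hy : IsX S H y) (z : V F a b) :
    act y (act y z) = z := by rw [← act_mul, hy.sq, act_one]

theorem IsX.inv_eq {y : GL (Fin a × Fin b) F} (hy : IsX S H y) : y⁻¹ = y :=
  inv_eq_of_mul_eq_one_right hy.sq

theorem IsX.moved {y : GL (Fin a × Fin b) F} (hy : IsX S H y) :
    finrank F (LinearMap.range (act y - LinearMap.id)) ≤ a := by
  obtain ⟨h, hh, v, hv, rfl⟩ := hy
  refine le_trans (Submodule.finrank_mono (t := LinearMap.range (act h ∘ₗ emb v)) ?_)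
    ((LinearMap.finrank_range_le _).trans_eq (finrank_fin_fun F))
  rintro _ ⟨z, rfl⟩
  obtain ⟨z, rfl⟩ : ∃ w, act h w = z := ⟨_, act_act_inv h z⟩
  refine ⟨-(2 / S.f₂ v v) • S.pi v z, ?_⟩
  simp only [LinearMap.comp_apply, LinearMap.sub_apply, LinearMap.id_apply]
  rw [act_mul, act_mul, act_inv_act, xr_act]
  simp only [map_sub, map_smul, neg_smul, map_neg]
  module

/-- An isometry fixing a line preserves the corresponding contraction. -/
theorem pi_of_fix {y : GL (Fin a × Fin b) F} (hy : y ∈ isom S.om)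
    {w : Fin b → F} (hw : Fix y w) (z : V F a b) : S.pi w (act y z) = S.pi w z := by
  refine S.eq₁ fun x => ?_
  rw [← S.om_emb, ← S.om_emb]
  conv_lhs => rw [← hw x]
  rw [S.om_act hy]

/-- A commuting involution separates eigenvectors. -/
theorem pi_of_comm {y : GL (Fin a × Fin b) F} {K : GL (Fin b) F}
    (hK : ∀ v w, S.f₂ (act K v) (act K w) = S.f₂ v w)
    (hc : y * kr 1 K = kr 1 K * y) {v w : Fin b → F} {σ τ : F} (hw : act K w = σ • w)
    (hv : act K v = τ • v) (hτ : τ * τ = 1) (hne : σ ≠ τ) (x : Fin a → F) :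
    S.pi v (act y (emb w x)) = 0 := by
  set u := act y (emb w x)
  have e1 : act (kr (1 : GL (Fin a) F) K) u = σ • u := by
    rw [← act_mul, ← hc, act_mul, act_kr, act_one, hw, emb_smul_left, map_smul]
  have e2 : act K⁻¹ v = τ • v := act_injective K (by
    rw [act_act_inv, map_smul, hv, smul_smul, hτ, one_smul])
  have e3 := congrArg (S.pi v) e1
  rw [S.pi_kr _ hK, e2, act_one, S.pi_smul, map_smul] at e3
  have e4 : (τ - σ) • S.pi v u = 0 := by rw [sub_smul, e3, sub_self]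
  exact (smul_eq_zero.1 e4).resolve_left (sub_ne_zero.2 (Ne.symm hne))

theorem fix_conj {y : GL (Fin a × Fin b) F} (hy : IsX S H y) {v w : Fin b → F}
    (h : ∀ x, S.pi v (act y (emb w x)) = 0) : Fix (y * xr S v * y⁻¹) w := fun x => by
  rw [hy.inv_eq, act_mul, act_mul, xr_fix (h x), hy.invo]

section Main

variable [Finite F] (O : Over S H) (hε : S.ε = -1) (hR : ¬ Root S H) (ha : 1 ≤ a) (hab : a ≤ b + 1)
  (hb : 4 ≤ b)

include hε ha hab hb O in
/-- A conjugate in the tensor stabiliser gives a line. -/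
theorem exists_line {h : GL (Fin a × Fin b) F} (hh : h ∈ H) {v : Fin b → F} (hv : S.f₂ v v ≠ 0)
    (hm : h * xr S v * h⁻¹ ∈ Cfsg.Geo.kroneckerSubgroup a b F) :
    ∃ v', v' ≠ 0 ∧ LineTo h v v' := by
  have hφv : (-(2 / S.f₂ v v) • S.f₂ v) v = -2 := by
    simp only [LinearMap.smul_apply, smul_eq_mul]
    field_simp
  refine lineTo_of_conj (S := S) (φ := -(2 / S.f₂ v v) • S.f₂ v) (O.isom hh)
    (O.isom (xr_mem O hε hv)) ha (fun w => ?_) (fun h0 => by simp [h0] at hv) (fun h0 => ?_) ?_ hm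
  · rw [refl_apply]
    simp only [LinearMap.smul_apply, smul_eq_mul, neg_mul, neg_smul, div_mul_eq_mul_div,
      sub_eq_add_neg]
  · have := LinearMap.congr_fun h0 v
    rw [hφv, LinearMap.zero_apply, neg_eq_zero] at this
    exact S.two this
  rcases lt_trichotomy a b with h' | h' | h'
  · exact Or.inl h'
  swap
  · exact Or.inr (Or.inl ⟨by omega, by omega⟩)
  refine Or.inr (Or.inr ⟨h', by omega, fun e ψ he hiso x => ?_⟩)
  rw [hφv] at he
  suffices e = 0 by rw [this, smul_zero]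
  refine S.nd₁' fun y => ?_
  have h1 := hiso y e
  simp only [he, map_add, LinearMap.add_apply, map_smul, LinearMap.smul_apply, smul_eq_mul,
    S.alt₁ hε e] at h1
  exact (mul_eq_zero.1 (show (2 : F) * S.f₁ y e = 0 by linear_combination -h1)).resolve_left S.two

include hε ha hb O hR in
theorem kron_of_fix_singular {h : GL (Fin a × Fin b) F} (hh : h ∈ H) {n : Fin b → F} (hn : n ≠ 0)
    (hnn : S.f₂ n n = 0) (hfix : Fix h n) : h ∈ Cfsg.Geo.kroneckerSubgroup a b F :=
  kron_of_lineTo_singular O hε hR ha (by omega) hh hn hnn hnn hn fun x => ⟨x, hfix x⟩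

include hε ha hb O hR in
theorem kron_of_fix_three {h : GL (Fin a × Fin b) F} (hh : h ∈ H) {w₁ w₂ w₃ : Fin b → F}
    (h₁ : S.f₂ w₁ w₁ ≠ 0) (h₂ : S.f₂ w₂ w₂ ≠ 0) (h₃ : S.f₂ w₃ w₃ ≠ 0) (h₁₂ : S.f₂ w₁ w₂ = 0)
    (h₁₃ : S.f₂ w₁ w₃ = 0) (h₂₃ : S.f₂ w₂ w₃ = 0) (f₁ : Fix h w₁) (f₂ : Fix h w₂)
    (f₃ : Fix h w₃) : h ∈ Cfsg.Geo.kroneckerSubgroup a b F := by
  obtain ⟨p, q, hpq⟩ := (S.sym₂ hε).exists_singular_three h₁ h₂ h₁₂ h₁₃ h₂₃
  refine kron_of_fix_singular O hε hR ha hb hh (fun h0 => h₃ ?_) hpq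
    (((f₁.smul p).add (f₂.smul q)).add f₃)
  have := congrArg (S.f₂ w₃) h0
  simpa [S.symm₂ hε w₁ w₃, S.symm₂ hε w₂ w₃, h₁₃, h₂₃] using this

include hε ha hab hb O hR in
/-- Lines of a good triple force an element into the tensor stabiliser. -/
theorem kron_of_good {h : GL (Fin a × Fin b) F} (hh : h ∈ H) {u n : Fin b → F}
    (hu : S.f₂ u u ≠ 0) (hn : n ≠ 0) (hnn : S.f₂ n n = 0) (hun : S.f₂ u n = 0)
    (h1 : h * xr S u * h⁻¹ ∈ Cfsg.Geo.kroneckerSubgroup a b F)
    (h2 : h * xr S (u + n) * h⁻¹ ∈ Cfsg.Geo.kroneckerSubgroup a b F)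
    (h3 : h * xr S (n - u) * h⁻¹ ∈ Cfsg.Geo.kroneckerSubgroup a b F) :
    h ∈ Cfsg.Geo.kroneckerSubgroup a b F := by
  have hnu : S.f₂ n u = 0 := by rw [S.symm₂ hε, hun]
  obtain ⟨w1, hw1, l1⟩ := exists_line O hε ha hab hb hh hu h1
  obtain ⟨w2, hw2, l2⟩ := exists_line O hε ha hab hb hh (v := u + n)
    (by simpa [hnn, hun, hnu] using hu) h2
  obtain ⟨w3, hw3, l3⟩ := exists_line O hε ha hab hb hh (v := n - u)
    (by simpa [hnn, hun, hnu] using hu) h3
  obtain ⟨m, hm⟩ : ∃ m, LineTo h n m := by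
    choose y1 e1 using l1
    choose y2 e2 using l2
    choose y3 e3 using l3
    simp only [← act_apply] at e1 e2 e3
    have hs : ∀ x, emb w2 (y2 x) + emb w3 (y3 x) = (2 : F) • act h (emb n x) := fun x => by
      rw [← e2, ← e3, ← map_add, ← map_smul, emb_add_left, emb_sub_left]
      congr 1
      module
    have hd : ∀ x, emb w2 (y2 x) = emb w3 (y3 x) + (2 : F) • emb w1 (y1 x) := fun x => by
      rw [← e2, ← e3, ← e1, ← map_smul, ← map_add, emb_add_left, emb_sub_left]
      congr 1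
      module
    by_cases h23 : w3 ∈ Submodule.span F {w2}
    · obtain ⟨c, rfl⟩ := Submodule.mem_span_singleton.1 h23
      refine ⟨w2, fun x => ⟨(2 : F)⁻¹ • (y2 x + c • y3 x), ?_⟩⟩
      show act h (emb n x) = _
      rw [map_smul, map_add, ← emb_smul_comm, hs, smul_smul, inv_mul_cancel₀ S.two, one_smul]
    obtain ⟨φ, hφ, hφ'⟩ := Submodule.exists_dual_map_eq_bot_of_notMem h23 inferInstance
    have hφ2 : φ w2 = 0 := by
      have : φ w2 ∈ Submodule.map φ (Submodule.span F {w2}) :=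
        Submodule.mem_map_of_mem (Submodule.mem_span_singleton_self w2)
      rwa [hφ', Submodule.mem_bot] at this
    obtain ⟨d, hd'⟩ := S.exists_rep₂ φ
    have hy3 : ∀ x, y3 x = (-(2 * φ w1 / φ w3)) • y1 x := fun x => by
      have e := congrArg (S.pi d) (hd x)
      rw [map_add, map_smul, S.pi_emb, S.pi_emb, S.pi_emb, hd', hd', hd', hφ2, zero_smul,
        smul_smul] at e
      refine smul_right_injective _ hφ ?_
      show φ w3 • y3 x = φ w3 • _
      rw [smul_smul, show φ w3 * -(2 * φ w1 / φ w3) = -(2 * φ w1) from by field_simp, neg_smul]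
      linear_combination (norm := module) -e
    refine ⟨(-(2 * φ w1 / φ w3)) • w3 + w1, fun x => ⟨y1 x, ?_⟩⟩
    show act h (emb n x) = _
    refine smul_right_injective _ S.two ?_
    show (2 : F) • act h (emb n x) = (2 : F) • _
    rw [← hs, hd, hy3, emb_add_left, emb_smul_left, map_smul]
    module
  have hm0 : m ≠ 0 := fun h0 => by
    obtain ⟨y, hy⟩ := hm (fun _ => 1)
    have : emb (a := a) n (fun _ => 1) = 0 := act_injective h (by
      rw [map_zero, act_apply, hy, h0, emb_zero_left])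
    exact one_ne_zero (congrFun (emb_injective hn (this.trans (map_zero _).symm)) ⟨0, ha⟩)
  refine kron_of_lineTo_singular O hε hR ha (by omega) hh hn hnn ?_ hm0 hm
  obtain ⟨z, hz, -⟩ := exists_both S.nd₂ hm0 hm0
  set zm := (S.f₂ m z)⁻¹ • z
  have hzm : S.f₂ zm m = 1 := by
    rw [S.symm₂ hε, map_smul, smul_eq_mul, inv_mul_cancel₀ hz]
  let L : (Fin a → F) →ₗ[F] (Fin a → F) := S.pi zm ∘ₗ act h ∘ₗ emb n
  have hL : ∀ x, act h (emb n x) = emb m (L x) := fun x => by
    obtain ⟨y, hy⟩ := hm x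
    rw [← act_apply] at hy
    simp only [L, LinearMap.comp_apply]
    rw [hy, S.pi_emb, hzm, one_smul]
  have hLs : Function.Surjective L :=
    LinearMap.injective_iff_surjective.1 fun x y hxy => emb_injective hn (act_injective h (by
      rw [hL, hL, hxy]))
  by_contra hmm
  refine one_ne_zero (congrFun (S.nd₁ (fun _ => (1 : F)) fun y => ?_) ⟨0, ha⟩)
  obtain ⟨x, hx⟩ := hLs (fun _ => 1)
  obtain ⟨x', rfl⟩ := hLs y
  have e := S.om_act (O.isom hh) (emb n x) (emb n x')
  rw [hL, hL, S.om_emb_emb, S.om_emb_emb, hnn, mul_zero, hx] at e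
  exact (mul_eq_zero.1 e).resolve_right hmm

include hε ha hb O hR in
/-- A conjugate of a reflection negating an anisotropic line is in the tensor stabiliser. -/
theorem kron_of_neg {y : GL (Fin a × Fin b) F} (hy : IsX S H y) {t : Fin b → F}
    (ht : S.f₂ t t ≠ 0) (hneg : ∀ x, act y (emb t x) = -emb t x) :
    y ∈ Cfsg.Geo.kroneckerSubgroup a b F := by
  have hf := S.sym₂ hε
  have hyH := hy.mem O hε
  have ht0 : t ≠ 0 := fun h0 => by simp [h0] at ht
  have hle : LinearMap.range (emb (a := a) t) ≤ LinearMap.range (act y - LinearMap.id) := by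
    rintro _ ⟨x, rfl⟩
    refine ⟨-(2 : F)⁻¹ • emb t x, ?_⟩
    simp only [map_smul, LinearMap.sub_apply, LinearMap.id_apply, hneg]
    match_scalars
    field_simp [S.two]
    ring
  have heq := Submodule.eq_of_le_of_finrank_le hle (hy.moved.trans_eq (by
    rw [LinearMap.finrank_range_of_inj (emb_injective ht0), finrank_fin_fun]))
  obtain ⟨T, hT, htT⟩ := hf.exists_three_fam (fam_one ht) (by omega)
  obtain ⟨u, n, hu, hn, hnn, -, hperp⟩ := hf.exists_good_three hT
  have htn : S.f₂ t n = 0 := (hperp t fun j => by simpa using htT 0 j).2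
  refine kron_of_fix_singular O hε hR ha hb hyH hn hnn fun x => sub_eq_zero.1 ?_
  have hmem : act y (emb n x) - emb n x ∈ LinearMap.range (emb (a := a) t) := by
    rw [heq]; exact ⟨_, rfl⟩
  obtain ⟨Y, hY⟩ := hmem
  rw [← hY]
  suffices Y = 0 by rw [this, map_zero]
  refine S.nd₁' fun x' => ?_
  have e : S.om (emb t x') (act y (emb n x) - emb n x) = 0 := by
    rw [S.om_sub_right]
    have e0 : act y (-emb t x') = emb t x' := by rw [map_neg, hneg, neg_neg]
    have e1 := S.om_act (O.isom hyH) (-emb t x') (emb n x)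
    rw [e0] at e1
    rw [e1, ← neg_one_smul F (emb t x'), S.om_smul_left, S.om_emb_emb, htn, mul_zero, mul_zero,
      sub_self]
  rw [← hY, S.om_emb_emb] at e
  exact (mul_eq_zero.1 e).resolve_right ht

end Main

end Cfsg.Agent.TensorInv
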