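import Cfsg.Agent.TensorInv.Sym
import Cfsg.Agent.TensorInv.Swap

/-!
The blocks of an element fixing a singular line pointwise are scalar (helper19).
-/

set_option autoImplicit false
set_option linter.unusedSectionVars false
set_option linter.unusedSimpArgs false

namespace Cfsg.Agent.TensorInv

open Matrix Cfsg.Agent.MaxSub Cfsg.Agent.TensorMax Module

variable {F : Type*} [Field F] {a b : ℕ}

/-- All blocks are scalar. -/
def Scalar (S : TForm F a b) (H : Subgroup (GL (Fin a × Fin b) F)) (n n' : Fin b → F) : Prop :=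
  ∀ u, InQ S H n u → ∀ t, S.f₂ n t = 0 → S.f₂ n' t = 0 → ∀ x, ∃ l : F, block S n' u t x = l • x

theorem exists_scalar_of_eigen {m : ℕ} (B : (Fin m → F) →ₗ[F] (Fin m → F))
    (h : ∀ x, ∃ l : F, B x = l • x) : ∃ l : F, ∀ x, B x = l • x := by
  classical
  rcases Nat.eq_zero_or_pos m with rfl | hm
  · exact ⟨0, fun x => funext fun i => i.elim0⟩
  choose l hl using h
  set e : Fin m → F := Pi.single ⟨0, hm⟩ 1
  have he : e ≠ 0 := by simp [e]
  refine ⟨l e, fun x => ?_⟩
  by_cases hx : x ∈ Submodule.span F {e}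
  · obtain ⟨c, rfl⟩ := Submodule.mem_span_singleton.1 hx
    rw [map_smul, hl e, smul_comm]
  have h1 := hl (x + e)
  rw [map_add, hl x, hl e] at h1
  have h2 : (l (x + e) - l x) • x = (l e - l (x + e)) • e := by
    linear_combination (norm := module) -h1
  by_cases h3 : l (x + e) - l x = 0
  · rw [h3, zero_smul, eq_comm, smul_eq_zero] at h2
    rw [hl x, sub_eq_zero.1 (h2.resolve_right he), sub_eq_zero.1 h3]
  · refine absurd (Submodule.mem_span_singleton.2
      ⟨(l (x + e) - l x)⁻¹ * (l e - l (x + e)), ?_⟩) hx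
    rw [← smul_smul, ← h2, smul_smul, inv_mul_cancel₀ h3, one_smul]

variable {S : TForm F a b} {H : Subgroup (GL (Fin a × Fin b) F)} {n n' : Fin b → F}

/-- Scalar blocks, symplectic first factor. -/
theorem scalar_alt (O : Over S H) (hε : S.ε = -1) (P : Pair S n n') (hC : Cent S H n) :
    Scalar S H n n' := by
  intro u hu
  have hf := S.sym₂ hε
  have halt := S.alt₁ hε
  have hsk := S.skew₁ hε
  -- self-adjointness
  have hsa : ∀ t, S.f₂ n t = 0 → S.f₂ n' t = 0 → ∀ x y,
      S.f₁ x (block S n' u t y) = S.f₁ (block S n' u t x) y := by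
    intro t ht ht' x y
    obtain ⟨c, hc⟩ := block_adj O P hC hu ht ht'
    have e1 := hc x y
    have e2 := hc y x
    rw [hsk x y] at e2
    have hc0 : c * S.f₁ x y = 0 :=
      (mul_eq_zero.1 (show (2 : F) * (c * S.f₁ x y) = 0 by
        linear_combination e2 - e1)).resolve_left S.two
    rw [hc0] at e1
    rw [hsk y (block S n' u t x)]
    linear_combination e1
  -- every vector is an eigenvector
  have heig : ∀ s, S.f₂ n s = 0 → S.f₂ n' s = 0 → S.f₂ s s ≠ 0 → ∀ e,
      ∃ l : F, block S n' u s e = l • e := by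
    intro s hs hs' hss e
    set B := block S n' u s with hB
    rcases eq_or_ne e 0 with rfl | he
    · exact ⟨0, by simp⟩
    have heB : S.f₁ e (B e) = 0 :=
      (mul_eq_zero.1 (show (2 : F) * S.f₁ e (B e) = 0 by
        linear_combination hsa s hs hs' e e + hsk e (B e))).resolve_left S.two
    have hks : ∀ w, act (refl S.f₂ s) w = w + (-2 / S.f₂ s s * S.f₂ s w) • s := fun w => by
      rw [refl_apply]
      module
    have hkey : ∀ x, S.f₁ e (B x) * S.f₁ e (B x) - S.f₁ e x * S.f₁ (B e) (B x) = 0 := by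
      intro x
      obtain ⟨c, hc⟩ := block_pair O P hC hu (trans_form halt hsk e 1) (refl_form hf.symm hss)
        (div_ne_zero (neg_ne_zero.2 S.two) hss) hks hs hs'
      obtain ⟨c', hc'⟩ := block_pair O P hC hu (g := 1) (fun x y => by rw [act_one, act_one])
        (refl_form hf.symm hss) (div_ne_zero (neg_ne_zero.2 S.two) hss) hks hs hs'
      have e1 := hc x x
      have e2 := hc' x x
      simp only [trans_inv, trans_apply halt, inv_one, act_one, ← hB, map_add, map_smul,
        LinearMap.add_apply, LinearMap.smul_apply, smul_eq_mul, heB, halt, mul_zero, one_mul,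
        neg_mul, add_zero] at e1 e2
      refine (mul_eq_zero.1 (show (2 : F) * _ = 0 by linear_combination e1)).resolve_left S.two
    have h0 : ∀ x, S.f₁ e x = 0 → S.f₁ (B e) x = 0 := fun x hx => by
      have := hkey x
      rw [hx, zero_mul, sub_zero] at this
      rw [← hsa s hs hs' e x]
      exact mul_self_eq_zero.1 this
    obtain ⟨z, hz, -⟩ := exists_both S.nd₁ he he
    refine ⟨S.f₁ (B e) z / S.f₁ e z, sub_eq_zero.1 (S.nd₁ _ fun y => ?_)⟩
    have h1 := h0 (y - (S.f₁ e y / S.f₁ e z) • z) (by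
      rw [map_sub, map_smul, smul_eq_mul, div_mul_cancel₀ _ hz, sub_self])
    rw [map_sub, map_smul, smul_eq_mul] at h1
    rw [map_sub, map_smul, LinearMap.sub_apply, LinearMap.smul_apply, smul_eq_mul]
    linear_combination h1
  intro t ht ht' x
  by_cases htt : S.f₂ t t = 0
  swap
  · exact heig t ht ht' htt x
  by_cases hb : b ≤ 2
  · rcases eq_or_ne t 0 with rfl | ht0
    · refine ⟨0, ?_⟩
      rw [← zero_smul F (0 : Fin b → F), block_smul, zero_smul, zero_smul]
    exfalso
    have hli : LinearIndependent F ![n, n', t] := by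
      rw [Fintype.linearIndependent_iff]
      intro g hg
      simp only [Fin.sum_univ_three, Matrix.cons_val] at hg
      have e1 := congrArg (S.f₂ n) hg
      have e2 := congrArg (S.f₂ n') hg
      simp [P.nn, P.nn', ht] at e1
      simp [P.n'n', P.n'n, ht', hε] at e2
      rw [e1, e2, zero_smul, zero_smul, zero_add, zero_add, smul_eq_zero] at hg
      intro i
      fin_cases i
      · exact e2
      · exact e1
      · exact hg.resolve_right ht0
    have := hli.fintype_card_le_finrank
    rw [finrank_fin_fun, Fintype.card_fin] at this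
    omega
  obtain ⟨s, hs, hs', hss⟩ : ∃ s, S.f₂ n s = 0 ∧ S.f₂ n' s = 0 ∧ S.f₂ s s ≠ 0 := by
    have hn'n : S.f₂ n' n = 1 := by rw [P.n'n, hε, neg_neg]
    let Pr : (Fin b → F) →ₗ[F] (Fin b → F) :=
      LinearMap.id - (S.f₂ n').smulRight n - (S.f₂ n).smulRight n'
    have h1 : ∀ x, S.f₂ n (Pr x) = 0 := fun x => by simp [Pr, P.nn, P.nn']
    have h2 : ∀ x, S.f₂ n' (Pr x) = 0 := fun x => by simp [Pr, P.n'n', hn'n]
    obtain ⟨x₀, hx₀, hx⟩ := exists_perp S.f₂ ![n, n'] (by omega)
    have hfix : Pr x₀ = x₀ := by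
      have h0 := hx 0
      have h1 := hx 1
      simp at h0 h1
      simp [Pr, h0, h1]
    obtain ⟨x, hx'⟩ := hf.exists_aniso_image Pr (fun x y => by
      conv_rhs => arg 2; rw [show Pr y = y - S.f₂ n' y • n - S.f₂ n y • n' from rfl]
      rw [map_sub, map_sub, map_smul, map_smul, hf.symm n (Pr x), hf.symm n' (Pr x), h1, h2,
        smul_zero, smul_zero, sub_zero, sub_zero]) (x₀ := x₀) (by rwa [hfix])
    exact ⟨Pr x, h1 x, h2 x, hx'⟩
  obtain ⟨l₁, hl₁⟩ := heig s hs hs' hss x
  rcases hf.aniso_shift htt hss with h | h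
  · obtain ⟨l₂, hl₂⟩ := heig (t + s) (by simp [ht, hs]) (by simp [ht', hs']) h x
    exact ⟨l₂ - l₁, by rw [sub_smul, ← hl₂, ← hl₁, block_add]; abel⟩
  · obtain ⟨l₂, hl₂⟩ := heig (t - s) (by simp [ht, hs]) (by simp [ht', hs']) h x
    refine ⟨l₂ + l₁, ?_⟩
    rw [add_smul, ← hl₂, ← hl₁, ← block_add, sub_add_cancel]

/-- The product of two such elements. -/
theorem InQ.mul {u u' : GL (Fin a × Fin b) F} (hu : InQ S H n u) (hu' : InQ S H n u') :
    InQ S H n (u * u') := by
  refine ⟨mul_mem hu.1 hu'.1, fun x => by rw [act_mul, hu'.2.1, hu.2.1], fun z hz => ?_⟩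
  obtain ⟨y, hy⟩ := hu'.2.2 z hz
  obtain ⟨y', hy'⟩ := hu.2.2 z hz
  refine ⟨y + y', ?_⟩
  rw [act_mul, show act u' z = z + emb n y by rw [← hy]; abel, map_add, hu.2.1, map_add, ← hy']
  abel

theorem block_eich_mul (O : Over S H) (P : Pair S n n') {u : GL (Fin a × Fin b) F}
    (hu : InQ S H n u) {τ : Fin b → F} (hτ : S.f₂ n τ = 0) (hτ' : S.f₂ n' τ = 0) {t : Fin b → F}
    (ht : S.f₂ n t = 0) (x : Fin a → F) :
    block S n' (kr 1 (eich S n τ) * u) t x = S.f₂ t τ • x + block S n' u t x := by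
  have hz := hu.pi_nMap (n' := n') O x
  obtain ⟨y, hy⟩ := (inQ_eich O P hτ).2.2 _ hz
  have e : nMap n' (kr 1 (eich S n τ) * u) x =
      nMap n' (kr (1 : GL (Fin a) F) (eich S n τ)) x + nMap n' u x + emb n y := by
    rw [← hy, nMap_apply, nMap_apply, act_mul,
      show act u (emb n' x) = emb n' x + nMap n' u x by rw [nMap_apply]; abel, map_add]
    abel
  show S.pi t _ = _ + S.pi t _
  rw [e, nMap_eich P hτ hτ']
  simp only [map_add, map_sub, map_smul, TForm.pi_emb, S.f₂_zero_comm ht, zero_smul, smul_zero,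
    sub_zero, add_zero]

/-- Scalar blocks, orthogonal first factor. -/
theorem scalar_symm (O : Over S H) (hε : S.ε = 1) (ha : 3 ≤ a) (P : Pair S n n')
    (hC : Cent S H n) : Scalar S H n n' := by
  intro u hu
  have hf := S.sym₁ hε
  have halt₂ := S.alt₂ hε
  have h2 := S.two
  obtain ⟨v₀, hv₀⟩ := hf.exists_aniso (by omega)
  -- the translation
  let L : (Fin b → F) →ₗ[F] (Fin b → F) :=
    LinearMap.id + (S.f₂ n').smulRight n - (S.f₂ n).smulRight n'
  have hL : ∀ d, S.f₂ n (L d) = 0 ∧ S.f₂ n' (L d) = 0 := fun d => by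
    simp [L, P.nn, P.nn', P.n'n', P.n'n, hε]
  have hLt : ∀ t, S.f₂ n t = 0 → S.f₂ n' t = 0 → L t = t := fun t ht ht' => by simp [L, ht, ht']
  let χ : (Fin b → F) →ₗ[F] F :=
    { toFun := fun d => S.f₁ v₀ (block S n' u (L d) v₀) / S.f₁ v₀ v₀
      map_add' := fun d d' => by rw [map_add, block_add, map_add, add_div]
      map_smul' := fun c d => by
        rw [map_smul, block_smul, map_smul, smul_eq_mul, mul_div_assoc]
        rfl }
  obtain ⟨τ, hτ⟩ := S.exists_rep₂ χ
  have hLn : L n = 0 := by simp [L, P.nn, P.n'n, hε]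
  have hLn' : L n' = 0 := by simp [L, P.n'n', P.nn']
  have hχ0 : ∀ d, L d = 0 → χ d = 0 := fun d hd => by
    show S.f₁ v₀ (block S n' u (L d) v₀) / S.f₁ v₀ v₀ = 0
    rw [hd, ← zero_smul F (0 : Fin b → F), block_smul, zero_smul, map_zero, zero_div]
  have hτn : S.f₂ n τ = 0 := S.f₂_zero_comm ((hτ n).trans (hχ0 n hLn))
  have hτn' : S.f₂ n' τ = 0 := S.f₂_zero_comm ((hτ n').trans (hχ0 n' hLn'))
  have hu' : InQ S H n (kr 1 (eich S n τ) * u) := (inQ_eich O P hτn).mul hu
  set B : (Fin b → F) → (Fin a → F) →ₗ[F] (Fin a → F) :=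
    fun t => block S n' (kr 1 (eich S n τ) * u) t with hBdef
  have hskew : ∀ t, S.f₂ n t = 0 → S.f₂ n' t = 0 → ∀ x y,
      S.f₁ y (B t x) = -S.f₁ x (B t y) := by
    intro t ht ht' x y
    obtain ⟨c, hc⟩ := block_adj O P hC hu ht ht'
    have hc2 : c = 2 * χ t := by
      show c = 2 * (S.f₁ v₀ (block S n' u (L t) v₀) / S.f₁ v₀ v₀)
      rw [hLt t ht ht', mul_div_assoc']
      rw [eq_div_iff hv₀]
      linear_combination -hc v₀ v₀
    have e : S.f₂ t τ = -χ t := by rw [← hτ t, S.skew₂ hε τ t]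
    simp only [B, block_eich_mul O P hu hτn hτn' ht, map_add, map_smul, smul_eq_mul, e,
      hf.symm x y]
    linear_combination hc x y + S.f₁ x y * hc2
  -- skew blocks vanish
  have hzero : ∀ s, S.f₂ n s = 0 → S.f₂ n' s = 0 → ∀ x, B s x = 0 := by
    intro s hs hs'
    have hks : ∀ w, act (trans S.f₂ halt₂ s 1) w = w + (1 * S.f₂ s w) • s :=
      trans_apply halt₂ s 1
    obtain ⟨c, hc⟩ := block_pair O P hC hu' (g := 1) (fun x y => by rw [act_one, act_one])
      (trans_form halt₂ (S.skew₂ hε) s 1) one_ne_zero hks hs hs'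
    simp only [inv_one, act_one] at hc
    have hsk := hskew s hs hs'
    have hBB : ∀ x y, S.f₁ (B s x) (B s y) = c / 2 * S.f₁ x y := fun x y => by
      have := hc x y
      rw [hf.symm (B s x) (B s y)] at this
      rw [div_mul_eq_mul_div, eq_div_iff h2]
      linear_combination this
    have haniso : ∀ v, S.f₁ v v ≠ 0 → c / 2 * S.f₁ v v = 0 ∧ ∀ y, S.f₁ v (B s y) = 0 := by
      intro v hv
      obtain ⟨c', hc'⟩ := block_pair O P hC hu' (refl_form hf.symm hv)
        (trans_form halt₂ (S.skew₂ hε) s 1) one_ne_zero hks hs hs'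
      have hinv : (refl S.f₁ v)⁻¹ = refl S.f₁ v := inv_eq_of_mul_eq_one_right (refl_refl S.f₁ v)
      have hvBv : S.f₁ v (B s v) = 0 :=
        (mul_eq_zero.1 (show (2 : F) * S.f₁ v (B s v) = 0 by
          linear_combination hsk v v)).resolve_left h2
      set κ := 2 / S.f₁ v v with hκ
      have hid : ∀ x y, -κ * (c / 2 * S.f₁ v x * S.f₁ v y + S.f₁ v (B s x) * S.f₁ v (B s y)) =
          (c' / 2 - c / 2) * S.f₁ x y := by
        intro x y
        have e := hc' x y
        rw [hinv] at e
        simp only [refl_apply, map_sub, map_smul, LinearMap.sub_apply, LinearMap.smul_apply,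
          smul_eq_mul, ← hBdef] at e
        simp only [show ∀ t, block S n' (kr 1 (eich S n τ) * u) t = B t from fun t => rfl, hBB,
          hvBv] at e
        rw [hκ]
        rw [hf.symm x y] at e
        field_simp at e ⊢
        refine mul_left_cancel₀ (mul_ne_zero h2 hv) ?_
        linear_combination e
      obtain ⟨x, hx0, hx⟩ := exists_perp S.f₁ ![v, B s v] (by omega)
      have hx1 : S.f₁ v x = 0 := hx 0
      have hx2 : S.f₁ v (B s x) = 0 := by
        have : S.f₁ (B s v) x = 0 := hx 1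
        rw [hsk x v, hf.symm (B s v) x, this, neg_zero]
      have hδ : c' / 2 - c / 2 = 0 := by
        by_contra hne
        refine hx0 (S.nd₁ x fun y => ?_)
        have := hid x y
        rw [hx1, hx2, mul_zero, zero_mul, zero_mul, add_zero, mul_zero, eq_comm] at this
        exact (mul_eq_zero.1 this).resolve_left hne
      have hκ0 : κ ≠ 0 := div_ne_zero h2 hv
      have hsum : ∀ x, c / 2 * S.f₁ v x * S.f₁ v x + S.f₁ v (B s x) * S.f₁ v (B s x) = 0 :=
        fun x => by
          have := hid x x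
          rw [hδ, zero_mul] at this
          exact (mul_eq_zero.1 this).resolve_left (neg_ne_zero.2 hκ0)
      have hμ : c / 2 * S.f₁ v v = 0 := by
        have := hsum v
        rw [hvBv, mul_zero, add_zero] at this
        exact (mul_eq_zero.1 this).resolve_right hv
      refine ⟨hμ, fun y => mul_self_eq_zero.1 ?_⟩
      have := hsum y
      rw [(mul_eq_zero.1 hμ).resolve_right hv, zero_mul, zero_mul, zero_add] at this
      exact this
    intro x
    refine S.nd₁' fun y => ?_
    have := hf.eq_zero_of_aniso (by omega) (S.f₁.flip (B s x))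
      (fun v hv => (haniso v hv).2 x) y
    exact this
  intro t ht ht' x
  refine ⟨-S.f₂ t τ, ?_⟩
  have := hzero t ht ht' x
  simp only [B, block_eich_mul O P hu hτn hτn' ht] at this
  rw [neg_smul, ← neg_eq_of_add_eq_zero_right this]

end Cfsg.Agent.TensorInv
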