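import Cfsg.Agent.TensorMax.Lines
import Cfsg.Agent.MaxSub.Alt

/-!
An alternating form on `F^a ⊗ F^b` that is the product of a symmetric and an alternating form
(in either order), its contractions and its isometries (helper19).
-/

set_option autoImplicit false
set_option linter.unusedSectionVars false
set_option linter.unusedSimpArgs false

namespace Cfsg.Agent.TensorInv

open Matrix Cfsg.Agent.MaxSub Cfsg.Agent.TensorMax Module

variable {F : Type*} [Field F] {a b n : ℕ}

/-- Vectors of the tensor product. -/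
abbrev V (F : Type*) (a b : ℕ) := Fin a × Fin b → F

/-- The invertible matrix of a linear map with a given inverse. -/
noncomputable def mkGL {ι : Type} [Fintype ι] [DecidableEq ι] (f g : (ι → F) →ₗ[F] (ι → F))
    (hfg : ∀ x, f (g x) = x) (hgf : ∀ x, g (f x) = x) : GL ι F :=
  ⟨LinearMap.toMatrix' f, LinearMap.toMatrix' g,
    by rw [← LinearMap.toMatrix'_comp, show f ∘ₗ g = LinearMap.id from LinearMap.ext hfg,
      LinearMap.toMatrix'_id],
    by rw [← LinearMap.toMatrix'_comp, show g ∘ₗ f = LinearMap.id from LinearMap.ext hgf,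
      LinearMap.toMatrix'_id]⟩

theorem mkGL_mulVec {ι : Type} [Fintype ι] [DecidableEq ι] (f g : (ι → F) →ₗ[F] (ι → F))
    (hfg : ∀ x, f (g x) = x) (hgf : ∀ x, g (f x) = x) (x : ι → F) :
    (mkGL f g hfg hgf : Matrix ι ι F) *ᵥ x = f x := LinearMap.toMatrix'_mulVec f x

/-- An invertible matrix as an automorphism. -/
abbrev act {ι : Type} [Fintype ι] [DecidableEq ι] (g : GL ι F) : (ι → F) →ₗ[F] (ι → F) :=
  (g : Matrix ι ι F).mulVecLin

theorem act_apply {ι : Type} [Fintype ι] [DecidableEq ι] (g : GL ι F) (x : ι → F) :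
    act g x = (g : Matrix ι ι F) *ᵥ x := rfl

theorem act_mul {ι : Type} [Fintype ι] [DecidableEq ι] (g h : GL ι F) (x : ι → F) :
    act (g * h) x = act g (act h x) := by
  simp only [act_apply, Units.val_mul, mulVec_mulVec]

theorem act_one {ι : Type} [Fintype ι] [DecidableEq ι] (x : ι → F) : act (1 : GL ι F) x = x :=
  one_mulVec x

theorem act_inv_act {ι : Type} [Fintype ι] [DecidableEq ι] (g : GL ι F) (x : ι → F) :
    act g⁻¹ (act g x) = x := inv_mulVec_mulVec g x

theorem act_act_inv {ι : Type} [Fintype ι] [DecidableEq ι] (g : GL ι F) (x : ι → F) :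
    act g (act g⁻¹ x) = x := mulVec_inv_mulVec g x

theorem act_injective {ι : Type} [Fintype ι] [DecidableEq ι] (g : GL ι F) :
    Function.Injective (act g) := mulVec_injective g

theorem act_kr (g : GL (Fin a) F) (h : GL (Fin b) F) (v : Fin b → F) (x : Fin a → F) :
    act (kr g h) (emb v x) = emb (act h v) (act g x) := kr_emb g h v x

theorem kr_mul (g g' : GL (Fin a) F) (h h' : GL (Fin b) F) :
    kr g h * kr g' h' = kr (g * g') (h * h') := Units.ext (by
  simp only [Units.val_mul, kr_coe, Matrix.mul_kronecker_mul])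

theorem kr_one : kr (1 : GL (Fin a) F) (1 : GL (Fin b) F) = 1 := Units.ext (by
  simp only [kr_coe, Units.val_one, Matrix.one_kronecker_one])

/-- The column of an element of the tensor product. -/
def col (j : Fin b) : V F a b →ₗ[F] (Fin a → F) where
  toFun z i := z (i, j)
  map_add' _ _ := rfl
  map_smul' _ _ := rfl

theorem eq_sum_emb (z : V F a b) : z = ∑ j, emb (Pi.single j 1) (col j z) := by
  funext p
  simp [emb, col, Pi.single_apply, Finset.sum_apply]

/-- The map `v ↦ x ⊗ v`. -/
def embR (x : Fin a → F) : (Fin b → F) →ₗ[F] V F a b where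
  toFun v := emb v x
  map_add' v w := funext fun p => mul_add _ _ _
  map_smul' c v := funext fun p => by simp [emb]; ring

theorem emb_add_left (v w : Fin b → F) (x : Fin a → F) :
    emb (v + w) x = emb v x + emb w x := (embR x).map_add v w

theorem emb_smul_left (c : F) (v : Fin b → F) (x : Fin a → F) :
    emb (c • v) x = c • emb v x := (embR x).map_smul c v

theorem emb_smul_comm (c : F) (v : Fin b → F) (x : Fin a → F) :
    emb (c • v) x = emb v (c • x) := by rw [emb_smul_left, map_smul]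

theorem emb_zero_left (x : Fin a → F) : emb (0 : Fin b → F) x = 0 := (embR x).map_zero

theorem emb_neg_left (v : Fin b → F) (x : Fin a → F) : emb (-v) x = -emb v x := (embR x).map_neg v

theorem emb_sub_left (v w : Fin b → F) (x : Fin a → F) :
    emb (v - w) x = emb v x - emb w x := (embR x).map_sub v w

theorem ext_emb {f g : V F a b →ₗ[F] V F a b} (h : ∀ v x, f (emb v x) = g (emb v x)) (z : V F a b) :
    f z = g z := by
  rw [eq_sum_emb z, map_sum, map_sum]
  exact Finset.sum_congr rfl fun j _ => h _ _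

theorem gl_ext_emb {g h : GL (Fin a × Fin b) F} (H : ∀ v x, act g (emb v x) = act h (emb v x)) :
    g = h := gl_ext fun z => ext_emb (f := act g) (g := act h) H z

/-- A product of a symmetric and an alternating non-degenerate form. -/
structure TForm (F : Type*) [Field F] (a b : ℕ) where
  f₁ : (Fin a → F) →ₗ[F] (Fin a → F) →ₗ[F] F
  f₂ : (Fin b → F) →ₗ[F] (Fin b → F) →ₗ[F] F
  ε : F
  hε : ε * ε = 1
  flip₁ : ∀ x y, f₁ y x = ε * f₁ x y
  flip₂ : ∀ v w, f₂ w v = -(ε * f₂ v w)
  nd₁ : ∀ x, (∀ y, f₁ x y = 0) → x = 0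
  nd₂ : ∀ v, (∀ w, f₂ v w = 0) → v = 0
  two : (2 : F) ≠ 0

namespace TForm

variable (S : TForm F a b)

theorem nd₁' {x : Fin a → F} (h : ∀ y, S.f₁ y x = 0) : x = 0 :=
  S.nd₁ x fun y => by rw [S.flip₁, h, mul_zero]

theorem nd₂' {v : Fin b → F} (h : ∀ w, S.f₂ w v = 0) : v = 0 :=
  S.nd₂ v fun w => by rw [S.flip₂, h, mul_zero, neg_zero]

theorem eq₁ {x x' : Fin a → F} (h : ∀ y, S.f₁ y x = S.f₁ y x') : x = x' :=
  sub_eq_zero.1 (S.nd₁' fun y => by rw [map_sub, h, sub_self])

theorem eq₂ {v v' : Fin b → F} (h : ∀ w, S.f₂ w v = S.f₂ w v') : v = v' :=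
  sub_eq_zero.1 (S.nd₂' fun w => by rw [map_sub, h, sub_self])

theorem f₂_zero_comm {v w : Fin b → F} (h : S.f₂ v w = 0) : S.f₂ w v = 0 := by
  rw [S.flip₂, h, mul_zero, neg_zero]

theorem f₁_zero_comm {v w : Fin a → F} (h : S.f₁ v w = 0) : S.f₁ w v = 0 := by
  rw [S.flip₁, h, mul_zero]

theorem exists_rep₁ (ξ : (Fin a → F) →ₗ[F] F) : ∃ d, ∀ x, S.f₁ d x = ξ x := by
  have hinj : Function.Injective S.f₁ := (injective_iff_map_eq_zero _).2 fun u hu =>
    S.nd₁ u fun x => LinearMap.congr_fun hu x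
  obtain ⟨d, hd⟩ := (LinearMap.injective_iff_surjective_of_finrank_eq_finrank
    (by rw [Subspace.dual_finrank_eq])).mp hinj ξ
  exact ⟨d, fun x => LinearMap.congr_fun hd x⟩

theorem exists_rep₂ (ξ : (Fin b → F) →ₗ[F] F) : ∃ d, ∀ x, S.f₂ d x = ξ x := by
  have hinj : Function.Injective S.f₂ := (injective_iff_map_eq_zero _).2 fun u hu =>
    S.nd₂ u fun x => LinearMap.congr_fun hu x
  obtain ⟨d, hd⟩ := (LinearMap.injective_iff_surjective_of_finrank_eq_finrank
    (by rw [Subspace.dual_finrank_eq])).mp hinj ξ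
  exact ⟨d, fun x => LinearMap.congr_fun hd x⟩

/-- The coordinates of `f₂(v, ·)`. -/
def dual (v : Fin b → F) : Fin b → F := fun j => S.f₂ v (Pi.single j 1)

theorem dual_dot (v w : Fin b → F) : S.dual v ⬝ᵥ w = S.f₂ v w := by
  conv_rhs => rw [pi_eq_sum_univ' w]
  simp only [map_sum, map_smul, smul_eq_mul, dual, dotProduct]
  exact Finset.sum_congr rfl fun j _ => mul_comm _ _

/-- The contraction `id ⊗ f₂(v, ·)`. -/
def pi (v : Fin b → F) : V F a b →ₗ[F] (Fin a → F) := ctr (S.dual v)

theorem pi_emb (v w : Fin b → F) (x : Fin a → F) : S.pi v (emb w x) = S.f₂ v w • x := by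
  rw [pi, ctr_emb, S.dual_dot]

theorem pi_add (v w : Fin b → F) (z : V F a b) : S.pi (v + w) z = S.pi v z + S.pi w z := by
  rw [eq_sum_emb z]
  simp [map_sum, pi_emb, add_smul, Finset.sum_add_distrib]

theorem pi_smul (c : F) (v : Fin b → F) (z : V F a b) : S.pi (c • v) z = c • S.pi v z := by
  rw [eq_sum_emb z]
  simp [map_sum, pi_emb, Finset.smul_sum, smul_smul]

theorem pi_sub (v w : Fin b → F) (z : V F a b) : S.pi (v - w) z = S.pi v z - S.pi w z := by
  rw [sub_eq_add_neg, pi_add, ← neg_one_smul F w, pi_smul, neg_one_smul, sub_eq_add_neg]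

/-- The product form. -/
def om (z z' : V F a b) : F :=
  ∑ j, S.f₁ (col j z) (S.pi (Pi.single j 1) z')

theorem om_bilinear : Geo.IsBilinearForm S.om where
  add_left x y v := by simp [om, Finset.sum_add_distrib]
  smul_left c x v := by simp [om, Finset.mul_sum]
  add_right v x y := by simp [om, Finset.sum_add_distrib]
  smul_right c v x := by simp [om, Finset.mul_sum]

theorem om_add_left (x y v : V F a b) : S.om (x + y) v = S.om x v + S.om y v :=
  S.om_bilinear.add_left x y v

theorem om_add_right (v x y : V F a b) : S.om v (x + y) = S.om v x + S.om v y :=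
  S.om_bilinear.add_right v x y

theorem om_smul_left (c : F) (x v : V F a b) : S.om (c • x) v = c * S.om x v :=
  S.om_bilinear.smul_left c x v

theorem om_smul_right (c : F) (v x : V F a b) : S.om v (c • x) = c * S.om v x :=
  S.om_bilinear.smul_right c v x

theorem om_zero_left (v : V F a b) : S.om 0 v = 0 := form_zero_left S.om_bilinear v

theorem om_zero_right (v : V F a b) : S.om v 0 = 0 := form_zero_right S.om_bilinear v

theorem om_sub_left (x y v : V F a b) : S.om (x - y) v = S.om x v - S.om y v :=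
  form_sub_left S.om_bilinear x y v

theorem om_sub_right (v x y : V F a b) : S.om v (x - y) = S.om v x - S.om v y :=
  form_sub_right S.om_bilinear v x y

theorem om_neg_right (v x : V F a b) : S.om v (-x) = -S.om v x :=
  form_neg_right S.om_bilinear v x

theorem om_sum_left {ι : Type*} (s : Finset ι) (g : ι → V F a b) (v : V F a b) :
    S.om (∑ j ∈ s, g j) v = ∑ j ∈ s, S.om (g j) v :=
  map_sum (lmap S.om_bilinear v) g s

theorem om_emb (v : Fin b → F) (x : Fin a → F) (z : V F a b) :
    S.om (emb v x) z = S.f₁ x (S.pi v z) := by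
  conv_rhs => rw [pi_eq_sum_univ' v]
  simp only [om]
  have h1 : ∀ (k : Fin b → F) (c : Fin b → Fin b → F) (s : Finset (Fin b)),
      S.pi (∑ j ∈ s, k j • c j) z = ∑ j ∈ s, k j • S.pi (c j) z := by
    intro k c s
    classical
    induction s using Finset.induction_on with
    | empty => simpa using S.pi_smul 0 0 z
    | insert i s hi ih => rw [Finset.sum_insert hi, Finset.sum_insert hi, pi_add, pi_smul, ih]
  rw [h1 v (fun j => Pi.single j 1) Finset.univ, map_sum]
  refine Finset.sum_congr rfl fun j _ => ?_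
  rw [show col j (emb v x) = v j • x from funext fun i => mul_comm _ _, map_smul,
    LinearMap.smul_apply, map_smul]

theorem om_emb_emb (v w : Fin b → F) (x y : Fin a → F) :
    S.om (emb v x) (emb w y) = S.f₁ x y * S.f₂ v w := by
  rw [om_emb, pi_emb, map_smul, smul_eq_mul, mul_comm]

theorem om_skew (z z' : V F a b) : S.om z z' = -S.om z' z := by
  have h : ∀ v x w y, S.om (emb v x) (emb w y) = -S.om (emb w y) (emb v x) := fun v x w y => by
    rw [om_emb_emb, om_emb_emb, S.flip₁ x y, S.flip₂ v w]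
    linear_combination -(S.f₁ x y * S.f₂ v w) * S.hε
  have hl : ∀ v x z', S.om (emb v x) z' = -S.om z' (emb v x) := fun v x z' => by
    rw [eq_sum_emb z', om_sum_left, ← rmap_apply S.om_bilinear, map_sum, ← Finset.sum_neg_distrib]
    exact Finset.sum_congr rfl fun j _ => h _ _ _ _
  rw [eq_sum_emb z, om_sum_left, ← rmap_apply S.om_bilinear, map_sum, ← Finset.sum_neg_distrib]
  exact Finset.sum_congr rfl fun j _ => hl _ _ _

theorem om_alt (z : V F a b) : S.om z z = 0 :=
  (mul_eq_zero.1 (show (2 : F) * S.om z z = 0 by linear_combination S.om_skew z z)).resolve_left S.two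

theorem om_emb_right (v : Fin b → F) (x : Fin a → F) (z : V F a b) :
    S.om z (emb v x) = -S.f₁ x (S.pi v z) := by rw [S.om_skew, S.om_emb]

theorem eq_of_pi {z z' : V F a b} (h : ∀ d, S.pi d z = S.pi d z') : z = z' := by
  funext p
  have hcol : ∀ (ξ : (Fin a → F) →ₗ[F] F), (fun j => ξ (col j z)) = (fun j => ξ (col j z')) := by
    intro ξ
    obtain ⟨x, hx⟩ := S.exists_rep₁ ξ
    refine S.eq₂ fun d => ?_
    have e : ∀ z : V F a b, S.f₂ d (fun j => ξ (col j z)) = ξ (S.pi d z) := fun z => by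
      conv_lhs => rw [pi_eq_sum_univ' (fun j => ξ (col j z))]
      conv_rhs => rw [eq_sum_emb z]
      simp [map_sum, pi_emb, mul_comm]
    rw [e, e, h]
  exact congrFun (hcol (LinearMap.proj p.1)) p.2

theorem om_nd : Geo.IsNondegenerateForm S.om := by
  have h0 : ∀ z, (∀ x, S.om z x = 0) → z = 0 := fun z hz => S.eq_of_pi fun d => by
    rw [map_zero]
    refine S.nd₁' fun x => ?_
    have := hz (emb d x)
    rwa [S.om_emb_right, neg_eq_zero] at this
  intro z hz
  by_contra hc
  obtain ⟨x, hx⟩ : ∃ x, S.om z x ≠ 0 := by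
    by_contra hn
    push Not at hn
    exact hz (h0 z hn)
  exact hc ⟨⟨x, by rwa [S.om_skew, neg_ne_zero]⟩, ⟨x, hx⟩⟩

theorem om_symplectic : Geo.IsSymplecticForm S.om :=
  ⟨S.om_bilinear, S.om_skew, S.om_alt, S.om_nd⟩

theorem eq_of_om {z z' : V F a b} (h : ∀ x, S.om x z = S.om x z') : z = z' := by
  refine S.eq_of_pi fun d => S.eq₁ fun x => ?_
  have := h (emb d x)
  rwa [om_emb, om_emb] at this

theorem mem_isom_of_emb {g : GL (Fin a × Fin b) F}
    (h : ∀ v x w y, S.om (act g (emb v x)) (act g (emb w y)) = S.f₁ x y * S.f₂ v w) :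
    g ∈ isom S.om := by
  rw [mem_isom]
  intro z z'
  show S.om (act g z) (act g z') = _
  have hl : ∀ v x z', S.om (act g (emb v x)) (act g z') = S.om (emb v x) z' := fun v x z' => by
    conv_lhs => rw [eq_sum_emb z']
    conv_rhs => rw [eq_sum_emb z']
    rw [map_sum, ← rmap_apply S.om_bilinear, ← rmap_apply S.om_bilinear, map_sum, map_sum]
    exact Finset.sum_congr rfl fun j _ => by
      simp only [rmap_apply]
      rw [h, om_emb_emb]
  conv_lhs => rw [eq_sum_emb z]
  conv_rhs => rw [eq_sum_emb z]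
  rw [map_sum, om_sum_left, om_sum_left]
  exact Finset.sum_congr rfl fun j _ => hl _ _ _

theorem kr_mem_isom {g : GL (Fin a) F} {k : GL (Fin b) F} {μ ν : F} (hμν : μ * ν = 1)
    (hg : ∀ x y, S.f₁ (act g x) (act g y) = μ * S.f₁ x y)
    (hk : ∀ v w, S.f₂ (act k v) (act k w) = ν * S.f₂ v w) : kr g k ∈ isom S.om :=
  S.mem_isom_of_emb fun v x w y => by
    rw [act_kr, act_kr, om_emb_emb, hg, hk]
    linear_combination (S.f₁ x y * S.f₂ v w) * hμν

theorem om_act {h : GL (Fin a × Fin b) F} (hh : h ∈ isom S.om) (z z' : V F a b) :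
    S.om (act h z) (act h z') = S.om z z' := mem_isom.1 hh z z'

theorem om_act_left {h : GL (Fin a × Fin b) F} (hh : h ∈ isom S.om) (z z' : V F a b) :
    S.om (act h z) z' = S.om z (act h⁻¹ z') := by
  conv_lhs => rw [← act_act_inv h z']
  rw [S.om_act hh]

end TForm

/-- A group of isometries containing the isometries that are Kronecker products. -/
structure Over (S : TForm F a b) (H : Subgroup (GL (Fin a × Fin b) F)) : Prop where
  isom : H ≤ MaxSub.isom S.om
  kr_mem : ∀ g k, kr g k ∈ MaxSub.isom S.om → kr g k ∈ H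

namespace Over

variable {S : TForm F a b} {H : Subgroup (GL (Fin a × Fin b) F)}

theorem left (O : Over S H) {g : GL (Fin a) F} (hg : ∀ x y, S.f₁ (act g x) (act g y) = S.f₁ x y) :
    kr g (1 : GL (Fin b) F) ∈ H :=
  O.kr_mem _ _ (S.kr_mem_isom (μ := 1) (ν := 1) (one_mul 1) (fun x y => by rw [hg, one_mul])
    (fun v w => by rw [act_one, act_one, one_mul]))

theorem right (O : Over S H) {k : GL (Fin b) F} (hk : ∀ v w, S.f₂ (act k v) (act k w) = S.f₂ v w) :
    kr (1 : GL (Fin a) F) k ∈ H :=
  O.kr_mem _ _ (S.kr_mem_isom (μ := 1) (ν := 1) (one_mul 1)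
    (fun x y => by rw [act_one, act_one, one_mul]) (fun v w => by rw [hk, one_mul]))

end Over

/-- The reflection map. -/
noncomputable def reflMap (f : (Fin n → F) →ₗ[F] (Fin n → F) →ₗ[F] F) (v : Fin n → F) :
    (Fin n → F) →ₗ[F] (Fin n → F) :=
  LinearMap.id - ((2 / f v v) • (f v)).smulRight v

theorem reflMap_reflMap (f : (Fin n → F) →ₗ[F] (Fin n → F) →ₗ[F] F) (v x : Fin n → F) :
    reflMap f v (reflMap f v x) = x := by
  rcases eq_or_ne (f v v) 0 with hv | hv
  · simp [reflMap, hv]
  simp only [reflMap, LinearMap.sub_apply, LinearMap.id_apply, LinearMap.smulRight_apply,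
    LinearMap.smul_apply, map_sub, map_smul, smul_eq_mul, sub_smul, smul_smul]
  have e : 2 / f v v * f v v = 2 := div_mul_cancel₀ _ hv
  match_scalars <;> grind

/-- The reflection `w ↦ w - 2 f(v, w) / f(v, v) v`. -/
noncomputable def refl (f : (Fin n → F) →ₗ[F] (Fin n → F) →ₗ[F] F) (v : Fin n → F) : GL (Fin n) F :=
  mkGL (reflMap f v) (reflMap f v) (reflMap_reflMap f v) (reflMap_reflMap f v)

theorem refl_apply (f : (Fin n → F) →ₗ[F] (Fin n → F) →ₗ[F] F) (v x : Fin n → F) :
    act (refl f v) x = x - (2 * f v x / f v v) • v := by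
  rw [refl, act_apply, mkGL_mulVec]
  simp [reflMap, div_mul_eq_mul_div]

theorem refl_form {f : (Fin n → F) →ₗ[F] (Fin n → F) →ₗ[F] F} (hf : ∀ x y, f y x = f x y)
    {v : Fin n → F} (hv : f v v ≠ 0) (x y : Fin n → F) :
    f (act (refl f v) x) (act (refl f v) y) = f x y := by
  rw [refl_apply, refl_apply]
  simp only [map_sub, LinearMap.sub_apply, map_smul, LinearMap.smul_apply, smul_eq_mul, hf v x]
  field_simp
  ring

theorem refl_refl (f : (Fin n → F) →ₗ[F] (Fin n → F) →ₗ[F] F) (v : Fin n → F) :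
    refl f v * refl f v = 1 :=
  gl_ext fun x => by
    show act (refl f v * refl f v) x = act (1 : GL (Fin n) F) x
    rw [act_mul, act_one]
    simp only [refl, act_apply, mkGL_mulVec, reflMap_reflMap]

end Cfsg.Agent.TensorInv
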