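import Cfsg.Agent.TensorInv.Blocks

/-!
Symmetric forms over finite fields of odd order: anisotropic and singular vectors (helper19).
-/

set_option autoImplicit false
set_option linter.unusedSectionVars false
set_option linter.unusedSimpArgs false

namespace Cfsg.Agent.TensorInv

open Matrix Cfsg.Agent.MaxSub Cfsg.Agent.TensorMax Module

variable {F : Type*} [Field F] {m : ℕ}

/-- A non-degenerate symmetric form in odd characteristic. -/
structure Sym (f : (Fin m → F) →ₗ[F] (Fin m → F) →ₗ[F] F) : Prop where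
  symm : ∀ x y, f y x = f x y
  nd : ∀ x, (∀ y, f x y = 0) → x = 0
  two : (2 : F) ≠ 0

theorem TForm.sym₂ {a b : ℕ} (S : TForm F a b) (hε : S.ε = -1) : Sym S.f₂ :=
  ⟨S.symm₂ hε, S.nd₂, S.two⟩

theorem TForm.sym₁ {a b : ℕ} (S : TForm F a b) (hε : S.ε = 1) : Sym S.f₁ :=
  ⟨S.symm₁ hε, S.nd₁, S.two⟩

/-- A non-zero vector orthogonal to fewer vectors than the dimension. -/
theorem exists_perp {k : ℕ} (f : (Fin m → F) →ₗ[F] (Fin m → F) →ₗ[F] F) (w : Fin k → (Fin m → F))
    (h : k < m) : ∃ x, x ≠ 0 ∧ ∀ i, f (w i) x = 0 := by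
  obtain ⟨x, hx, hx0⟩ := Submodule.exists_mem_ne_zero_of_ne_bot
    (LinearMap.ker_ne_bot_of_finrank_lt (f := LinearMap.pi fun i => f (w i))
      (by rw [finrank_fin_fun, finrank_fin_fun]; exact h))
  exact ⟨x, hx0, fun i => congrFun hx i⟩

namespace Sym

variable {f : (Fin m → F) →ₗ[F] (Fin m → F) →ₗ[F] F} (hf : Sym f)
include hf

theorem polar {x y : Fin m → F} (h : f x x = 0) (h' : f y y = 0) (h'' : f (x + y) (x + y) = 0) :
    f x y = 0 :=
  (mul_eq_zero.1 (show (2 : F) * f x y = 0 by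
    simp only [map_add, LinearMap.add_apply, h, h', hf.symm x y] at h''
    linear_combination h'')).resolve_left hf.two

/-- An orthogonal projection with non-zero image has an anisotropic image vector. -/
theorem exists_aniso_image (P : (Fin m → F) →ₗ[F] (Fin m → F))
    (hP : ∀ x y, f (P x) y = f (P x) (P y)) {x₀ : Fin m → F} (h : P x₀ ≠ 0) :
    ∃ x, f (P x) (P x) ≠ 0 := by
  by_contra hc
  push Not at hc
  refine h (hf.nd _ fun y => ?_)
  rw [hP]
  refine hf.polar (hc _) (hc _) ?_
  rw [← map_add]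
  exact hc _

/-- An anisotropic vector orthogonal to an anisotropic vector. -/
theorem exists_aniso_perp (hm : 2 ≤ m) {v : Fin m → F} (hv : f v v ≠ 0) :
    ∃ w, f v w = 0 ∧ f w w ≠ 0 := by
  let P : (Fin m → F) →ₗ[F] (Fin m → F) := LinearMap.id - ((f v v)⁻¹ • f v).smulRight v
  have hPv : ∀ x, f v (P x) = 0 := fun x => by
    simp [P]
    field_simp
    ring
  obtain ⟨x₀, hx₀, hx⟩ := exists_perp f ![v] (by omega)
  have hfix : P x₀ = x₀ := by
    have := hx 0
    simp at this
    simp [P, this]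
  obtain ⟨x, hx'⟩ := hf.exists_aniso_image P (fun x y => by
    have e : f (P x) v = 0 := by rw [hf.symm]; exact hPv x
    conv_rhs => arg 2; rw [show P y = y - ((f v v)⁻¹ * f v y) • v from rfl]
    rw [map_sub, map_smul, e, smul_zero, sub_zero]) (x₀ := x₀) (by rwa [hfix])
  exact ⟨P x, hPv x, hx'⟩

theorem exists_aniso (hm : 1 ≤ m) : ∃ v, f v v ≠ 0 := by
  refine hf.exists_aniso_image LinearMap.id (fun _ _ => rfl)
    (x₀ := Pi.single ⟨0, hm⟩ 1) fun h => ?_
  simpa using congrFun h ⟨0, hm⟩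

/-- An anisotropic vector orthogonal to two orthogonal anisotropic vectors. -/
theorem exists_aniso_perp₂ (hm : 3 ≤ m) {v w : Fin m → F} (hv : f v v ≠ 0) (hw : f w w ≠ 0)
    (hvw : f v w = 0) : ∃ u, f v u = 0 ∧ f w u = 0 ∧ f u u ≠ 0 := by
  let P : (Fin m → F) →ₗ[F] (Fin m → F) :=
    LinearMap.id - ((f v v)⁻¹ • f v).smulRight v - ((f w w)⁻¹ • f w).smulRight w
  have hwv : f w v = 0 := by rw [hf.symm, hvw]
  have hPv : ∀ x, f v (P x) = 0 := fun x => by
    simp [P, hvw]; field_simp; ring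
  have hPw : ∀ x, f w (P x) = 0 := fun x => by
    simp [P, hwv]; field_simp; ring
  obtain ⟨x₀, hx₀, hx⟩ := exists_perp f ![v, w] (by omega)
  have hfix : P x₀ = x₀ := by
    have h0 := hx 0
    have h1 := hx 1
    simp at h0 h1
    simp [P, h0, h1]
  obtain ⟨x, hx'⟩ := hf.exists_aniso_image P (fun x y => by
    have e : f (P x) v = 0 := by rw [hf.symm]; exact hPv x
    have e' : f (P x) w = 0 := by rw [hf.symm]; exact hPw x
    conv_rhs => arg 2; rw [show P y = y - ((f v v)⁻¹ * f v y) • v - ((f w w)⁻¹ * f w y) • w from rfl]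
    rw [map_sub, map_sub, map_smul, map_smul, e, e', smul_zero, smul_zero, sub_zero, sub_zero])
    (x₀ := x₀) (by rwa [hfix])
  exact ⟨P x, hPv x, hPw x, hx'⟩

/-- Three pairwise orthogonal anisotropic vectors span a singular vector. -/
theorem exists_singular_three [Finite F] {v w u : Fin m → F} (hv : f v v ≠ 0) (hw : f w w ≠ 0)
    (hvw : f v w = 0) (hvu : f v u = 0) (hwu : f w u = 0) :
    ∃ s t : F, f (s • v + t • w + u) (s • v + t • w + u) = 0 := by
  classical
  cases nonempty_fintype F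
  have hodd : ringChar F ≠ 2 := by
    intro h2
    have := ringChar.of_eq h2
    exact hf.two (CharTwo.two_eq_zero)
  obtain ⟨s, t, hst⟩ := FiniteField.exists_root_sum_quadratic
    (f := Polynomial.C (f v v) * Polynomial.X ^ 2)
    (g := Polynomial.C (f w w) * Polynomial.X ^ 2 + Polynomial.C (f u u))
    (Polynomial.degree_C_mul_X_pow 2 hv)
    (by rw [Polynomial.degree_add_C (by rw [Polynomial.degree_C_mul_X_pow 2 hw]; decide),
      Polynomial.degree_C_mul_X_pow 2 hw]; rfl)
    (FiniteField.odd_card_of_char_ne_two hodd)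
  simp only [Polynomial.eval_mul, Polynomial.eval_C, Polynomial.eval_pow, Polynomial.eval_X,
    Polynomial.eval_add] at hst
  refine ⟨s, t, ?_⟩
  simp only [map_add, map_smul, LinearMap.add_apply, LinearMap.smul_apply, smul_eq_mul, hvw, hvu,
    hwu, hf.symm v w, hf.symm v u, hf.symm w u]
  linear_combination hst

/-- A non-zero singular vector. -/
theorem exists_singular [Finite F] (hm : 3 ≤ m) : ∃ e, e ≠ 0 ∧ f e e = 0 := by
  obtain ⟨v, hv⟩ := hf.exists_aniso (by omega)
  obtain ⟨w, hvw, hw⟩ := hf.exists_aniso_perp (by omega) hv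
  obtain ⟨u, hvu, hwu, hu⟩ := hf.exists_aniso_perp₂ hm hv hw hvw
  obtain ⟨s, t, h⟩ := hf.exists_singular_three hv hw hvw hvu hwu
  refine ⟨_, fun h0 => hu ?_, h⟩
  have := congrArg (f u) h0
  simpa [hf.symm v u, hf.symm w u, hvu, hwu] using this

/-- Of a singular vector plus or minus an anisotropic one, one is anisotropic. -/
theorem aniso_shift {x v : Fin m → F} (hx : f x x = 0) (hv : f v v ≠ 0) :
    f (x + v) (x + v) ≠ 0 ∨ f (x - v) (x - v) ≠ 0 := by
  by_contra hc
  push Not at hc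
  obtain ⟨h1, h2⟩ := hc
  simp only [map_add, map_sub, LinearMap.add_apply, LinearMap.sub_apply, hx, hf.symm x v] at h1 h2
  refine hv ((mul_eq_zero.1 (show (2 : F) * f v v = 0 by linear_combination h1 + h2)).resolve_left hf.two)

/-- Linear maps killing all anisotropic vectors vanish. -/
theorem eq_zero_of_aniso {M : Type*} [AddCommGroup M] [Module F M] (hm : 1 ≤ m)
    (g : (Fin m → F) →ₗ[F] M) (h : ∀ x, f x x ≠ 0 → g x = 0) (x : Fin m → F) : g x = 0 := by
  obtain ⟨v, hv⟩ := hf.exists_aniso hm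
  by_cases hx : f x x = 0
  swap
  · exact h x hx
  rcases hf.aniso_shift hx hv with h' | h'
  · simpa [h v hv] using h _ h'
  · simpa [h v hv] using h _ h'

end Sym

end Cfsg.Agent.TensorInv
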