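import Cfsg.Agent.TensorInv.Reflections

/-!
The involution of the orthogonal factor attached to a conjugate of a reflection and a hyperbolic
pair of reflections (helper19).
-/

set_option autoImplicit false
set_option linter.unusedSectionVars false
set_option linter.unusedSimpArgs false

namespace Cfsg.Agent.TensorInv

open Matrix Cfsg.Agent.MaxSub Cfsg.Agent.TensorMax Module

variable {F : Type*} [Field F] {a b : ℕ}

theorem emb_right_inj {d : Fin a → F} (hd : d ≠ 0) {w w' : Fin b → F}
    (h : emb w d = emb w' d) : w = w' :=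
  emb_injective hd (by rw [← flipV_emb w d, ← flipV_emb w' d, h])

variable {S : TForm F a b} {H : Subgroup (GL (Fin a × Fin b) F)}

/-- Orthogonal anisotropic vectors with singular sum. -/
structure HPair (S : TForm F a b) (v₁ v₂ : Fin b → F) : Prop where
  h₁ : S.f₂ v₁ v₁ ≠ 0
  h₂ : S.f₂ v₂ v₂ ≠ 0
  h₁₂ : S.f₂ v₁ v₂ = 0
  sum : S.f₂ v₁ v₁ + S.f₂ v₂ v₂ = 0

/-- The product of the two reflections. -/
noncomputable abbrev refl₂ (S : TForm F a b) (v₁ v₂ : Fin b → F) : GL (Fin b) F :=
  refl S.f₂ v₁ * refl S.f₂ v₂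

namespace HPair

variable {v₁ v₂ : Fin b → F} (P : HPair S v₁ v₂)
include P

theorem refl₂_apply (x : Fin b → F) : act (refl₂ S v₁ v₂) x =
    x - (2 * S.f₂ v₁ x / S.f₂ v₁ v₁) • v₁ - (2 * S.f₂ v₂ x / S.f₂ v₂ v₂) • v₂ := by
  rw [refl₂, act_mul, refl_apply, refl_apply, map_sub, map_smul, P.h₁₂, smul_zero, sub_zero]
  abel

theorem refl₂_perp {x : Fin b → F} (h₁ : S.f₂ v₁ x = 0) (h₂ : S.f₂ v₂ x = 0) :
    act (refl₂ S v₁ v₂) x = x := by
  simp [P.refl₂_apply, h₁, h₂]

theorem refl₂_sum (hε : S.ε = -1) : act (refl₂ S v₁ v₂) (v₁ + v₂) = -(v₁ + v₂) := by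
  have := P.h₁
  have := P.h₂
  rw [P.refl₂_apply, map_add, map_add, P.h₁₂, S.symm₂ hε v₁ v₂, P.h₁₂]
  match_scalars <;> (field_simp; ring)

theorem refl₂_sq (hε : S.ε = -1) (x : Fin b → F) :
    act (refl₂ S v₁ v₂) (act (refl₂ S v₁ v₂) x) = x := by
  have := P.h₁
  have := P.h₂
  simp only [P.refl₂_apply, map_sub, map_smul, smul_eq_mul, P.h₁₂, S.symm₂ hε v₁ v₂, mul_zero,
    sub_zero]
  match_scalars <;> field_simp <;> ring

theorem refl₂_form (hε : S.ε = -1) (x y : Fin b → F) :
    S.f₂ (act (refl₂ S v₁ v₂) x) (act (refl₂ S v₁ v₂) y) = S.f₂ x y := by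
  rw [refl₂, act_mul, act_mul, refl_form (S.symm₂ hε) P.h₁, refl_form (S.symm₂ hε) P.h₂]

end HPair

/-- The data of the involution attached to `y` and a pair. -/
structure Twin (S : TForm F a b) (y : GL (Fin a × Fin b) F) (v₁ v₂ : Fin b → F)
    (K : GL (Fin b) F) : Prop where
  form : ∀ v w, S.f₂ (act K v) (act K w) = S.f₂ v w
  sq : ∀ x, act K (act K x) = x
  ne : ∃ x, act K x ≠ x
  commU : ∀ x, act K (act (refl₂ S v₁ v₂) x) = act (refl₂ S v₁ v₂) (act K x)
  comm : y * kr 1 K = kr 1 K * y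
  two_neg : ∀ w w', S.f₂ w w ≠ 0 → S.f₂ w' w' ≠ 0 → S.f₂ w w' = 0 → S.f₂ v₁ w = 0 →
    S.f₂ v₂ w = 0 → S.f₂ v₁ w' = 0 → S.f₂ v₂ w' = 0 → act K w = -w → act K w' = -w' → False
  fix_neg : ∀ w, S.f₂ w w ≠ 0 → S.f₂ v₁ w = 0 → S.f₂ v₂ w = 0 → Fix y w → act K w ≠ -w

/-- The exceptional behaviour of `y` at a pair. -/
structure Flat (S : TForm F a b) (y : GL (Fin a × Fin b) F) (v₁ v₂ : Fin b → F) : Prop where
  big : 3 ≤ a
  exists_fix : ∃ D : Submodule F (Fin a → F), a < 2 * finrank F D ∧
    ∀ p, S.f₂ v₁ p = 0 → S.f₂ v₂ p = 0 → ∀ x ∈ D, act y (emb p x) = emb p x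
  no_fix : ∀ w, S.f₂ w w ≠ 0 → S.f₂ v₁ w = 0 → S.f₂ v₂ w = 0 → Fix y w → False

variable [Finite F]

/-- The image of the moved space of `y` in the orthogonal space of a pair. -/
noncomputable abbrev movedImage (y : GL (Fin a × Fin b) F) (v₁ v₂ : Fin b → F) : Submodule F (V F a b) :=
  Submodule.map (act (kr (1 : GL (Fin a) F) (refl₂ S v₁ v₂)) + LinearMap.id)
    (LinearMap.range (act y - LinearMap.id))

/-- The central involution of the dihedral group generated by `y` and a pair. -/
theorem exists_involution (O : Over S H) (hε : S.ε = -1) (ha : 1 ≤ a)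
    {y : GL (Fin a × Fin b) F} (hy : IsX S H y) {v₁ v₂ : Fin b → F} (P : HPair S v₁ v₂) :
    ∃ (z : GL (Fin a × Fin b) F) (k₂ : ℕ), z ∈ H ∧ z * z = 1 ∧ z ≠ 1 ∧
      z = (kr 1 (refl₂ S v₁ v₂) * y) ^ k₂ ∧
      kr 1 (refl₂ S v₁ v₂) * z = z * kr 1 (refl₂ S v₁ v₂) ∧ y * z = z * y ∧
      ∀ w, (act (kr (1 : GL (Fin a) F) (refl₂ S v₁ v₂)) + LinearMap.id :
        V F a b →ₗ[F] V F a b) (act z w - w) ∈
        movedImage y v₁ v₂ (S := S) := by
  classical
  have hf := S.sym₂ hε
  set xU := kr (1 : GL (Fin a) F) (refl₂ S v₁ v₂) with hxU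
  have hxUH : xU ∈ H := O.right (P.refl₂_form hε)
  have hyH := hy.mem O hε
  have hxU2 : ∀ z, act xU (act xU z) = z := fun z => by
    refine ext_emb (f := act xU ∘ₗ act xU) (g := LinearMap.id) (fun w x => ?_) z
    rw [LinearMap.comp_apply, hxU, act_kr, act_kr, act_one, act_one, P.refl₂_sq hε,
      LinearMap.id_apply]
  have hxUsq : xU * xU = 1 := gl_ext fun z => by
    show act (xU * xU) z = act (1 : GL (Fin a × Fin b) F) z
    rw [act_mul, hxU2, act_one]
  set r := xU * y with hr
  set Q := act xU + LinearMap.id with hQ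
  set M := Submodule.map Q (LinearMap.range (act y - LinearMap.id))
  have hM : finrank F M ≤ a := (Submodule.finrank_map_le _ _).trans hy.moved
  have hpow : ∀ (k : ℕ) (w : V F a b), Q (act (r ^ k) w - w) ∈ M := by
    intro k
    induction k with
    | zero => intro w; rw [pow_zero, act_one, sub_self, map_zero]; exact zero_mem _
    | succ k ih =>
      intro w
      rw [pow_succ', act_mul]
      set u := act (r ^ k) w
      have e1 : Q (act r u - u) = Q ((act y - LinearMap.id : V F a b →ₗ[F] V F a b) u) := by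
        rw [hr, act_mul]
        simp only [hQ, LinearMap.add_apply, LinearMap.id_apply, LinearMap.sub_apply, map_sub,
          hxU2]
        abel
      have e2 : Q (act r u - w) = Q (act r u - u) + Q (u - w) := by
        rw [← map_add, sub_add_sub_cancel]
      rw [e2, e1]
      exact add_mem (Submodule.mem_map_of_mem (LinearMap.mem_range_self _ u)) (ih w)
  obtain ⟨z₀, hz₀, hxz, hyz⟩ : ∃ z₀, z₀ ≠ 0 ∧ act xU z₀ = -z₀ ∧ act y z₀ = z₀ := by
    let L : (Fin a → F) × (Fin a → F) →ₗ[F] V F a b := (emb v₁).coprod (emb v₂)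
    have hLi : Function.Injective L := (injective_iff_map_eq_zero _).2 fun p hp => by
      simp only [L, LinearMap.coprod_apply] at hp
      have e1 := congrArg (S.pi v₁) hp
      have e2 := congrArg (S.pi v₂) hp
      simp only [map_add, S.pi_emb, map_zero, P.h₁₂, S.symm₂ hε v₁ v₂, zero_smul, add_zero,
        zero_add, smul_eq_zero, P.h₁, P.h₂, false_or] at e1 e2
      exact Prod.ext e1 e2
    obtain ⟨p, hp, hp0⟩ : ∃ p ∈ LinearMap.ker ((act y - LinearMap.id) ∘ₗ L), p ≠ 0 := by
      refine Submodule.exists_mem_ne_zero_of_ne_bot fun hbot => ?_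
      have h1 := LinearMap.finrank_range_add_finrank_ker ((act y - LinearMap.id) ∘ₗ L)
      rw [hbot, finrank_bot, Module.finrank_prod, finrank_fin_fun] at h1
      have h2 := (Submodule.finrank_mono (LinearMap.range_comp_le_range L _)).trans hy.moved
      omega
    refine ⟨L p, fun h0 => hp0 (hLi (by rw [h0, map_zero])), ?_, ?_⟩
    · simp only [L, LinearMap.coprod_apply, map_add, hxU, act_kr, act_one]
      have k1 : act (refl₂ S v₁ v₂) v₁ = -v₁ := by
        have := P.h₁
        rw [P.refl₂_apply, S.symm₂ hε v₁ v₂, P.h₁₂]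
        match_scalars <;> field_simp <;> ring
      have k2 : act (refl₂ S v₁ v₂) v₂ = -v₂ := by
        have := P.h₂
        rw [P.refl₂_apply, P.h₁₂]
        match_scalars <;> field_simp <;> ring
      rw [k1, k2, emb_neg_left, emb_neg_left]
      abel
    · simpa [sub_eq_zero] using hp
  have hrz : ∀ k : ℕ, act (r ^ k) z₀ = (-1 : F) ^ k • z₀ := by
    intro k
    induction k with
    | zero => rw [pow_zero, pow_zero, act_one, one_smul]
    | succ k ih =>
      rw [pow_succ', act_mul, ih, map_smul, hr, act_mul, hyz, hxz, pow_succ, mul_neg_one,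
        neg_smul, smul_neg]
  have hn0 : 0 < orderOf r := orderOf_pos r
  obtain ⟨k₂, hk₂⟩ : Even (orderOf r) := by
    rcases Nat.even_or_odd (orderOf r) with h | h
    · exact h
    have e := hrz (orderOf r)
    rw [pow_orderOf_eq_one, act_one, h.neg_one_pow, neg_one_smul] at e
    refine absurd ?_ hz₀
    exact (smul_eq_zero.1 (show (2 : F) • z₀ = 0 by
      linear_combination (norm := module) e)).resolve_left S.two
  set z := r ^ k₂ with hzdef
  have hzz : z * z = 1 := by rw [hzdef, ← pow_add, ← hk₂, pow_orderOf_eq_one]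
  have hz1 : z ≠ 1 := pow_ne_one_of_lt_orderOf (by omega) (by omega)
  have hzinv : z⁻¹ = z := inv_eq_of_mul_eq_one_right hzz
  have hzH : z ∈ H := pow_mem (mul_mem hxUH hyH) _
  have hzinv' : (r⁻¹) ^ k₂ = z := by rw [inv_pow, ← hzdef, hzinv]
  have hzx : xU * z = z * xU := by
    have hs : SemiconjBy xU r r⁻¹ := by
      show xU * r = r⁻¹ * xU
      rw [hr, _root_.mul_inv_rev, mul_assoc, inv_mul_cancel, mul_one, hy.inv_eq, ← mul_assoc, hxUsq,
        one_mul]
    have := (hs.pow_right k₂).eq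
    rwa [hzinv'] at this
  have hzy : y * z = z * y := by
    have hs : SemiconjBy y r r⁻¹ := by
      show y * r = r⁻¹ * y
      rw [hr, _root_.mul_inv_rev, hy.inv_eq, inv_eq_of_mul_eq_one_right hxUsq]
      group
    have := (hs.pow_right k₂).eq
    rwa [hzinv'] at this
  exact ⟨z, k₂, hzH, hzz, hz1, rfl, hzx, hzy, hpow k₂⟩

/-- The existence of the involution. -/
theorem exists_twin (O : Over S H) (hε : S.ε = -1) (hR : ¬ Root S H) (ha : 1 ≤ a) (hab : a ≤ b + 1)
    (hb : 5 ≤ b) {y : GL (Fin a × Fin b) F} (hy : IsX S H y) {v₁ v₂ : Fin b → F}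
    (P : HPair S v₁ v₂) : (∃ K, Twin S y v₁ v₂ K) ∨ Flat S y v₁ v₂ := by
  classical
  have hf := S.sym₂ hε
  set xU := kr (1 : GL (Fin a) F) (refl₂ S v₁ v₂) with hxU
  have hxUH : xU ∈ H := O.right (P.refl₂_form hε)
  have hyH := hy.mem O hε
  set Q := act xU + LinearMap.id with hQ
  set M := Submodule.map Q (LinearMap.range (act y - LinearMap.id))
  have hM : finrank F M ≤ a := (Submodule.finrank_map_le _ _).trans hy.moved
  obtain ⟨z, k₂, hzH, hzz, hz1, -, hzx, hzy, hpow⟩ := exists_involution O hε ha hy P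
  have hzinv : z⁻¹ = z := inv_eq_of_mul_eq_one_right hzz
  -- `z` lies in the tensor stabiliser
  have hsum : S.f₂ (v₁ + v₂) (v₁ + v₂) = 0 := by
    simp [S.symm₂ hε v₁ v₂, P.h₁₂, P.sum]
  have hsum0 : v₁ + v₂ ≠ 0 := fun h0 => P.h₁ (by
    simpa [P.h₁₂] using congrArg (S.f₂ v₁) h0)
  have hconj : ∀ t, S.f₂ t t ≠ 0 → S.f₂ v₁ t = 0 → S.f₂ v₂ t = 0 →
      z * xr S t * z⁻¹ ∈ Cfsg.Geo.kroneckerSubgroup a b F := by
    intro t ht h1 h2
    refine kron_of_fix_singular O hε hR ha (by omega)
      (mul_mem (mul_mem hzH (xr_mem O hε ht)) (inv_mem hzH)) hsum0 hsum fun x => ?_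
    have h0 : S.pi t (act z (emb (v₁ + v₂) x)) = 0 :=
      pi_of_comm (P.refl₂_form hε) hzx.symm (σ := -1) (τ := 1)
        (by rw [P.refl₂_sum hε, neg_one_smul]) (by rw [P.refl₂_perp h1 h2, one_smul]) (one_mul 1)
        (fun h => S.two (by linear_combination -h)) x
    rw [hzinv, act_mul, act_mul, xr_fix h0, ← act_mul, hzz, act_one]
  obtain ⟨T, hT, hTv⟩ := hf.exists_three_fam (hf.fam_two P.h₁ P.h₂ P.h₁₂) (by omega)
  obtain ⟨u, n, hu, hn, hnn, hun, hperp⟩ := hf.exists_good_three hT
  have hv1 := hperp v₁ fun j => by simpa using hTv 0 j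
  have hv2 := hperp v₂ fun j => by simpa using hTv 1 j
  have hnu : S.f₂ n u = 0 := by rw [S.symm₂ hε, hun]
  have hzK : z ∈ Cfsg.Geo.kroneckerSubgroup a b F := by
    refine kron_of_good O hε hR ha hab (by omega) hzH hu hn hnn hun (hconj u hu hv1.1 hv2.1)
      (hconj (u + n) ?_ ?_ ?_) (hconj (n - u) ?_ ?_ ?_)
    all_goals simp [hnn, hun, hnu, hv1.1, hv1.2, hv2.1, hv2.2, hu]
  obtain ⟨g, k, hgk⟩ := hzK
  have hgk' : z = kr g k := Units.ext hgk
  set d₀ : Fin a → F := fun _ => 1
  have hd₀ : d₀ ≠ 0 := fun h => one_ne_zero (congrFun h ⟨0, ha⟩)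
  have hgd₀ : act g d₀ ≠ 0 := fun h => hd₀ (act_injective g (by rw [h, map_zero]))
  have hkU : ∀ w, act k (act (refl₂ S v₁ v₂) w) = act (refl₂ S v₁ v₂) (act k w) := fun w => by
    refine emb_right_inj hgd₀ ?_
    have e := congrArg (fun M : GL (Fin a × Fin b) F => act M (emb w d₀)) hzx
    rw [hgk'] at e
    rw [act_mul (kr (1 : GL (Fin a) F) (refl₂ S v₁ v₂)), act_mul (kr g k), act_kr, act_kr,
      act_kr, act_kr, act_one, act_one] at e
    exact e.symm
  have hin : ∀ w, S.f₂ v₁ w = 0 → S.f₂ v₂ w = 0 → ∀ x,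
      emb (act k w) (act g x) - emb w x ∈ M := by
    intro w h1 h2 x
    have e : Q (act z (emb w x) - emb w x) = (2 : F) • (emb (act k w) (act g x) - emb w x) := by
      simp only [hQ, LinearMap.add_apply, LinearMap.id_apply, map_sub, hgk', hxU, act_kr,
        act_one]
      rw [← hkU, P.refl₂_perp h1 h2]
      module
    have := M.smul_mem (2 : F)⁻¹ (e ▸ hpow (emb w x))
    rwa [smul_smul, inv_mul_cancel₀ S.two, one_smul] at this
  set Up := LinearMap.ker (LinearMap.pi ![S.f₂ v₁, S.f₂ v₂])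
  have hmemUp : ∀ {w}, w ∈ Up → S.f₂ v₁ w = 0 ∧ S.f₂ v₂ w = 0 := fun {w} hw =>
    ⟨congrFun (LinearMap.mem_ker.1 hw) 0, congrFun (LinearMap.mem_ker.1 hw) 1⟩
  have hUp : b ≤ finrank F Up + 2 := by
    have h1 := LinearMap.finrank_range_add_finrank_ker (LinearMap.pi ![S.f₂ v₁, S.f₂ v₂])
    have h2 := (LinearMap.range (LinearMap.pi ![S.f₂ v₁, S.f₂ v₂])).finrank_le
    rw [finrank_fin_fun] at h1 h2
    show b ≤ finrank F (LinearMap.ker _) + 2
    omega
  obtain ⟨c, hc⟩ | hflat : (∃ c : F, ∀ x, act g x = c • x) ∨ Flat S y v₁ v₂ := by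
    by_cases hcase : ∃ w ∈ Up, act k w ∉ Submodule.span F {w}
    · obtain ⟨w, hw, hkw⟩ := hcase
      obtain ⟨φ, hφ, hφ'⟩ := Submodule.exists_dual_map_eq_bot_of_notMem hkw inferInstance
      have hφw : φ w = 0 := by
        have : φ w ∈ Submodule.map φ (Submodule.span F {w}) :=
          Submodule.mem_map_of_mem (Submodule.mem_span_singleton_self w)
        rwa [hφ', Submodule.mem_bot] at this
      obtain ⟨d, hd⟩ := S.exists_rep₂ φ
      let L : (Fin a → F) →ₗ[F] V F a b := emb (act k w) ∘ₗ act g - emb w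
      have hLi : Function.Injective L := (injective_iff_map_eq_zero _).2 fun x hx => by
        have e := congrArg (S.pi d) hx
        simp only [L, LinearMap.sub_apply, LinearMap.comp_apply, map_sub, S.pi_emb, hd, hφw,
          zero_smul, sub_zero, map_zero, smul_eq_zero, hφ, false_or] at e
        exact act_injective g (by rw [e, map_zero])
      have hLM : LinearMap.range L = M := Submodule.eq_of_le_of_finrank_le
        (by rintro _ ⟨x, rfl⟩; exact hin w (hmemUp hw).1 (hmemUp hw).2 x)
        (by rw [LinearMap.finrank_range_of_inj hLi, finrank_fin_fun]; exact hM)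
      obtain ⟨w', hw', hw's⟩ : ∃ w' ∈ Up, w' ∉ Submodule.span F (Set.range ![w, act k w]) := by
        by_contra hn'
        push Not at hn'
        have h1 := Submodule.finrank_mono (s := Up)
          (t := Submodule.span F (Set.range ![w, act k w])) hn'
        have h2 : finrank F (Submodule.span F (Set.range ![w, act k w])) ≤ Fintype.card (Fin 2) :=
          finrank_range_le_card (R := F) ![w, act k w]
        rw [Fintype.card_fin] at h2
        omega
      obtain ⟨φ', hφ₁, hφ₂⟩ := Submodule.exists_dual_map_eq_bot_of_notMem hw's inferInstance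
      have hφi : ∀ i, φ' (![w, act k w] i) = 0 := fun i => by
        have : φ' (![w, act k w] i) ∈ Submodule.map φ' (Submodule.span F (Set.range ![w, act k w])) :=
          Submodule.mem_map_of_mem (Submodule.subset_span ⟨i, rfl⟩)
        rwa [hφ₂, Submodule.mem_bot] at this
      obtain ⟨d', hd'⟩ := S.exists_rep₂ φ'
      have key : ∀ x, φ' (act k w') • act g x = φ' w' • x := fun x => by
        obtain ⟨x', hx'⟩ : emb (act k w') (act g x) - emb w' x ∈ LinearMap.range L :=
          hLM.symm ▸ hin w' (hmemUp hw').1 (hmemUp hw').2 x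
        have e := congrArg (S.pi d') hx'
        have h0 : φ' w = 0 := hφi 0
        have h1 : φ' (act k w) = 0 := hφi 1
        simp only [L, LinearMap.sub_apply, LinearMap.comp_apply, map_sub, S.pi_emb, hd', h0, h1,
          zero_smul, sub_zero] at e
        exact sub_eq_zero.1 e.symm
      have hne : φ' (act k w') ≠ 0 := fun h0 => by
        have e := key d₀
        rw [h0, zero_smul] at e
        exact (smul_ne_zero hφ₁ hd₀) e.symm
      exact Or.inl ⟨(φ' (act k w'))⁻¹ * φ' w', fun x => by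
        rw [← smul_smul, ← key, inv_smul_smul₀ hne]⟩
    push Not at hcase
    obtain ⟨w, hwq, hwv⟩ := hf.exists_aniso_fam (hf.fam_two P.h₁ P.h₂ P.h₁₂) (by omega)
    have h1w : S.f₂ v₁ w = 0 := by simpa using hwv 0
    have h2w : S.f₂ v₂ w = 0 := by simpa using hwv 1
    have hwUp : w ∈ Up := LinearMap.mem_ker.2 (funext fun i => by fin_cases i <;> simp [h1w, h2w])
    have hw0 : w ≠ 0 := fun h0 => by simp [h0] at hwq
    obtain ⟨c, hcw⟩ := Submodule.mem_span_singleton.1 (hcase w hwUp)
    have hscal : ∀ p ∈ Up, act k p = c • p := by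
      intro p hp
      obtain ⟨c', hc'⟩ := Submodule.mem_span_singleton.1 (hcase p hp)
      by_cases hs : p ∈ Submodule.span F {w}
      · obtain ⟨s, rfl⟩ := Submodule.mem_span_singleton.1 hs
        rw [map_smul, ← hcw, smul_comm]
      obtain ⟨c'', hc''⟩ := Submodule.mem_span_singleton.1 (hcase _ (add_mem hwUp hp))
      rw [map_add, ← hcw, ← hc'] at hc''
      have e : c'' = c' := by
        by_contra hne
        refine hs (Submodule.mem_span_singleton.2 ⟨(c'' - c')⁻¹ * (c - c''), ?_⟩)
        rw [← smul_smul, inv_smul_eq_iff₀ (sub_ne_zero.2 hne)]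
        linear_combination (norm := module) -hc''
      subst e
      have e2 : (c'' - c) • w = 0 := by linear_combination (norm := module) hc''
      rw [← hc', sub_eq_zero.1 ((smul_eq_zero.1 e2).resolve_right hw0)]
    have hc0 : c ≠ 0 := fun h0 => hw0 (act_injective k (by rw [← hcw, h0, zero_smul, map_zero]))
    set G : (Fin a → F) →ₗ[F] (Fin a → F) := c • act g with hG
    have hzG : ∀ p ∈ Up, ∀ x, act z (emb p x) = emb p (G x) := fun p hp x => by
      rw [hgk', act_kr, hscal p hp, hG, LinearMap.smul_apply, map_smul, emb_smul_left]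
    have hGf : ∀ x x', S.f₁ (G x) (G x') = S.f₁ x x' := fun x x' => by
      have e := S.om_act (O.isom hzH) (emb w x) (emb w x')
      rw [hzG w hwUp, hzG w hwUp, S.om_emb_emb, S.om_emb_emb] at e
      exact mul_right_cancel₀ hwq e
    have hGG : ∀ x, G (G x) = x := fun x => by
      refine emb_injective hw0 ?_
      rw [← hzG w hwUp, ← hzG w hwUp, ← act_mul, hzz, act_one]
    by_cases hG1 : ∀ x, G x = x
    · refine Or.inl ⟨c⁻¹, fun x => ?_⟩
      rw [eq_inv_smul_iff₀ hc0]
      simpa [hG] using hG1 x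
    push Not at hG1
    obtain ⟨x, hx⟩ := hG1
    set e := G x - x with he
    have he0 : e ≠ 0 := sub_ne_zero.2 hx
    have hGe : G e = -e := by rw [he, map_sub, hGG]; abel
    obtain ⟨p, hp⟩ : ∃ p, G p - p ∉ Submodule.span F {e} := by
      by_contra hn
      push Not at hn
      refine he0 (S.nd₁' fun p => ?_)
      obtain ⟨l, hl⟩ := Submodule.mem_span_singleton.1 (hn p)
      have e' := hGf p e
      rw [hGe, show G p = p + l • e from by rw [hl]; abel, map_neg, map_add, LinearMap.add_apply,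
        map_smul, LinearMap.smul_apply, S.alt₁ hε, smul_zero, add_zero] at e'
      exact (mul_eq_zero.1 (show (2 : F) * S.f₁ p e = 0 by
        linear_combination -e')).resolve_left S.two
    let Φ : Up × Up →ₗ[F] V F a b :=
      (embR e ∘ₗ Up.subtype).coprod (embR (G p - p) ∘ₗ Up.subtype)
    have hpiΦ : ∀ t (q : Up × Up),
        S.pi t (Φ q) = S.f₂ t q.1.1 • e + S.f₂ t q.2.1 • (G p - p) := fun t q => by
      simp only [Φ, LinearMap.coprod_apply, LinearMap.comp_apply, Submodule.coe_subtype]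
      rw [map_add, show embR e q.1.1 = emb q.1.1 e from rfl,
        show embR (G p - p) q.2.1 = emb q.2.1 (G p - p) from rfl, S.pi_emb, S.pi_emb]
    have hΦi : Function.Injective Φ := (injective_iff_map_eq_zero _).2 fun q hq => by
      have hq' : ∀ t, S.f₂ t q.1.1 • e + S.f₂ t q.2.1 • (G p - p) = 0 := fun t => by
        rw [← hpiΦ, hq, map_zero]
      have h2 : ∀ t, S.f₂ t q.2.1 = 0 := fun t => by
        by_contra h
        refine hp (Submodule.mem_span_singleton.2 ⟨-(S.f₂ t q.2.1)⁻¹ * S.f₂ t q.1.1, ?_⟩)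
        rw [← smul_smul, neg_smul, neg_eq_iff_eq_neg, inv_smul_eq_iff₀ h]
        linear_combination (norm := module) hq' t
      have h1 : ∀ t, S.f₂ t q.1.1 = 0 := fun t => by
        have := hq' t
        rw [h2, zero_smul, add_zero, smul_eq_zero] at this
        exact this.resolve_right he0
      exact Prod.ext (Subtype.ext (S.nd₂' h1)) (Subtype.ext (S.nd₂' h2))
    have hGM : ∀ q ∈ Up, ∀ t, emb q (G t - t) ∈ M := fun q hq t => by
      have := hin q (hmemUp hq).1 (hmemUp hq).2 t
      rwa [hscal _ hq, emb_smul_left, ← map_smul, ← map_sub] at this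
    have hΦM : LinearMap.range Φ ≤ M := by
      rintro _ ⟨⟨q₁, q₂⟩, rfl⟩
      simp only [Φ, LinearMap.coprod_apply, LinearMap.comp_apply, Submodule.coe_subtype]
      exact add_mem (hGM q₁.1 q₁.2 x) (hGM q₂.1 q₂.2 p)
    have hΦd : finrank F (LinearMap.range Φ) = finrank F Up + finrank F Up := by
      rw [LinearMap.finrank_range_of_inj hΦi, Module.finrank_prod]
    have hle : finrank F Up + finrank F Up ≤ a :=
      hΦd.ge.trans ((Submodule.finrank_mono hΦM).trans hM)
    have hMeq : LinearMap.range Φ = M :=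
      Submodule.eq_of_le_of_finrank_le hΦM (hM.trans (by rw [hΦd]; omega))
    right
    refine ⟨by omega, ⟨LinearMap.ker (G - LinearMap.id), ?_, ?_⟩, ?_⟩
    · have h1 := LinearMap.finrank_range_add_finrank_ker (G - LinearMap.id)
      have h2 : finrank F (LinearMap.range (G - LinearMap.id)) ≤ 2 := by
        refine le_trans (Submodule.finrank_mono
          (t := Submodule.span F (Set.range ![e, G p - p])) ?_)
          ((finrank_range_le_card (R := F) ![e, G p - p]).trans_eq (Fintype.card_fin 2))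
        rintro _ ⟨t, rfl⟩
        obtain ⟨q, hq⟩ : emb w (G t - t) ∈ LinearMap.range Φ := hMeq.symm ▸ hGM w hwUp t
        have e2 := congrArg (S.pi w) hq
        rw [hpiΦ, S.pi_emb] at e2
        rw [LinearMap.sub_apply, LinearMap.id_apply, ← inv_smul_smul₀ hwq (G t - t), ← e2]
        exact Submodule.smul_mem _ _ (add_mem
          (Submodule.smul_mem _ _ (Submodule.subset_span ⟨0, rfl⟩))
          (Submodule.smul_mem _ _ (Submodule.subset_span ⟨1, rfl⟩)))
      rw [finrank_fin_fun] at h1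
      show a < 2 * finrank F (LinearMap.ker _)
      omega
    · intro q h1 h2 t ht
      rw [LinearMap.mem_ker, LinearMap.sub_apply, LinearMap.id_apply, sub_eq_zero] at ht
      have hdisp : ∀ t', S.f₁ t (G t' - t') = 0 := fun t' => by
        rw [map_sub, ← hGf t t', ht, sub_self]
      refine sub_eq_zero.1 (S.eq_of_om fun u => ?_)
      have hadj : S.om u (act y (emb q t)) = S.om (act y u) (emb q t) := by
        rw [← S.om_act (O.isom hyH) u (act y (emb q t)), hy.invo]
      rw [S.om_sub_right, S.om_zero_right, hadj, ← S.om_sub_left, S.om_emb_right, neg_eq_zero]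
      set r₀ := act y u - u with hr₀
      obtain ⟨q', hq'⟩ : Q r₀ ∈ LinearMap.range Φ := hMeq.symm ▸
        Submodule.mem_map_of_mem ⟨u, rfl⟩
      have e2 := congrArg (S.pi q) hq'
      simp only [hQ, LinearMap.add_apply, LinearMap.id_apply, map_add, hxU,
        S.pi_kr _ (P.refl₂_form hε), act_one, hpiΦ] at e2
      rw [show act (refl₂ S v₁ v₂)⁻¹ q = q from act_injective (refl₂ S v₁ v₂)
        (by rw [act_act_inv, P.refl₂_perp h1 h2])] at e2
      have e3 := congrArg (S.f₁ t) e2
      simp only [map_add, map_smul, he, hdisp, smul_zero, add_zero] at e3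
      exact (mul_eq_zero.1 (show (2 : F) * S.f₁ t (S.pi q r₀) = 0 by
        linear_combination -e3)).resolve_left S.two
    · intro w' hw' h1 h2 hfix
      have hmem : emb w' e ∈ M := hGM w' (LinearMap.mem_ker.2 (funext fun i => by
        fin_cases i <;> simp [h1, h2])) x
      obtain ⟨_, ⟨u, rfl⟩, hu'⟩ := hmem
      have e2 := congrArg (S.pi w') hu'
      simp only [hQ, LinearMap.add_apply, LinearMap.id_apply, map_add, LinearMap.sub_apply,
        map_sub, hxU, S.pi_kr _ (P.refl₂_form hε), act_one, S.pi_emb] at e2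
      rw [show act (refl₂ S v₁ v₂)⁻¹ w' = w' from act_injective (refl₂ S v₁ v₂)
        (by rw [act_act_inv, P.refl₂_perp h1 h2]), pi_of_fix (O.isom hyH) hfix, sub_self] at e2
      exact smul_ne_zero hw' he0 e2.symm
  swap
  · exact Or.inr hflat
  have hc0 : c ≠ 0 := fun h0 => hgd₀ (by rw [hc, h0, zero_smul])
  let K : GL (Fin b) F := mkGL (c • act k) (c⁻¹ • act k⁻¹)
    (fun x => by simp [act_act_inv, hc0, smul_smul, -Units.val_smul])
    (fun x => by simp [act_inv_act, hc0, smul_smul, -Units.val_smul])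
  have hKap : ∀ w, act K w = c • act k w := fun w => mkGL_mulVec _ _ _ _ w
  have hzK : z = kr 1 K := gl_ext_emb fun v x => by
    rw [hgk', act_kr, act_kr, act_one, hc, hKap, map_smul, emb_smul_left]
  obtain ⟨p₀, q₀, hpq⟩ : ∃ p q, S.f₁ p q ≠ 0 := by
    by_contra hn'
    push Not at hn'
    exact hd₀ (S.nd₁ d₀ (hn' d₀))
  have hKsq : ∀ w, act K (act K w) = w := fun w => by
    refine emb_right_inj hd₀ ?_
    have e := congrArg (fun M : GL (Fin a × Fin b) F => act M (emb w d₀)) hzz
    simpa only [act_mul, hzK, act_kr, act_one] using e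
  refine Or.inl ⟨K, fun v w => ?_, hKsq, ?_, fun w => ?_, by rw [← hzK, hzy], ?_, ?_⟩
  · have e := S.om_act (O.isom hzH) (emb v p₀) (emb w q₀)
    rw [hzK, act_kr, act_kr, act_one, act_one, S.om_emb_emb, S.om_emb_emb] at e
    exact mul_left_cancel₀ hpq e
  · by_contra hn'
    push Not at hn'
    exact hz1 (gl_ext_emb fun v x => by rw [hzK, act_kr, act_one, act_one, hn'])
  · rw [hKap, hKap, hkU, map_smul]
  · intro w w' hw hw' hww' h1 h2 h1' h2' hK hK'
    let L : (Fin a → F) × (Fin a → F) →ₗ[F] V F a b := (emb w).coprod (emb w')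
    have hLi : Function.Injective L := (injective_iff_map_eq_zero _).2 fun p hp => by
      simp only [L, LinearMap.coprod_apply] at hp
      have e1 := congrArg (S.pi w) hp
      have e2 := congrArg (S.pi w') hp
      simp only [map_add, S.pi_emb, map_zero, hww', S.symm₂ hε w w', zero_smul, add_zero,
        zero_add, smul_eq_zero, hw, hw', false_or] at e1 e2
      exact Prod.ext e1 e2
    have hmem : ∀ (v : Fin b → F), S.f₂ v₁ v = 0 → S.f₂ v₂ v = 0 → act K v = -v → ∀ x,
        emb v x ∈ M := fun v g1 g2 gK x => by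
      have e := hin v g1 g2 x
      rw [hc, ← emb_smul_comm, ← hKap, gK, emb_neg_left] at e
      have := M.smul_mem (-(2 : F)⁻¹) e
      rwa [show -(2 : F)⁻¹ • (-emb v x - emb v x) = emb v x from by
        match_scalars; field_simp [S.two]; ring] at this
    have hLM : LinearMap.range L ≤ M := by
      rintro _ ⟨⟨x, x'⟩, rfl⟩
      exact add_mem (hmem w h1 h2 hK x) (hmem w' h1' h2' hK' x')
    have := (Submodule.finrank_mono hLM).trans hM
    rw [LinearMap.finrank_range_of_inj hLi, Module.finrank_prod, finrank_fin_fun] at this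
    omega
  · intro w hw h1 h2 hfix hK
    refine hd₀ (S.nd₁' fun x' => ?_)
    have e := hin w h1 h2 d₀
    rw [hc, ← emb_smul_comm, ← hKap, hK, emb_neg_left] at e
    obtain ⟨_, ⟨q, rfl⟩, hq⟩ := e
    have e3 : S.om (emb w x') (act y q - q) = 0 := by
      rw [S.om_sub_right, sub_eq_zero]
      conv_lhs => rw [← hfix x']
      rw [S.om_act (O.isom hyH)]
    have hxw : act xU (emb w x') = emb w x' := by
      rw [hxU, act_kr, act_one, P.refl₂_perp h1 h2]
    have e4 : S.om (emb w x') (act xU (act y q - q)) = 0 := by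
      conv_lhs => arg 2; rw [← hxw]
      rw [S.om_act (O.isom hxUH), e3]
    have e5 := congrArg (S.om (emb w x')) hq
    simp only [hQ, LinearMap.sub_apply, LinearMap.add_apply, LinearMap.id_apply] at e5
    rw [S.om_add_right, e4, e3, add_zero, S.om_sub_right, S.om_neg_right, S.om_emb_emb] at e5
    exact (mul_eq_zero.1 ((mul_eq_zero.1 (show (2 : F) * (S.f₁ x' d₀ * S.f₂ w w) = 0 by
      linear_combination e5)).resolve_left S.two)).resolve_right hw

end Cfsg.Agent.TensorInv
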